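import Cfsg.Agent.PLocal.SubnormalCore

/-!
# TwoFar, THEOREM LL (#18157), section 4: a transvection with centre outside `Λ`, two blocks

`H` a finite group on a finite `F₂`-space `M`; `IsT t d φ` : `t` is the transvection `m ↦ m + φ m • d`,
`Th H d` the set of the functionals of the transvections of `H` with centre `d`.

* `Sys` : `Δ` a class of vectors generating `M`, some transvection has its centre in `Δ`;
  `Sys.J_symm` ((4.1)), `Sys.th_inf` ((4.2)), `Sys.diam` (two elements of a component are equal, joined or have a common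
  neighbour), `Sys.tl2` (LEMMA TL2);
* `Blk` : the situation of (4.3), (4.4); `Blk.comm_mem` : `[M, b] ≤ ⟨c, c + λ⟩` for `b ∈ B_λ`; `Blk.card_le`,
  `Blk.exists_block` : the blocks have order at most `|M : U_λ|`.
-/

set_option autoImplicit false
set_option linter.unusedSectionVars false

namespace Cfsg.Agent.Omega.NOThree.LL.Block

open Subgroup Cfsg Cfsg.Agent

/-! ### scalars -/

theorem zc (a : ZMod 2) : a = 0 ∨ a = 1 := by
  revert a; decide

theorem zne {a : ZMod 2} : a ≠ 0 ↔ a = 1 := by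
  revert a; decide

variable {H : Type*} [Group H] {M : Type*} [AddCommGroup M] [Module (ZMod 2) M] [DistribMulAction H M]

theorem add_self (m : M) : m + m = 0 := by
  rw [← two_smul (ZMod 2) m, show (2 : ZMod 2) = 0 from rfl, zero_smul]

theorem smul_zm (g : H) (a : ZMod 2) (m : M) : g • (a • m) = a • (g • m) := by
  rcases zc a with rfl | rfl
  · rw [zero_smul, zero_smul, smul_zero]
  · rw [one_smul, one_smul]

theorem hom_zm (φ : M →+ ZMod 2) (a : ZMod 2) (m : M) : φ (a • m) = a * φ m := by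
  rcases zc a with rfl | rfl
  · rw [zero_smul, zero_mul, map_zero]
  · rw [one_smul, one_mul]

/-! ### transvections -/

/-- `t` is the transvection `m ↦ m + φ m • d` -/
def IsT (t : H) (d : M) (φ : M →+ ZMod 2) : Prop := ∀ m : M, t • m = m + φ m • d

/-- the functional `φ ∘ g⁻¹` -/
def tw (g : H) (φ : M →+ ZMod 2) : M →+ ZMod 2 where
  toFun m := φ (g⁻¹ • m)
  map_zero' := by rw [smul_zero, map_zero]
  map_add' m n := by rw [smul_add, map_add]

@[simp] theorem tw_apply (g : H) (φ : M →+ ZMod 2) (m : M) : tw g φ m = φ (g⁻¹ • m) := rfl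

variable (H) in
/-- the functionals of the transvections with centre `d` -/
def Th (d : M) : Set (M →+ ZMod 2) := {φ | ∃ t : H, IsT t d φ}

theorem IsT.self {t : H} {d : M} {φ : M →+ ZMod 2} (h : IsT t d φ) (hd : d ≠ 0) : φ d = 0 := by
  by_contra h0
  have h1 := h d
  rw [zne.1 h0, one_smul, add_self, smul_eq_zero_iff_eq] at h1
  exact hd h1

theorem IsT.mul {t s : H} {d : M} {φ ψ : M →+ ZMod 2} (h : IsT t d φ) (h' : IsT s d ψ) (h0 : φ d = 0) :
    IsT (t * s) d (φ + ψ) := by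
  intro m
  rw [mul_smul, h' m, h, map_add, hom_zm, h0, mul_zero, add_zero, AddMonoidHom.add_apply, add_smul]
  abel

theorem IsT.conj {t : H} {d : M} {φ : M →+ ZMod 2} (h : IsT t d φ) (g : H) : IsT (g * t * g⁻¹) (g • d) (tw g φ) := by
  intro m
  rw [mul_smul, mul_smul, h, smul_add, smul_inv_smul, smul_zm, tw_apply]

theorem Th.conj {d : M} {φ : M →+ ZMod 2} (h : φ ∈ Th H d) (g : H) : tw g φ ∈ Th H (g • d) := by
  obtain ⟨t, ht⟩ := h
  exact ⟨_, ht.conj g⟩

theorem Th.self {d : M} {φ : M →+ ZMod 2} (h : φ ∈ Th H d) (hd : d ≠ 0) : φ d = 0 := by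
  obtain ⟨t, ht⟩ := h
  exact ht.self hd

theorem Th.add {d : M} {φ ψ : M →+ ZMod 2} (h : φ ∈ Th H d) (h' : ψ ∈ Th H d) (hd : d ≠ 0) : φ + ψ ∈ Th H d := by
  obtain ⟨t, ht⟩ := h
  obtain ⟨s, hs⟩ := h'
  exact ⟨_, ht.mul hs (ht.self hd)⟩

theorem Th.zero (d : M) : (0 : M →+ ZMod 2) ∈ Th H d :=
  ⟨1, fun m => by rw [one_smul, AddMonoidHom.zero_apply, zero_smul, add_zero]⟩

/-- the same functional at two centres gives it at the sum -/
theorem Th.sum {d e : M} {φ : M →+ ZMod 2} (h : φ ∈ Th H d) (h' : φ ∈ Th H e) (hd : φ e = 0) : φ ∈ Th H (d + e) := by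
  obtain ⟨t, ht⟩ := h
  obtain ⟨s, hs⟩ := h'
  refine ⟨t * s, fun m => ?_⟩
  rw [mul_smul, hs m, ht, map_add, hom_zm, hd, mul_zero, add_zero, smul_add]
  abel

/-- conjugation of `(d, φ)` with the transvection `(e, ρ)` -/
theorem Th.twist {d e : M} {φ ρ : M →+ ZMod 2} (h : φ ∈ Th H d) (h' : ρ ∈ Th H e) (he : e ≠ 0) (h0 : φ e = 0) :
    φ ∈ Th H (d + ρ d • e) := by
  obtain ⟨s, hs⟩ := h'
  have h1 := Th.conj h s
  rw [hs d] at h1
  convert h1 using 1
  ext m
  have h2 : s⁻¹ • m = m + ρ m • e := by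
    rw [inv_smul_eq_iff, smul_add, smul_zm, hs m, hs e, hs.self he, zero_smul, add_zero, add_assoc, add_self,
      add_zero]
  rw [tw_apply, h2, map_add, hom_zm, h0, mul_zero, add_zero]

theorem tw_tw (g h : H) (φ : M →+ ZMod 2) : tw g (tw h φ) = tw (g * h) φ := by
  ext m
  rw [tw_apply, tw_apply, tw_apply, _root_.mul_inv_rev, mul_smul]

theorem tw_inj (g : H) : Function.Injective (tw g : (M →+ ZMod 2) → (M →+ ZMod 2)) := by
  intro φ ψ h
  ext m
  have h1 := DFunLike.congr_fun h (g • m)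
  rwa [tw_apply, tw_apply, inv_smul_smul] at h1

theorem finite_dual [Finite M] : Finite (M →+ ZMod 2) :=
  Finite.of_injective (fun φ : M →+ ZMod 2 => (φ : M → ZMod 2)) DFunLike.coe_injective

theorem ncard_Th [Finite M] (d : M) (g : H) : (Th H (g • d)).ncard = (Th H d).ncard := by
  have hf : Finite (M →+ ZMod 2) := finite_dual
  have h1 : ∀ (d : M) (g : H), (Th H d).ncard ≤ (Th H (g • d)).ncard := by
    intro d g
    rw [← Set.ncard_image_of_injective (Th H d) (tw_inj g)]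
    refine Set.ncard_le_ncard ?_ (Set.toFinite _)
    rintro _ ⟨φ, hφ, rfl⟩
    exact Th.conj hφ g
  refine le_antisymm ?_ (h1 d g)
  have h2 := h1 (g • d) g⁻¹
  rwa [inv_smul_smul] at h2

/-! ### a class of centres -/

/-- `Δ` is a class of vectors generating `M`; some transvection `≠ 1` of `H` has its centre in `Δ` -/
structure Sys (H : Type*) [Group H] {M : Type*} [AddCommGroup M] [Module (ZMod 2) M] [DistribMulAction H M]
    (Δ : Set M) : Prop where
  conj : ∀ g : H, ∀ d ∈ Δ, g • d ∈ Δ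
  trans : ∀ d ∈ Δ, ∀ e ∈ Δ, ∃ g : H, g • d = e
  zero : (0 : M) ∉ Δ
  span : AddSubgroup.closure Δ = ⊤
  ex : ∃ d ∈ Δ, ∃ φ ∈ Th H d, φ ≠ 0

variable (H) in
/-- `d` and `e` are joined -/
def J (Δ : Set M) (d e : M) : Prop := d ∈ Δ ∧ e ∈ Δ ∧ ∃ φ ∈ Th H d, φ e = 1

namespace Sys

variable {Δ : Set M}

theorem ne_zero (S : Sys H Δ) {d : M} (hd : d ∈ Δ) : d ≠ 0 := fun h => S.zero (h ▸ hd)

/-- every `d ∈ Δ` is the centre of a transvection `≠ 1` -/
theorem exists_Th (S : Sys H Δ) {d : M} (hd : d ∈ Δ) : ∃ φ ∈ Th H d, φ ≠ 0 := by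
  obtain ⟨e, he, φ, hφ, h0⟩ := S.ex
  obtain ⟨g, rfl⟩ := S.trans e he d hd
  refine ⟨_, Th.conj hφ g, fun h => h0 (tw_inj g ?_)⟩
  rw [h]
  ext m
  rfl

/-- a functional `≠ 0` does not vanish on `Δ` -/
theorem exists_ne (S : Sys H Δ) {φ : M →+ ZMod 2} (h : φ ≠ 0) : ∃ e ∈ Δ, φ e = 1 := by
  by_contra hcon
  push Not at hcon
  apply h
  have h1 : AddSubgroup.closure Δ ≤ φ.ker := by
    rw [AddSubgroup.closure_le]
    intro e he
    rcases zc (φ e) with h2 | h2
    · exact h2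
    · exact absurd h2 (hcon e he)
  rw [S.span] at h1
  ext m
  exact h1 (AddSubgroup.mem_top m)

theorem exists_J (S : Sys H Δ) {d : M} (hd : d ∈ Δ) : ∃ e, J H Δ d e := by
  obtain ⟨φ, hφ, h0⟩ := S.exists_Th hd
  obtain ⟨e, he, h1⟩ := S.exists_ne h0
  exact ⟨e, hd, he, φ, hφ, h1⟩

/-- (4.1): joined is symmetric -/
theorem J_symm [Finite M] (S : Sys H Δ) {d e : M} (h : J H Δ d e) : J H Δ e d := by
  have hf : Finite (M →+ ZMod 2) := finite_dual
  obtain ⟨hd, he, φ, hφ, h1⟩ := h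
  by_contra hcon
  have h0 : ∀ χ ∈ Th H e, χ d = 0 := by
    intro χ hχ
    by_contra h
    exact hcon ⟨he, hd, χ, hχ, zne.1 h⟩
  have h2 : Th H e ⊆ Th H d := by
    intro χ hχ
    have h3 := Th.twist hχ hφ (S.ne_zero hd) (h0 χ hχ)
    rw [h1, one_smul] at h3
    have h4 := Th.sum hχ h3 (by rw [map_add, h0 χ hχ, Th.self hχ (S.ne_zero he), add_zero])
    rwa [← add_assoc, add_self, zero_add] at h4
  obtain ⟨g, rfl⟩ := S.trans d hd _ he
  have h3 := Set.eq_of_subset_of_ncard_le h2 (ncard_Th d g).ge (Set.toFinite _)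
  rw [← h3] at hφ
  have h4 := Th.self hφ (S.ne_zero he)
  rw [h1] at h4
  exact one_ne_zero h4

theorem J_add_mem (S : Sys H Δ) {d e : M} (h : J H Δ d e) : d + e ∈ Δ := by
  obtain ⟨hd, he, φ, ⟨t, ht⟩, h1⟩ := h
  have h2 := S.conj t e he
  rw [ht e, h1, one_smul, add_comm] at h2
  exact h2

/-- (4.2) -/
theorem th_inf [Finite M] (S : Sys H Δ) {d e : M} (h : J H Δ d e) {φ : M →+ ZMod 2} (hφ : φ ∈ Th H d)
    (h0 : φ e = 0) : φ ∈ Th H e := by
  obtain ⟨he, hd, ρ, hρ, h1⟩ := S.J_symm h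
  have h2 := Th.twist hφ hρ (S.ne_zero he) h0
  rw [h1, one_smul] at h2
  have h3 := Th.sum hφ h2 (by rw [map_add, h0, Th.self hφ (S.ne_zero hd), add_zero])
  rwa [← add_assoc, add_self, zero_add] at h3

/-- two elements of a component are equal, joined or have a common neighbour -/
theorem diam [Finite M] (S : Sys H Δ) {d e : M} (h : Relation.ReflTransGen (J H Δ) d e) :
    d = e ∨ J H Δ d e ∨ ∃ x, J H Δ d x ∧ J H Δ x e := by
  induction h with
  | refl => exact Or.inl rfl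
  | tail h1 h2 ih =>
    rename_i y z
    rcases ih with rfl | h3 | ⟨x, h3, h4⟩
    · exact Or.inr (Or.inl h2)
    · exact Or.inr (Or.inr ⟨_, h3, h2⟩)
    · by_cases k1 : J H Δ d y
      · exact Or.inr (Or.inr ⟨_, k1, h2⟩)
      by_cases k2 : J H Δ x z
      · exact Or.inr (Or.inr ⟨_, h3, k2⟩)
      refine Or.inr (Or.inr ⟨x + y, ?_, ?_⟩)
      · obtain ⟨hd, hx, φ, hφ, e1⟩ := h3
        refine ⟨hd, S.J_add_mem h4, φ, hφ, ?_⟩
        have e2 : φ y = 0 := by
          by_contra h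
          exact k1 ⟨hd, h2.1, φ, hφ, zne.1 h⟩
        rw [map_add, e1, e2, add_zero]
      · obtain ⟨hz, hy, χ, hχ, e1⟩ := S.J_symm h2
        refine S.J_symm ⟨hz, S.J_add_mem h4, χ, hχ, ?_⟩
        have e2 : χ x = 0 := by
          by_contra h
          exact k2 (S.J_symm ⟨hz, h3.2.1, χ, hχ, zne.1 h⟩)
        rw [map_add, e1, e2, zero_add]

theorem rtg_symm [Finite M] (S : Sys H Δ) {d e : M} (h : Relation.ReflTransGen (J H Δ) d e) :
    Relation.ReflTransGen (J H Δ) e d := by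
  induction h with
  | refl => exact Relation.ReflTransGen.refl
  | tail _ h2 ih => exact Relation.ReflTransGen.head (S.J_symm h2) ih

theorem J_conj (S : Sys H Δ) {d e : M} (h : J H Δ d e) (g : H) : J H Δ (g • d) (g • e) := by
  obtain ⟨hd, he, φ, hφ, h1⟩ := h
  exact ⟨S.conj g d hd, S.conj g e he, _, Th.conj hφ g, by rw [tw_apply, inv_smul_smul, h1]⟩

theorem rtg_conj (S : Sys H Δ) {d e : M} (h : Relation.ReflTransGen (J H Δ) d e) (g : H) :
    Relation.ReflTransGen (J H Δ) (g • d) (g • e) := by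
  induction h with
  | refl => exact Relation.ReflTransGen.refl
  | tail _ h2 ih => exact ih.tail (S.J_conj h2 g)

theorem rtg_mem {d e : M} (h : Relation.ReflTransGen (J H Δ) d e) (hd : d ∈ Δ) : e ∈ Δ := by
  induction h with
  | refl => exact hd
  | tail _ h2 _ => exact h2.2.1

end Sys

/-! ### LEMMA TL2 -/

section tl2

theorem closure_conj {s : Set H} {g : H} (h : ∀ x ∈ s, g * x * g⁻¹ ∈ closure s) {x : H} (hx : x ∈ closure s) :
    g * x * g⁻¹ ∈ closure s := by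
  have h1 : closure s ≤ (closure s).comap (MulAut.conj g).toMonoidHom := by
    rw [closure_le]
    exact fun x hx => h x hx
  exact h1 hx

theorem mem_norm [Finite H] {X : Subgroup H} {y : H} (h : ∀ x ∈ X, y * x * y⁻¹ ∈ X) :
    y ∈ normalizer (X : Set H) := by
  have h1 : X.map (MulAut.conj y).toMonoidHom ≤ X := by
    rintro _ ⟨x, hx, rfl⟩
    exact h x hx
  have h2 : X.map (MulAut.conj y).toMonoidHom = X := by
    refine Subgroup.eq_of_le_of_card_ge h1 (le_of_eq ?_)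
    exact (Nat.card_congr (X.equivMapOfInjective _ (MulAut.conj y).injective).toEquiv)
  rw [mem_normalizer_iff]
  intro x
  refine ⟨h x, fun hx => ?_⟩
  have h3 : y * x * y⁻¹ ∈ X.map (MulAut.conj y).toMonoidHom := by rw [h2]; exact hx
  obtain ⟨z, hz, e⟩ := h3
  have e1 : y * z * y⁻¹ = y * x * y⁻¹ := e
  rwa [← mul_left_cancel (mul_right_cancel e1)]

theorem normal_of_le {X Y : Subgroup H} (h : Y ≤ normalizer (X : Set H)) : (X.subgroupOf Y).Normal :=
  ⟨fun x hx g => by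
    rw [mem_subgroupOf] at hx ⊢
    exact (mem_normalizer_iff.1 (h g.2) _).1 hx⟩

theorem IsT.inv_smul {t : H} {d : M} {φ : M →+ ZMod 2} (h : IsT t d φ) (hd : d ≠ 0) (m : M) :
    t⁻¹ • m = m + φ m • d := by
  rw [inv_smul_eq_iff, smul_add, smul_zm, h m, h d, h.self hd, zero_smul, add_zero, add_assoc, add_self, add_zero]

theorem IsT.tw {t : H} {d : M} {φ : M →+ ZMod 2} (h : IsT t d φ) (hd : d ≠ 0) (ψ : M →+ ZMod 2) (m : M) :
    tw t ψ m = ψ m + φ m * ψ d := by
  rw [tw_apply, h.inv_smul hd, map_add, hom_zm]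

theorem IsT.congr [FaithfulSMul H M] {t s : H} {d : M} {φ : M →+ ZMod 2} (h : IsT t d φ) (h' : IsT s d φ) : t = s :=
  FaithfulSMul.eq_of_smul_eq_smul (α := M) fun m => by rw [h m, h' m]

variable {Δ : Set M}

/-- **TL2**: the centres of all the transvections of `H` are in `Δ` -/
theorem Sys.tl2 [Finite H] [Finite M] [FaithfulSMul H M] (S : Sys H Δ) (hO : pCore 2 H = ⊥) {r : M}
    {φ : M →+ ZMod 2} (hr : r ≠ 0) (hφ : φ ∈ Th H r) (h0 : φ ≠ 0) : r ∈ Δ := by
  by_contra hrΔ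
  -- (A)
  have hA : ∀ φ ∈ Th H r, ∀ ν ∈ Δ, φ ν = 1 → ν + r ∈ Δ ∧ ∀ ψ ∈ Th H ν, ψ r = 0 ∧ ψ ∈ Th H r := by
    intro φ hφ ν hν h1
    obtain ⟨t, ht⟩ := id hφ
    have h2 : ν + r ∈ Δ := by
      have := S.conj t ν hν
      rwa [ht ν, h1, one_smul] at this
    refine ⟨h2, fun ψ hψ => ?_⟩
    have h3 : ψ r = 0 := by
      by_contra h
      obtain ⟨s, hs⟩ := hψ
      have h4 := hs r
      rw [zne.1 h, one_smul] at h4
      have h5 : r = s⁻¹ • (ν + r) := by rw [eq_inv_smul_iff, h4, add_comm]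
      rw [h5] at hrΔ
      exact hrΔ (S.conj _ _ h2)
    refine ⟨h3, ?_⟩
    have h4 := Th.twist hψ hφ hr h3
    rw [h1, one_smul] at h4
    have h5 := Th.sum hψ h4 (by rw [map_add, h3, Th.self hψ (S.ne_zero hν), add_zero])
    rwa [← add_assoc, add_self, zero_add] at h5
  -- (B)
  obtain ⟨SS, hSS⟩ : ∃ SS : Set M, ∀ ν, ν ∈ SS ↔ ν ∈ Δ ∧ ∃ φ ∈ Th H r, φ ν = 1 := ⟨_, fun _ => Iff.rfl⟩
  have hB1 : ∀ ν ∈ SS, ∀ ψ ∈ Th H ν, ψ r = 0 ∧ ψ ∈ Th H r := by
    intro ν hν ψ hψ
    obtain ⟨h1, φ, h2, h3⟩ := (hSS ν).1 hν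
    exact (hA φ h2 ν h1 h3).2 ψ hψ
  have hB2 : ∀ ν ∈ SS, ν + r ∈ SS := by
    intro ν hν
    obtain ⟨h1, φ, h2, h3⟩ := (hSS ν).1 hν
    exact (hSS _).2 ⟨(hA φ h2 ν h1 h3).1, φ, h2, by rw [map_add, h3, Th.self h2 hr, add_zero]⟩
  have hB3 : ∀ ν ∈ SS, ∀ δ ∈ Δ, δ ∉ SS → (∀ ψ ∈ Th H ν, ψ δ = 0) ∧ ∀ χ ∈ Th H δ, χ ν = 0 := by
    intro ν hν δ hδ hδS
    have h1 : ∀ ψ ∈ Th H ν, ψ δ = 0 := by
      intro ψ hψ
      by_contra h
      exact hδS ((hSS δ).2 ⟨hδ, ψ, (hB1 ν hν ψ hψ).2, zne.1 h⟩)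
    refine ⟨h1, fun χ hχ => ?_⟩
    by_contra h
    obtain ⟨-, -, ψ, hψ, h2⟩ := S.J_symm ⟨hδ, ((hSS ν).1 hν).1, χ, hχ, zne.1 h⟩
    rw [h1 ψ hψ] at h2
    exact zero_ne_one h2
  have hSne : ∀ ν ∈ SS, ν ≠ 0 := fun ν hν => S.ne_zero ((hSS ν).1 hν).1
  -- (C)
  obtain ⟨gX, hgX⟩ : ∃ g : Set H, ∀ x, x ∈ g ↔ ∃ ν ∈ SS, ∃ ψ, IsT x ν ψ := ⟨_, fun _ => Iff.rfl⟩
  obtain ⟨gY, hgY⟩ : ∃ g : Set H, ∀ x, x ∈ g ↔ ∃ ν ∈ Δ, ∃ ψ, IsT x ν ψ := ⟨_, fun _ => Iff.rfl⟩
  obtain ⟨gN, hgN⟩ : ∃ g : Set H, ∀ x, x ∈ g ↔ ∃ ν ∈ SS, ∃ ψ ∈ Th H ν, IsT x r ψ := ⟨_, fun _ => Iff.rfl⟩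
  have hXY : closure gX ≤ closure gY := closure_mono fun x hx => by
    obtain ⟨ν, h1, ψ, h2⟩ := (hgX x).1 hx
    exact (hgY x).2 ⟨ν, ((hSS ν).1 h1).1, ψ, h2⟩
  have hY : (closure gY).Normal := by
    refine ⟨fun x hx g => closure_conj (fun x hx => ?_) hx⟩
    obtain ⟨ν, h1, ψ, h2⟩ := (hgY x).1 hx
    exact subset_closure ((hgY _).2 ⟨g • ν, S.conj g ν h1, _, h2.conj g⟩)
  have hX : closure gY ≤ normalizer (closure gX : Set H) := by
    rw [closure_le]
    intro y hy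
    obtain ⟨δ, hδ, χ, hχ⟩ := (hgY y).1 hy
    by_cases hδS : δ ∈ SS
    · exact le_normalizer (subset_closure ((hgX y).2 ⟨δ, hδS, χ, hχ⟩))
    · refine mem_norm fun x hx => closure_conj (fun x hx => ?_) hx
      obtain ⟨ν, hν, ψ, hψ⟩ := (hgX x).1 hx
      obtain ⟨h1, h2⟩ := hB3 ν hν δ hδ hδS
      have h3 := hψ.conj y
      have h4 : y • ν = ν := by rw [hχ ν, h2 χ ⟨y, hχ⟩, zero_smul, add_zero]
      have h5 : tw y ψ = ψ := by
        ext m
        rw [hχ.tw (S.ne_zero hδ), h1 ψ ⟨x, hψ⟩, mul_zero, add_zero]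
      rw [h4, h5] at h3
      exact subset_closure ((hgX _).2 ⟨ν, hν, ψ, h3⟩)
  have hNX : closure gN ≤ closure gX := by
    rw [closure_le]
    intro x hx
    obtain ⟨ν, hν, ψ, hψ, h1⟩ := (hgN x).1 hx
    obtain ⟨s, hs⟩ := id hψ
    -- `(ν + r, ψ)`
    obtain ⟨h2, -⟩ := hB1 ν hν ψ hψ
    have h3 : IsT (s * x) (ν + r) ψ := by
      intro m
      rw [mul_smul, h1 m, hs, map_add, hom_zm, h2, mul_zero, add_zero, smul_add]
      abel
    have h4 : s * x ∈ closure gX := subset_closure ((hgX _).2 ⟨_, hB2 ν hν, ψ, h3⟩)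
    have h5 : s ∈ closure gX := subset_closure ((hgX _).2 ⟨ν, hν, ψ, hs⟩)
    have h6 := mul_mem (inv_mem h5) h4
    rwa [inv_mul_cancel_left] at h6
  have hN : closure gX ≤ normalizer (closure gN : Set H) := by
    rw [closure_le]
    intro x hx
    obtain ⟨ν, hν, ψ, hψ⟩ := (hgX x).1 hx
    refine mem_norm fun n hn => closure_conj (fun n hn => ?_) hn
    obtain ⟨ν', hν', ψ', hψ', h1⟩ := (hgN n).1 hn
    obtain ⟨h2, h3⟩ := hB1 ν hν ψ ⟨x, hψ⟩
    have h4 := h1.conj x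
    have h5 : x • r = r := by rw [hψ r, h2, zero_smul, add_zero]
    rw [h5] at h4
    have h6 : ∀ m, tw x ψ' m = ψ' m + ψ m * ψ' ν := hψ.tw (hSne ν hν) ψ'
    obtain ⟨n', hn'⟩ := h3
    have hn'N : n' ∈ closure gN := subset_closure ((hgN _).2 ⟨ν, hν, ψ, ⟨x, hψ⟩, hn'⟩)
    rcases zc (ψ' ν) with h7 | h7
    · have h8 : tw x ψ' = ψ' := by
        ext m
        rw [h6, h7, mul_zero, add_zero]
      rw [h8] at h4
      exact subset_closure ((hgN _).2 ⟨ν', hν', ψ', hψ', h4⟩)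
    · have h8 : tw x ψ' = ψ' + ψ := by
        ext m
        rw [h6, h7, mul_one, AddMonoidHom.add_apply]
      rw [h8] at h4
      rw [h4.congr (h1.mul hn' (h1.self hr))]
      exact mul_mem (subset_closure hn) hn'N
  have h2N : IsPGroup 2 (closure gN) := by
    have h1 : ∀ n ∈ closure gN, ∃ ψ, IsT n r ψ := by
      intro n hn
      induction hn using closure_induction with
      | mem n hn =>
        obtain ⟨-, -, ψ, -, h⟩ := (hgN n).1 hn
        exact ⟨ψ, h⟩
      | one => exact ⟨0, fun m => by rw [one_smul, AddMonoidHom.zero_apply, zero_smul, add_zero]⟩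
      | mul a b _ _ ha hb =>
        obtain ⟨ψ, h⟩ := ha
        obtain ⟨ψ', h'⟩ := hb
        exact ⟨_, h.mul h' (h.self hr)⟩
      | inv a _ ha =>
        obtain ⟨ψ, h⟩ := ha
        exact ⟨ψ, h.inv_smul hr⟩
    rintro ⟨n, hn⟩
    obtain ⟨ψ, h⟩ := h1 n hn
    refine ⟨1, Subtype.ext ?_⟩
    change n ^ 2 ^ 1 = 1
    rw [pow_one, pow_two]
    refine FaithfulSMul.eq_of_smul_eq_smul (α := M) fun m => ?_
    rw [mul_smul, h m, smul_add, smul_zm, h m, h r, h.self hr, zero_smul, add_zero, add_assoc, add_self, add_zero,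
      one_smul]
  have hsub : (closure gN).IsSubnormal := by
    have h1 : (closure gY).IsSubnormal := Subgroup.Normal.isSubnormal hY
    have h2 : (closure gX).IsSubnormal := Subgroup.IsSubnormal.step _ _ hXY h1 (normal_of_le hX)
    exact Subgroup.IsSubnormal.step _ _ hNX h2 (normal_of_le hN)
  have hbot := PLocal.SubnormalCore.le_pCore_of_isSubnormal hsub h2N
  rw [hO, le_bot_iff] at hbot
  -- `N ≠ 1`
  obtain ⟨ν, hν, h1⟩ := S.exists_ne h0
  have hνS : ν ∈ SS := (hSS ν).2 ⟨hν, φ, hφ, h1⟩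
  obtain ⟨ψ, hψ, hψ0⟩ := S.exists_Th hν
  obtain ⟨-, n, hn⟩ := hB1 ν hνS ψ hψ
  have h2 : n ∈ closure gN := subset_closure ((hgN n).2 ⟨ν, hνS, ψ, hψ, hn⟩)
  rw [hbot, mem_bot] at h2
  apply hψ0
  ext m
  have h3 := hn m
  rw [h2, one_smul, left_eq_add] at h3
  rcases zc (ψ m) with h4 | h4
  · exact h4
  · rw [h4, one_smul] at h3
    exact absurd h3 hr

end tl2

/-! ### supports -/

section supp

variable {Δ : Set M}

/-- `d` and `e` are in the same component -/
abbrev Rt (H : Type*) [Group H] {M : Type*} [AddCommGroup M] [Module (ZMod 2) M] [DistribMulAction H M] (Δ : Set M) :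
    M → M → Prop := Relation.ReflTransGen (J H Δ)

variable (H) in
/-- the component of `d` is not in the support of `v` -/
def Z (Δ : Set M) (d v : M) : Prop := ∀ e, Rt H Δ d e → ∀ φ ∈ Th H e, φ v = 0

theorem Z.add {d v w : M} (h : Z H Δ d v) (h' : Z H Δ d w) : Z H Δ d (v + w) := fun e he φ hφ => by
  rw [map_add, h e he φ hφ, h' e he φ hφ, add_zero]

theorem Z.of_add {d v w : M} (h : Z H Δ d (v + w)) (h' : Z H Δ d w) : Z H Δ d v := by
  have h1 := h.add h'
  rwa [add_assoc, add_self, add_zero] at h1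

theorem Z.zero (d : M) : Z H Δ d 0 := fun _ _ _ _ => map_zero _

theorem Z.congr {d d' v : M} (h : Z H Δ d v) (h' : Rt H Δ d d') : Z H Δ d' v := fun e he φ hφ =>
  h e (h'.trans he) φ hφ

namespace Sys

variable [Finite M] (S : Sys H Δ)
include S

theorem Z_self {d : M} (hd : d ∈ Δ) : ¬ Z H Δ d d := by
  intro h
  obtain ⟨e, he⟩ := S.exists_J hd
  obtain ⟨-, -, φ, hφ, h1⟩ := S.J_symm he
  have h2 := h e (Relation.ReflTransGen.single he) φ hφ
  rw [h1] at h2
  exact one_ne_zero h2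

theorem Z_of_not {d e : M} (hd : d ∈ Δ) (he : e ∈ Δ) (h : ¬ Rt H Δ d e) : Z H Δ d e := by
  intro e' he' φ hφ
  by_contra h0
  exact h (he'.tail ⟨rtg_mem he' hd, he, φ, hφ, zne.1 h0⟩)

theorem rt_of_Z {d e : M} (hd : d ∈ Δ) (he : e ∈ Δ) (h : ¬ Z H Δ d e) : Rt H Δ d e := by
  by_contra h0
  exact h (S.Z_of_not hd he h0)

theorem Z_smul {d v : M} (h : Z H Δ d v) (g : H) : Z H Δ (g • d) (g • v) := by
  intro e he φ hφ
  have h1 := S.rtg_conj he g⁻¹
  rw [inv_smul_smul] at h1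
  have h2 := h _ h1 _ (Th.conj hφ g⁻¹)
  rwa [tw_apply, inv_inv] at h2

theorem Z_smul' {d v : M} (g : H) (h : Z H Δ (g⁻¹ • d) v) : Z H Δ d (g • v) := by
  have h1 := S.Z_smul h g
  rwa [smul_inv_smul] at h1

end Sys

end supp

/-! ### the two blocks -/

/-- the situation: `λ ∈ U = U_λ`, `(F2')`, and a transvection `(c, φ₀)` trivial on `U`, `c ∈ U` not conjugate to `λ` -/
structure Blk (H : Type*) [Group H] {M : Type*} [AddCommGroup M] [Module (ZMod 2) M] [DistribMulAction H M]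
    (lam : M) (U : AddSubgroup M) (c : M) (φ₀ : M →+ ZMod 2) : Prop where
  span : AddSubgroup.closure {m : M | ∃ g : H, g • lam = m} = ⊤
  lamU : lam ∈ U
  inv : ∀ k : H, k • lam = lam → ∀ u ∈ U, k • u ∈ U
  F2 : ∀ u ∈ U, u ≠ 0 → u ≠ lam → ∃ k : H, k • lam = lam ∧ k • u = u + lam
  cU : c ∈ U
  c0 : c ≠ 0
  cl : ∀ g : H, g • lam ≠ c
  tr : φ₀ ∈ Th H c
  ne : φ₀ ≠ 0
  kU : ∀ u ∈ U, φ₀ u = 0

variable (H) in
/-- the class of `c` -/
def Del (c : M) : Set M := {m : M | ∃ g : H, g • c = m}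

namespace Blk

variable {lam c : M} {U : AddSubgroup M} {φ₀ : M →+ ZMod 2}

section basic

variable (b : Blk H lam U c φ₀)
include b

theorem lam0 : lam ≠ 0 := by
  rintro rfl
  have h1 : {m : M | ∃ g : H, g • (0 : M) = m} ⊆ (⊥ : AddSubgroup M) := by
    rintro _ ⟨g, rfl⟩
    rw [smul_zero]
    exact zero_mem _
  have h2 := (AddSubgroup.closure_le _).2 h1
  rw [b.span] at h2
  exact b.c0 (AddSubgroup.mem_bot.1 (h2 (AddSubgroup.mem_top c)))

theorem exists_k : ∃ k : H, k • lam = lam ∧ k • c = c + lam :=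
  b.F2 c b.cU b.c0 fun h => b.cl 1 (by rw [one_smul, h])

theorem c_mem : c ∈ Del H c := ⟨1, one_smul _ _⟩

theorem c'_mem : c + lam ∈ Del H c := by
  obtain ⟨k, -, hk⟩ := b.exists_k
  exact ⟨k, hk⟩

theorem lam_not : lam ∉ Del H c := by
  rintro ⟨g, hg⟩
  exact b.cl g⁻¹ (by rw [← hg, inv_smul_smul])

theorem sys : Sys H (Del H c) where
  conj := by
    rintro g _ ⟨h, rfl⟩
    exact ⟨g * h, mul_smul _ _ _⟩
  trans := by
    rintro _ ⟨g, rfl⟩ _ ⟨h, rfl⟩
    exact ⟨h * g⁻¹, by rw [mul_smul, inv_smul_smul]⟩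
  zero := by
    rintro ⟨g, hg⟩
    rw [smul_eq_zero_iff_eq] at hg
    exact b.c0 hg
  span := by
    rw [eq_top_iff, ← b.span, AddSubgroup.closure_le]
    rintro _ ⟨g, rfl⟩
    have h1 : g • c ∈ AddSubgroup.closure (Del H c) := AddSubgroup.subset_closure ⟨g, rfl⟩
    obtain ⟨k, -, hk⟩ := b.exists_k
    have h2 : g • (c + lam) ∈ AddSubgroup.closure (Del H c) :=
      AddSubgroup.subset_closure ⟨g * k, by rw [mul_smul, hk]⟩
    have h3 := add_mem h1 h2
    rwa [smul_add, ← add_assoc, add_self, zero_add] at h3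
  ex := ⟨c, b.c_mem, φ₀, b.tr, b.ne⟩

/-- exchange `c` and `c + λ` -/
theorem exists_swap : Del H (c + lam) = Del H c ∧ ∃ φ₁, Blk H lam U (c + lam) φ₁ := by
  obtain ⟨k, hkl, hk⟩ := b.exists_k
  refine ⟨?_, tw k φ₀, ?_⟩
  · ext m
    constructor
    · rintro ⟨g, rfl⟩
      exact ⟨g * k, by rw [mul_smul, hk]⟩
    · rintro ⟨g, rfl⟩
      exact ⟨g * k⁻¹, by rw [mul_smul, ← hk, inv_smul_smul]⟩
  · exact
      { span := b.span
        lamU := b.lamU
        inv := b.inv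
        F2 := b.F2
        cU := add_mem b.cU b.lamU
        c0 := fun h => b.cl 1 (by
          rw [one_smul]
          have h1 : c + lam + lam = lam := by rw [h, zero_add]
          rw [add_assoc, add_self, add_zero] at h1
          exact h1.symm)
        cl := fun g hg => b.cl (k⁻¹ * g) (by rw [mul_smul, hg, ← hk, inv_smul_smul])
        tr := by rw [← hk]; exact Th.conj b.tr k
        ne := fun h => b.ne (tw_inj k (by rw [h]; ext m; rfl))
        kU := fun u hu => by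
          rw [tw_apply]
          exact b.kU _ (b.inv k⁻¹ (by rw [inv_smul_eq_iff, hkl]) u hu) }

end basic

section main

variable [Finite H] [Finite M] [FaithfulSMul H M] (b : Blk H lam U c φ₀) (hO : pCore 2 H = ⊥)
include b hO

/-- (4.3): `c` and `c + λ` are in different components -/
theorem not_rt : ¬ Rt H (Del H c) c (c + lam) := by
  intro h
  have S := b.sys
  have hnJ : ¬ J H (Del H c) c (c + lam) := by
    intro h
    have h1 := S.J_add_mem h
    rw [← add_assoc, add_self, zero_add] at h1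
    exact b.lam_not h1
  rcases S.diam h with h1 | h1 | ⟨x, h1, h2⟩
  · exact b.lam0 (left_eq_add.1 h1)
  · exact hnJ h1
  · have hx := h2.1
    have hc := b.c_mem
    have hc' := b.c'_mem
    -- the functionals at `c`
    have key : ∀ φ ∈ Th H c, φ x = 0 → φ = 0 := by
      intro φ hφ h0
      by_contra hne
      have k1 := S.th_inf h1 hφ h0
      have k2 : φ (c + lam) = 0 := by
        by_contra h
        exact hnJ ⟨hc, hc', φ, hφ, zne.1 h⟩
      have k3 := S.th_inf h2 k1 k2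
      have k4 := Th.sum hφ k3 k2
      rw [← add_assoc, add_self, zero_add] at k4
      exact b.lam_not (S.tl2 hO b.lam0 k4 hne)
    have hφ0 : φ₀ x = 1 := zne.1 fun h => b.ne (key φ₀ b.tr h)
    have uniq : ∀ φ ∈ Th H c, φ ≠ 0 → φ = φ₀ := by
      intro φ hφ hne
      have k1 : φ x = 1 := zne.1 fun h => hne (key φ hφ h)
      have k2 := key (φ + φ₀) (Th.add hφ b.tr b.c0) (by
        rw [AddMonoidHom.add_apply, k1, hφ0]; decide)
      ext m
      have k3 := DFunLike.congr_fun k2 m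
      rw [AddMonoidHom.add_apply, AddMonoidHom.zero_apply] at k3
      rcases zc (φ m) with e1 | e1 <;> rcases zc (φ₀ m) with e2 | e2 <;> rw [e1, e2] at k3 ⊢
      · exact absurd k3 (by decide)
      · exact absurd k3 (by decide)
    obtain ⟨g, hg⟩ := S.trans c hc x hx
    have uniq' : ∀ ψ ∈ Th H x, ψ ≠ 0 → tw g⁻¹ ψ = φ₀ := by
      intro ψ hψ hne
      refine uniq _ ?_ fun h => hne (tw_inj g⁻¹ (by rw [h]; ext m; rfl))
      have := Th.conj hψ g⁻¹
      rwa [← hg, inv_smul_smul] at this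
    obtain ⟨-, -, δ, hδ, e1⟩ := S.J_symm h1
    obtain ⟨-, -, δ', hδ', e2⟩ := h2
    have hδ0 : δ ≠ 0 := fun h => by rw [h] at e1; exact zero_ne_one e1
    have hδ'0 : δ' ≠ 0 := fun h => by rw [h] at e2; exact zero_ne_one e2
    have e3 : δ = δ' := tw_inj g⁻¹ ((uniq' δ hδ hδ0).trans (uniq' δ' hδ' hδ'0).symm)
    rw [← e3, map_add, e1] at e2
    have e4 : δ lam = 0 := by
      rcases zc (δ lam) with h | h
      · exact h
      · rw [h] at e2
        exact absurd e2 (by decide)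
    obtain ⟨s, hs⟩ := hδ
    have e5 : s • lam = lam := by rw [hs lam, e4, zero_smul, add_zero]
    have e6 := b.inv s e5 c b.cU
    rw [hs c, e1, one_smul] at e6
    have e7 : x ∈ U := by
      have := add_mem b.cU e6
      rwa [← add_assoc, add_self, zero_add] at this
    rw [b.kU x e7] at hφ0
    exact zero_ne_one hφ0

theorem Z1 : Z H (Del H c) c (c + lam) := b.sys.Z_of_not b.c_mem b.c'_mem (b.not_rt hO)

theorem Z2 : Z H (Del H c) (c + lam) c :=
  b.sys.Z_of_not b.c'_mem b.c_mem fun h => b.not_rt hO (b.sys.rtg_symm h)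

theorem not_Z1 : ¬ Z H (Del H c) c lam := fun h => by
  have h1 := (b.Z1 hO).of_add h
  exact b.sys.Z_self b.c_mem h1

theorem not_Z2 : ¬ Z H (Del H c) (c + lam) lam := fun h =>
  b.sys.Z_self b.c'_mem ((b.Z2 hO).add h)

/-- `U ∩ C_M(X) = 0` -/
theorem eq_zero {u : M} (hu : u ∈ U) (h : ∀ d ∈ Del H c, Z H (Del H c) d u) : u = 0 := by
  by_contra hu0
  have S := b.sys
  apply b.not_Z1 hO
  by_cases h1 : u = lam
  · rw [← h1]
    exact h c b.c_mem
  · obtain ⟨k, hkl, hk⟩ := b.F2 u hu hu0 h1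
    have h2 := S.Z_smul' k (h (k⁻¹ • c) (S.conj _ _ b.c_mem))
    rw [hk, add_comm] at h2
    exact h2.of_add (h c b.c_mem)

/-- (i): the support of `u ∈ U` is in `{1, 2}` -/
theorem Z_U {u : M} (hu : u ∈ U) {d : M} (hd : d ∈ Del H c) (h1 : ¬ Rt H (Del H c) c d)
    (h2 : ¬ Rt H (Del H c) (c + lam) d) : Z H (Del H c) d u := by
  have S := b.sys
  intro e he φ hφ
  by_contra hne
  have heΔ := Sys.rtg_mem he hd
  have n1 : ¬ Rt H (Del H c) e c := fun h => h1 (S.rtg_symm (he.trans h))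
  have n2 : ¬ Rt H (Del H c) e (c + lam) := fun h => h2 (S.rtg_symm (he.trans h))
  have k1 : φ c = 0 := by
    by_contra h
    exact n1 (Relation.ReflTransGen.single ⟨heΔ, b.c_mem, φ, hφ, zne.1 h⟩)
  have k2 : φ (c + lam) = 0 := by
    by_contra h
    exact n2 (Relation.ReflTransGen.single ⟨heΔ, b.c'_mem, φ, hφ, zne.1 h⟩)
  have k3 : φ lam = 0 := by rwa [map_add, k1, zero_add] at k2
  obtain ⟨s, hs⟩ := hφ
  have k4 : s • lam = lam := by rw [hs lam, k3, zero_smul, add_zero]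
  have k5 := b.inv s k4 u hu
  rw [hs u, zne.1 hne, one_smul] at k5
  have k6 : e ∈ U := by
    have := add_mem hu k5
    rwa [← add_assoc, add_self, zero_add] at this
  obtain ⟨k, -, hk⟩ := b.F2 e k6 (S.ne_zero heΔ) fun h => b.lam_not (h ▸ heΔ)
  have k7 : e + lam ∈ Del H c := by
    rw [← hk]
    exact S.conj k e heΔ
  have z1 : Z H (Del H c) e c := S.Z_of_not heΔ b.c_mem n1
  have z2 : Z H (Del H c) e (c + lam) := S.Z_of_not heΔ b.c'_mem n2
  have z3 : Z H (Del H c) e lam := by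
    rw [add_comm] at z2
    exact z2.of_add z1
  have r1 : Rt H (Del H c) e (e + lam) := S.rt_of_Z heΔ k7 fun h => S.Z_self heΔ (h.of_add z3)
  have z4 : Z H (Del H c) c e := S.Z_of_not b.c_mem heΔ fun h => n1 (S.rtg_symm h)
  have r2 : Rt H (Del H c) c (e + lam) := S.rt_of_Z b.c_mem k7 fun h => by
    rw [add_comm] at h
    exact b.not_Z1 hO (h.of_add z4)
  exact n1 (r1.trans (S.rtg_symm r2))

/-- (ii): `u ∈ U` with support in `{1}` is `0` or `c` -/
theorem U_one {u : M} (hu : u ∈ U) (h : ∀ d ∈ Del H c, ¬ Rt H (Del H c) c d → Z H (Del H c) d u) :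
    u = 0 ∨ u = c := by
  have S := b.sys
  by_cases hu0 : u = 0
  · exact Or.inl hu0
  right
  have z1 : Z H (Del H c) (c + lam) u := h _ b.c'_mem (b.not_rt hO)
  have hul : u ≠ lam := fun e => b.not_Z2 hO (e ▸ z1)
  obtain ⟨k, hkl, hk⟩ := b.F2 u hu hu0 hul
  have h1 : ∀ d ∈ Del H c, ¬ Rt H (Del H c) (k • c) d → Z H (Del H c) d (u + lam) := by
    intro d hd hn
    rw [← hk]
    refine S.Z_smul' k (h _ (S.conj _ _ hd) fun hr => hn ?_)
    have := S.rtg_conj hr k
    rwa [smul_inv_smul] at this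
  have r1 : Rt H (Del H c) (k • c) (c + lam) := by
    by_contra hn
    have h2 := h1 _ b.c'_mem hn
    rw [add_comm u] at h2
    exact b.not_Z2 hO (h2.of_add z1)
  have z2 : Z H (Del H c) c (u + lam) :=
    h1 c b.c_mem fun hr => b.not_rt hO ((S.rtg_symm hr).trans r1)
  have z3 : Z H (Del H c) c (u + c) := by
    have h2 := z2.add (b.Z1 hO)
    have e : u + lam + (c + lam) = u + c := by
      calc u + lam + (c + lam) = u + c + (lam + lam) := by abel
        _ = u + c := by rw [add_self, add_zero]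
    rwa [e] at h2
  have h2 : u + c = 0 := by
    refine b.eq_zero hO (add_mem hu b.cU) fun d hd => ?_
    by_cases hr : Rt H (Del H c) c d
    · exact z3.congr hr
    · exact (h d hd hr).add (S.Z_of_not hd b.c_mem fun h => hr (S.rtg_symm h))
  have h3 : u + c + c = c := by rw [h2, zero_add]
  rwa [add_assoc, add_self, add_zero] at h3

/-- `u ∈ U` with `Z (c + λ) u` is `0` or `c` -/
theorem U_inf {u : M} (hu : u ∈ U) (h : Z H (Del H c) (c + lam) u) : u = 0 ∨ u = c := by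
  refine b.U_one hO hu fun d hd hn => ?_
  by_cases hr : Rt H (Del H c) (c + lam) d
  · exact h.congr hr
  · exact b.Z_U hO hu hd hn hr

/-- an element of `B_λ` moves `d ∈ Δ` only by `c` or `c + λ` -/
theorem comm_Del {g : H} (hg : ∀ u ∈ U, g • u = u) (hg' : ∀ m : M, g • m + m ∈ U) {d : M} (hd : d ∈ Del H c) :
    g • d + d = 0 ∨ g • d + d = c ∨ g • d + d = c + lam := by
  have S := b.sys
  have hgd := S.conj g d hd
  have e0 : ∀ x : M, x + d + d = x := fun x => by rw [add_assoc, add_self, add_zero]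
  by_cases h1 : Rt H (Del H c) c d
  · have r1 := S.rtg_conj h1 g
    rw [hg c b.cU] at r1
    have z1 : Z H (Del H c) (c + lam) d :=
      S.Z_of_not b.c'_mem hd fun h => b.not_rt hO (h1.trans (S.rtg_symm h))
    have z2 : Z H (Del H c) (c + lam) (g • d) :=
      S.Z_of_not b.c'_mem hgd fun h => b.not_rt hO (r1.trans (S.rtg_symm h))
    rcases b.U_inf hO (hg' d) (z2.add z1) with h | h
    · exact Or.inl h
    · exact Or.inr (Or.inl h)
  by_cases h2 : Rt H (Del H c) (c + lam) d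
  · have r1 := S.rtg_conj h2 g
    rw [hg _ (add_mem b.cU b.lamU)] at r1
    obtain ⟨hΔ, φ₁, b'⟩ := b.exists_swap
    have z1 : Z H (Del H c) c d :=
      S.Z_of_not b.c_mem hd fun h => b.not_rt hO (h.trans (S.rtg_symm h2))
    have z2 : Z H (Del H c) c (g • d) :=
      S.Z_of_not b.c_mem hgd fun h => b.not_rt hO (h.trans (S.rtg_symm r1))
    have h3 := b'.U_inf hO (hg' d)
    rw [hΔ, add_assoc, add_self, add_zero] at h3
    rcases h3 (z2.add z1) with h | h
    · exact Or.inl h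
    · exact Or.inr (Or.inr h)
  · left
    have z1 := b.Z_U hO (hg' d) hd h1 h2
    have r1 : Rt H (Del H c) d (g • d) := S.rt_of_Z hd hgd fun h => by
      apply S.Z_self hd
      have h3 := z1.add h
      rwa [add_comm (g • d), add_assoc, add_self, add_zero] at h3
    refine b.eq_zero hO (hg' d) fun d' hd' => ?_
    by_cases k1 : Rt H (Del H c) c d'
    · have z2 : Z H (Del H c) c d := S.Z_of_not b.c_mem hd h1
      have z3 : Z H (Del H c) c (g • d) := S.Z_of_not b.c_mem hgd fun h => h1 (h.trans (S.rtg_symm r1))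
      exact (z3.add z2).congr k1
    by_cases k2 : Rt H (Del H c) (c + lam) d'
    · have z2 : Z H (Del H c) (c + lam) d := S.Z_of_not b.c'_mem hd h2
      have z3 : Z H (Del H c) (c + lam) (g • d) :=
        S.Z_of_not b.c'_mem hgd fun h => h2 (h.trans (S.rtg_symm r1))
      exact (z3.add z2).congr k2
    · exact b.Z_U hO (hg' d) hd' k1 k2

/-- **(a)**: `[M, g] ≤ ⟨c, c + λ⟩` for `g ∈ B_λ` -/
theorem comm_mem {g : H} (hg : ∀ u ∈ U, g • u = u) (hg' : ∀ m : M, g • m + m ∈ U) (m : M) :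
    g • m + m = 0 ∨ g • m + m = c ∨ g • m + m = c + lam ∨ g • m + m = lam := by
  obtain ⟨W, hW⟩ : ∃ W : AddSubgroup M, ∀ x, x ∈ W ↔ (x = 0 ∨ x = c ∨ x = c + lam ∨ x = lam) := by
    have hs := fun x : M => add_self x
    refine ⟨⟨⟨⟨{x | x = 0 ∨ x = c ∨ x = c + lam ∨ x = lam}, ?_⟩, Or.inl rfl⟩, ?_⟩, fun x => Iff.rfl⟩
    · have e1 : c + (c + lam) = lam := by rw [← add_assoc, hs, zero_add]
      have e2 : c + lam + c = lam := by rw [add_comm, e1]
      have e3 : c + lam + lam = c := by rw [add_assoc, hs, add_zero]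
      have e4 : lam + (c + lam) = c := by rw [add_comm, e3]
      rintro x y (rfl | rfl | rfl | rfl) (rfl | rfl | rfl | rfl)
      all_goals simp only [Set.mem_ofPred_eq, zero_add, add_zero, hs, e1, e2, e3, e4, true_or, or_true]
      rw [add_comm]
      exact Or.inr (Or.inr (Or.inl rfl))
    · intro x hx
      have e : -x = x := neg_eq_of_add_eq_zero_left (hs x)
      change -x ∈ {x | x = 0 ∨ x = c ∨ x = c + lam ∨ x = lam}
      rw [e]
      exact hx
  rw [← hW]
  have h1 : AddSubgroup.closure (Del H c) ≤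
      { carrier := {m : M | g • m + m ∈ W}
        zero_mem' := by
          change g • (0 : M) + 0 ∈ W
          rw [smul_zero, add_zero]; exact zero_mem _
        add_mem' := fun {x y} hx hy => by
          change g • (x + y) + (x + y) ∈ W
          have e : g • (x + y) + (x + y) = (g • x + x) + (g • y + y) := by rw [smul_add]; abel
          rw [e]
          exact add_mem hx hy
        neg_mem' := fun {x} hx => by
          change g • (-x) + -x ∈ W
          have e : g • (-x) + -x = -(g • x + x) := by rw [smul_neg]; abel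
          rw [e]
          exact neg_mem hx } := by
    rw [AddSubgroup.closure_le]
    intro d hd
    change g • d + d ∈ W
    rw [hW]
    rcases b.comm_Del hO hg hg' hd with h | h | h
    · exact Or.inl h
    · exact Or.inr (Or.inl h)
    · exact Or.inr (Or.inr (Or.inl h))
  rw [b.sys.span] at h1
  exact h1 (AddSubgroup.mem_top m)

/-! ### the order of a block -/

omit hO in
theorem card_ker {φ : M →+ ZMod 2} (h : φ ≠ 0) : Nat.card φ.ker * 2 = Nat.card M := by
  have h1 : φ.range = ⊤ := by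
    obtain ⟨m, hm⟩ : ∃ m, φ m ≠ 0 := by
      by_contra hcon
      push Not at hcon
      exact h (AddMonoidHom.ext hcon)
    rw [eq_top_iff]
    intro a _
    rcases zc a with rfl | rfl
    · exact zero_mem _
    · exact ⟨m, zne.1 hm⟩
  have h2 := φ.ker.card_mul_index
  rw [AddSubgroup.index_ker, h1, AddSubgroup.card_top, Nat.card_zmod] at h2
  exact h2

omit b hO in
theorem card_prod (A B : AddSubgroup M) :
    Nat.card A * Nat.card B = Nat.card (A ⊓ B : AddSubgroup M) * Nat.card (A ⊔ B : AddSubgroup M) := by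
  have h1 := AddSubgroup.relIndex_mul_relIndex (⊥ : AddSubgroup M) (A ⊓ B) A bot_le inf_le_left
  have h2 := AddSubgroup.relIndex_mul_relIndex (⊥ : AddSubgroup M) B (A ⊔ B) bot_le le_sup_right
  rw [AddSubgroup.relIndex_bot_left, AddSubgroup.relIndex_bot_left, AddSubgroup.inf_relIndex_left] at h1
  rw [AddSubgroup.relIndex_bot_left, AddSubgroup.relIndex_bot_left, AddSubgroup.relIndex_sup_right] at h2
  rw [← h1, ← h2]
  ring

/-- **the order of a block** -/
theorem card_le : Nat.card (AddSubgroup.closure {e : M | Rt H (Del H c) c e}) * Nat.card U ≤ Nat.card M := by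
  have S := b.sys
  obtain ⟨hΔ, φ₁, b'⟩ := b.exists_swap
  obtain ⟨N2, hN2⟩ : ∃ W : AddSubgroup M, ∀ x, x ∈ W ↔ Z H (Del H c) (c + lam) x := by
    refine ⟨⟨⟨⟨{x | Z H (Del H c) (c + lam) x}, fun {x y} hx hy => hx.add hy⟩, Z.zero _⟩, fun {x} hx => ?_⟩,
      fun x => Iff.rfl⟩
    have e : -x = x := neg_eq_of_add_eq_zero_left (add_self x)
    change Z H (Del H c) (c + lam) (-x)
    rw [e]
    exact hx
  have h1 : AddSubgroup.closure {e : M | Rt H (Del H c) c e} ≤ N2 := by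
    rw [AddSubgroup.closure_le]
    intro e he
    refine (hN2 e).2 (S.Z_of_not b.c'_mem (Sys.rtg_mem he b.c_mem) fun h => b.not_rt hO ?_)
    exact Relation.ReflTransGen.trans he (S.rtg_symm h)
  have h2 : Nat.card (U ⊓ N2 : AddSubgroup M) ≤ 2 := by
    have h3 : ((U ⊓ N2 : AddSubgroup M) : Set M) ⊆ {0, c} := by
      rintro u ⟨hu, hu'⟩
      rcases b.U_inf hO hu ((hN2 u).1 hu') with h | h
      · exact Or.inl h
      · exact Or.inr h
    calc Nat.card (U ⊓ N2 : AddSubgroup M) = ((U ⊓ N2 : AddSubgroup M) : Set M).ncard := rfl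
      _ ≤ ({0, c} : Set M).ncard := Set.ncard_le_ncard h3
      _ ≤ 2 := Set.ncard_insert_le _ _ |>.trans (by rw [Set.ncard_singleton])
  have h3 : U ⊔ N2 ≤ φ₁.ker := by
    refine sup_le (fun u hu => b'.kU u hu) fun v hv => ?_
    exact (hN2 v).1 hv _ Relation.ReflTransGen.refl φ₁ b'.tr
  have h4 := card_ker b' b'.ne
  have h5 : Nat.card (U ⊔ N2 : AddSubgroup M) ≤ Nat.card φ₁.ker := Nat.card_mono (Set.toFinite _) h3
  have h6 : Nat.card (AddSubgroup.closure {e : M | Rt H (Del H c) c e}) ≤ Nat.card N2 :=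
    Nat.card_mono (Set.toFinite _) h1
  calc _ ≤ Nat.card N2 * Nat.card U := Nat.mul_le_mul_right _ h6
    _ = Nat.card U * Nat.card N2 := mul_comm _ _
    _ = Nat.card (U ⊓ N2 : AddSubgroup M) * Nat.card (U ⊔ N2 : AddSubgroup M) := card_prod U N2
    _ ≤ 2 * Nat.card φ₁.ker := Nat.mul_le_mul h2 h5
    _ = Nat.card M := by rw [mul_comm, h4]

/-- **(b)**: the block of a transvection: `B + C_M(T) = M` for the group `T` of the transvections with centre `r` -/
theorem exists_block_sup {t : H} {r : M} {φ : M →+ ZMod 2} (hr : r ≠ 0) (ht : IsT t r φ) (h0 : φ ≠ 0) :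
    r ∈ Del H c ∧ ∃ B : AddSubgroup M, r ∈ B ∧ (∃ m ∈ B, t • m ≠ m) ∧
      (∀ h : H, h • r = r → ∀ m ∈ B, h • m ∈ B) ∧ Nat.card B * Nat.card U ≤ Nat.card M ∧
      ∀ m : M, ∃ m₁ ∈ B, ∃ m₂ : M, m = m₁ + m₂ ∧ ∀ (s : H) (ψ : M →+ ZMod 2), IsT s r ψ → s • m₂ = m₂ := by
  have S := b.sys
  have hrΔ := S.tl2 hO hr ⟨t, ht⟩ h0
  refine ⟨hrΔ, AddSubgroup.closure {e : M | Rt H (Del H c) r e},
    AddSubgroup.subset_closure Relation.ReflTransGen.refl, ?_, ?_, ?_, ?_⟩
  · obtain ⟨e, he, h1⟩ := S.exists_ne h0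
    refine ⟨e, AddSubgroup.subset_closure (Relation.ReflTransGen.single ⟨hrΔ, he, φ, ⟨t, ht⟩, h1⟩), fun h => ?_⟩
    have h2 := ht e
    rw [h, h1, one_smul, left_eq_add] at h2
    exact hr h2
  · intro h hh m hm
    induction hm using AddSubgroup.closure_induction with
    | mem m hm =>
      have h1 := S.rtg_conj hm h
      rw [hh] at h1
      exact AddSubgroup.subset_closure h1
    | zero => rw [smul_zero]; exact zero_mem _
    | add a b _ _ ha hb => rw [smul_add]; exact add_mem ha hb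
    | neg a _ ha => rw [smul_neg]; exact neg_mem ha
  · obtain ⟨g, rfl⟩ := hrΔ
    refine le_trans (Nat.mul_le_mul_right _ ?_) (b.card_le hO)
    let f : M →+ M := DistribSMul.toAddMonoidHom M g
    have h1 : AddSubgroup.closure {e : M | Rt H (Del H c) (g • c) e} ≤
        (AddSubgroup.closure {e : M | Rt H (Del H c) c e}).map f := by
      rw [AddSubgroup.closure_le]
      intro e he
      have h2 := S.rtg_conj he g⁻¹
      rw [inv_smul_smul] at h2
      exact ⟨g⁻¹ • e, AddSubgroup.subset_closure h2, smul_inv_smul _ _⟩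
    refine (Nat.card_mono (Set.toFinite _) h1).trans ?_
    exact Nat.card_le_card_of_surjective
      (fun x : AddSubgroup.closure {e : M | Rt H (Del H c) c e} => (⟨f x, ⟨x, x.2, rfl⟩⟩ :
        (AddSubgroup.closure {e : M | Rt H (Del H c) c e}).map f)) (by
        rintro ⟨_, x, hx, rfl⟩
        exact ⟨⟨x, hx⟩, rfl⟩)
  · intro m
    have hm : m ∈ AddSubgroup.closure (Del H c) := by rw [S.span]; exact AddSubgroup.mem_top m
    induction hm using AddSubgroup.closure_induction with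
    | mem d hd =>
      by_cases hrd : Rt H (Del H c) r d
      · exact ⟨d, AddSubgroup.subset_closure hrd, 0, (add_zero d).symm, fun s _ _ => smul_zero s⟩
      · refine ⟨0, zero_mem _, d, (zero_add d).symm, fun s ψ hs => ?_⟩
        rw [hs d, S.Z_of_not hrΔ hd hrd r Relation.ReflTransGen.refl ψ ⟨s, hs⟩, zero_smul, add_zero]
    | zero => exact ⟨0, zero_mem _, 0, (add_zero 0).symm, fun s _ _ => smul_zero s⟩
    | add x y _ _ hx hy =>
      obtain ⟨x1, h1, x2, rfl, h2⟩ := hx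
      obtain ⟨y1, k1, y2, rfl, k2⟩ := hy
      exact ⟨x1 + y1, add_mem h1 k1, x2 + y2, by abel, fun s ψ hs => by rw [smul_add, h2 s ψ hs, k2 s ψ hs]⟩
    | neg x _ hx =>
      obtain ⟨x1, h1, x2, rfl, h2⟩ := hx
      exact ⟨-x1, neg_mem h1, -x2, by abel, fun s ψ hs => by rw [smul_neg, h2 s ψ hs]⟩

/-- **(b)**: the block of a transvection -/
theorem exists_block {t : H} {r : M} {φ : M →+ ZMod 2} (hr : r ≠ 0) (ht : IsT t r φ) (h0 : φ ≠ 0) :
    r ∈ Del H c ∧ ∃ B : AddSubgroup M, r ∈ B ∧ (∃ m ∈ B, t • m ≠ m) ∧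
      (∀ h : H, h • r = r → ∀ m ∈ B, h • m ∈ B) ∧ Nat.card B * Nat.card U ≤ Nat.card M := by
  obtain ⟨h1, B, h2, h3, h4, h5, -⟩ := b.exists_block_sup hO hr ht h0
  exact ⟨h1, B, h2, h3, h4, h5⟩

end main

end Blk

end Cfsg.Agent.Omega.NOThree.LL.Block
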