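import Cfsg.Agent.Omega.NO3S.Pt.Path

/-!
# TwoFar (`|V_P| = 4`, `n ≥ 3`): THEOREM LL (#18157), section 3: the GRANDCHILD LEMMA, geometry

* `four'` : the elements of a line;
* `colTrans` : (F2) as: `u ∈ W_a ∩ W_b`, `a`, `b` on a line, `u` not on the line, `u` collinear with `a` ⟹ with `b`;
* `grand` : a path `x₂, x₁, y₀, y₁, ..` as in section 3 of #18157 : `W_{x₂} ∩ W_{x₁} ∩ W_{y₀} ∩ W_{y₁}` contains no
  point `e ∼ x₂` with `e ≠ x₂, x₁, x₂x₁`.
-/

set_option autoImplicit false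
set_option linter.unusedSectionVars false

namespace Cfsg.Agent.Omega.NOThree.LL

open Subgroup Cfsg Cfsg.Agent.ZN Cfsg.Agent.MinSimple.Geo Cfsg.Agent.Omega.CaseL Cfsg.Agent.Omega.NO3S.TwoOne
open Cfsg.Agent.Omega.NO3S.Pt

universe u

variable {G : Type u} [Group G] {T V : Subgroup G} {z : G}

/-- the elements of the line of `a`, `b` -/
theorem four' (h : Fr T V z) {g a b e : G} (ha : a ∈ cj g V) (ha1 : a ≠ 1) (hb : b ∈ cj g V) (hb1 : b ≠ 1)
    (hne : b ≠ a) (he : e ∈ cj g V) : e = 1 ∨ e = a ∨ e = b ∨ e = a * b := by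
  obtain ⟨k, -, -, hf⟩ := h.flag ha ha1
  exact hf.ln.four ha hb ha1 hb1 (Ne.symm hne) he

/-- (F2): `a`, `b` on a line, `u ∈ W_a ∩ W_b` not on it: `u ∼ a` implies `u ∼ b`. -/
theorem colTrans [Finite G] (h : Fr T V z) {g a b u : G} (ha : a ∈ cj g V) (ha1 : a ≠ 1) (hb : b ∈ cj g V)
    (hb1 : b ≠ 1) (hne : b ≠ a) (hua : u ∈ ws V a) (hub : u ∈ ws V b) (hu : u ∉ cj g V) (hc : Col V u a) :
    Col V u b := by
  have hii := h.mem_ii_cj ha ha1 hb hb1 hne hua hub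
  obtain ⟨c, -, hcu, hcab⟩ := h.ftwo_cj hii hu ha ha1 hb hb1
  have := hc.conj c
  rwa [conj_eq_of_comm hcu, hcab] at this

/-- geometry of section 3: `x₂ ∼ x₁ ∼ y₀ ∼ y₁`, `d(x₂, y₀) = 2`, `d(x₁, y₁) = 2` -/
theorem grand_geo [Finite G] (h : Fr T V z) {x2 x1 y0 y1 e : G} (c21 : Col V x2 x1) (c10 : Col V x1 y0)
    (c01 : Col V y0 y1) (hx21 : x2 ≠ x1) (h20 : ¬ Col V x2 y0) (h11 : ¬ Col V x1 y1) (h1 : x1 ≠ y0) (h0 : y0 ≠ y1)
    (he2 : e ∈ ws V x2) (he1 : e ∈ ws V x1) (he0 : e ∈ ws V y0) (hey : e ∈ ws V y1)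
    (hne1 : e ≠ x1) (hne2 : e ≠ x2) (hne21 : e ≠ x2 * x1) (hc : Col V e x2) : Col V e y1 := by
  obtain ⟨g, a1, a2, a3, a4⟩ := id c21
  obtain ⟨g', b1, b2, b3, b4⟩ := id c10
  obtain ⟨g'', d1, d2, d3, d4⟩ := id c01
  have hee : e ≠ 1 := hc.ne_one
  -- `y₀ ∉ W_{x₂}`
  have hy0 : y0 ∉ ws V x2 := by
    intro hy
    by_cases hl : y0 ∈ cj g V
    · exact h20 ⟨g, a1, hl, a3, b4⟩
    · exact h20 (colTrans h a2 a4 a1 a3 hx21 (h.mem_ws_of_col c10) hy hl c10.symm).symm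
  -- `y₁ ∉ W_{x₁}`
  have hy1 : y1 ∉ ws V x1 := by
    intro hy
    by_cases hl : y1 ∈ cj g' V
    · exact h11 ⟨g', b1, hl, b3, d4⟩
    · exact h11 (colTrans h b2 b4 b1 b3 h1 (h.mem_ws_of_col c01) hy hl c01.symm).symm
  -- `e ∼ x₁`
  have e1 : Col V e x1 := by
    refine colTrans h a1 a3 a2 a4 hx21.symm he2 he1 ?_ hc
    intro hl
    rcases four' h a1 a3 a2 a4 hx21.symm hl with e' | e' | e' | e'
    · exact hee e'
    · exact hne2 e'
    · exact hne1 e'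
    · exact hne21 e'
  -- `e ∼ y₀`
  have hx12 : x1 ∈ ws V x2 := h.mem_ws_of_col c21
  have e0 : Col V e y0 := by
    refine colTrans h b1 b3 b2 b4 h1.symm he1 he0 ?_ e1
    intro hl
    rcases four' h b1 b3 b2 b4 h1.symm hl with e' | e' | e' | e'
    · exact hee e'
    · exact hne1 e'
    · exact hy0 (e' ▸ he2)
    · apply hy0
      have : y0 = x1⁻¹ * e := by rw [e']; group
      rw [this]
      exact mul_mem (inv_mem hx12) he2
  -- `e ∼ y₁`
  refine colTrans h d1 d3 d2 d4 h0.symm he0 hey ?_ e0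
  intro hl
  have hy01 : y0 ∈ ws V x1 := h.mem_ws_of_col c10
  rcases four' h d1 d3 d2 d4 h0.symm hl with e' | e' | e' | e'
  · exact hee e'
  · exact hy0 (e' ▸ he2)
  · exact hy1 (e' ▸ he1)
  · apply hy1
    have : y1 = y0⁻¹ * e := by rw [e']; group
    rw [this]
    exact mul_mem (inv_mem hy01) he1

/-- a piece of the path `y` -/
theorem pth_seg {y : ℕ → G} {n : ℕ} (hy : ∀ i < n, Col V (y i) (y (i + 1))) {i k : ℕ} (hk : i + k ≤ n)
    (hn : 0 < n) : Pth V k (y i) (y (i + k)) := by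
  induction k with
  | zero =>
    rcases Nat.lt_or_ge i n with hi | hi
    · exact Pth.zero (hy i hi).left
    · obtain rfl : i = n := by omega
      obtain ⟨j, rfl⟩ : ∃ j, i = j + 1 := ⟨i - 1, by omega⟩
      exact Pth.zero (hy j (by omega)).right
  | succ k ih => exact (ih (by omega)).step (hy (i + k) (by omega))

/-- **GRANDCHILD LEMMA** (#18157, section 3 (d)): `y` a geodesic, `(x₁, y_{n-1})` and `(x₂, y_{n-2})` critical. -/
theorem grand_path [Finite G] (h : Fr T V z) {m : ℕ} {y : ℕ → G} {x1 x2 e : G}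
    (hy : ∀ i < m + 3, Col V (y i) (y (i + 1))) (c0 : Cr V (m + 3) (y 0) (y (m + 3)))
    (c1 : Cr V (m + 3) x1 (y (m + 2))) (c2 : Cr V (m + 3) x2 (y (m + 1))) (c10 : Col V x1 (y 0))
    (c21 : Col V x2 x1) (he2 : e ∈ ws V x2) (he1 : e ∈ ws V x1) (he0 : e ∈ ws V (y 0)) (hey : e ∈ ws V (y 1))
    (hne1 : e ≠ x1) (hne2 : e ≠ x2) (hne21 : e ≠ x2 * x1) : ¬ Col V e x2 := by
  intro hc
  have h20 : ¬ Col V x2 (y 0) := fun hh => c2.ne (c2.min (m + 2) (by omega) _ _ (by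
    have := pth_seg hy (i := 0) (k := m + 1) (by omega) (by omega)
    rw [zero_add] at this
    exact this.head hh))
  have h11 : ¬ Col V x1 (y 1) := fun hh => c1.ne (c1.min (m + 2) (by omega) _ _ (by
    have := pth_seg hy (i := 1) (k := m + 1) (by omega) (by omega)
    rw [show 1 + (m + 1) = m + 2 by omega] at this
    exact this.head hh))
  have hx21 : x2 ≠ x1 := fun hh => h20 (hh ▸ c10)
  have h1 : x1 ≠ y 0 := fun hh => h11 (hh ▸ hy 0 (by omega))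
  have h0 : y 0 ≠ y 1 := fun hh => c0.ne (c0.min (m + 2) (by omega) _ _ (by
    have := pth_seg hy (i := 1) (k := m + 2) (by omega) (by omega)
    rw [show 1 + (m + 2) = m + 3 by omega, ← hh] at this
    exact this))
  have key := grand_geo h c21 c10 (hy 0 (by omega)) hx21 h20 h11 h1 h0 he2 he1 he0 hey hne1 hne2 hne21 hc
  refine c2.ne (c2.min (m + 2) (by omega) _ _ ?_)
  have := pth_seg hy (i := 1) (k := m) (by omega) (by omega)
  rw [show 1 + m = m + 1 by omega] at this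
  exact (this.head key).head hc.symm

end Cfsg.Agent.Omega.NOThree.LL
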