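import Cfsg.Agent.Omega.NOThree.LL.Mover
import Cfsg.Agent.Omega.NO3S.TwoOne.Four

/-!
# THEOREM LL (helper975 #18157), (1.2): a goal pair has a mover with (D)

* `NoTwo V n` : the input COR (no critical pair of type I has `[W_p, W_q] = ⟨e⟩`, `e ∼ p`);
* `St.mover_or` : every `f ∈ W_q`, `f ∉ C(W_p)`, has a mover with (D), or `y 1 ∈ R` or `y 0 * y 1 ∈ R`;
* `St.exists_D` : some mover has (D).
-/

set_option autoImplicit false
set_option linter.unusedSectionVars false

namespace Cfsg.Agent.Omega.NOThree.LL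

open Subgroup Cfsg Cfsg.Agent.ZN Cfsg.Agent.MinSimple.Geo Cfsg.Agent.Omega.CaseL Cfsg.Agent.Omega.NO3S.TwoOne
open Cfsg.Agent.Omega.NO3S.Pt
open Cfsg.Agent.Omega.NO3S.Dual (nn mem_nn DW)
open Cfsg.Agent.Omega.NO3S.TwoMid (rr comm_mem_rr rr_comm)
open Cfsg.Agent.Omega.NOThree.TF (Md conj_mem_ws_of_mem exists_T exists_flag2)
open Cfsg.Agent.Omega.NOThree.SecOne (Exact ee mem_ee)
open Cfsg.Agent.ZN.Block (conj_mem_of_normalizer conj_mem_of_normalizer' le_normalizer_of_forall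
  mem_normalizer_of)

universe u v

variable {G : Type u} [Group G] {M : Type v} [AddCommGroup M]

/-- **COR** of (TL2): no critical pair of type I has `[W_p, W_q] = ⟨e⟩`, `e ∼ p`. -/
def NoTwo (V : Subgroup G) (n : ℕ) : Prop := ∀ p q e : G, Cr V n p q → p ∉ ws V q → q ∉ ws V p → Col V p e →
  (∀ a ∈ ws V p, ∀ b ∈ ws V q, a * b * a⁻¹ * b⁻¹ = 1 ∨ a * b * a⁻¹ * b⁻¹ = e) → False

/-- `λ ∈ R̄` -/
def LamR (V : Subgroup G) (n : ℕ) (y : ℕ → G) : Prop :=
  y 1 ∈ rr V (y 0) (y n) ∨ y 0 * y 1 ∈ rr V (y 0) (y n)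

namespace St

variable {T V : Subgroup G} {z : G} {m : ℕ} {y : ℕ → G} [DistribMulAction (centralizer ({y 0} : Set G)) M]
  {π : G → M} (s : St T V z m y π)
include s

/-- for every `f` : a mover with (D), or `λ ∈ R̄` -/
theorem mover_or [Finite G] {f : G} (hf : f ∈ ws V (y (m + 3))) (hfc : f ∉ centralizer (ws V (y 0) : Set G)) :
    (∃ x, Mv V (m + 3) y x f ∧ DD V (y 0) x f) ∨ LamR V (m + 3) y := by
  obtain ⟨h, i, hmv⟩ := s.exists_mover (f := ⟨f, s.wq_le hf⟩) hf hfc
  by_cases hD : DD V (y 0) ((h : G) * y 1 * (h : G)⁻¹) f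
  · exact Or.inl ⟨_, hmv, hD⟩
  right
  obtain ⟨h1, -⟩ := s.one_one hf i rfl hmv hD
  set x := (h : G) * y 1 * (h : G)⁻¹ with hx
  have hxw : x ∈ ws V (y 0) := s.fr.mem_ws_of_col hmv.col
  have hxw' : f * x * f⁻¹ ∈ ws V (y 0) := conj_mem_ws_of_mem (s.wq_le hf) hxw
  have hxi : x⁻¹ = x := inv_eq_of_mul_eq_one_right (s.fr.pt_sq hmv.col.right)
  have h2 : π (f * x * f⁻¹ * x⁻¹) = π (y 1) := by
    rw [hxi, s.md.map_mul _ hxw' _ hxw]
    have e : π (f * x * f⁻¹) = (⟨f, s.wq_le hf⟩ : centralizer ({y 0} : Set G)) • π x :=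
      s.md.smul ⟨f, s.wq_le hf⟩ x hxw
    rw [e, h1, add_comm, ← add_assoc, s.two, zero_add]
  have h3 : f * x * f⁻¹ * x⁻¹ ∈ rr V (y 0) (y (m + 3)) := by
    have e : f * x * f⁻¹ * x⁻¹ = (x * f * x⁻¹ * f⁻¹)⁻¹ := by group
    rw [e]
    exact inv_mem (comm_mem_rr hxw hf)
  rcases (s.md.eq_iff s.fr s.hp (mul_mem hxw' (inv_mem hxw)) s.p1_mem).1 h2 with e | e
  · left; rwa [e] at h3
  · right; rwa [e] at h3

/-- **(1.2)** -/
theorem exists_D [Finite G] (hNT : NoTwo V (m + 3)) : ∃ x f, Mv V (m + 3) y x f ∧ DD V (y 0) x f := by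
  classical
  by_contra hcon
  push Not at hcon
  have two := s.two
  obtain ⟨l, hp, hq, hp1, hq1⟩ := s.gg.col0
  obtain ⟨U, hU⟩ := TF.Md.exists_U s.fr s.md hp hp1
  have hlU : π (y 1) ∈ U := TF.Md.lam_mem_U s.fr s.md hp hp1 hq hU
  have hUN : ∀ v ∈ U, v ∈ NB V (y 0) π → v = 0 := fun v hv hn => inf_NB s.fr s.md hp hp1 hU hv hn
  have hl0 : π (y 1) ≠ 0 := s.md.pt_ne_zero s.fr s.gg.col0 s.ne1
  set Q := AddSubgroup.closure {π (y 1)} ⊔ NB V (y 0) π with hQ
  let ML : AddSubgroup M :=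
    { carrier := {v | ∀ g : centralizer ({y 0} : Set G), (g : G) ∈ centralizer (ws V (y 1) : Set G) → g • v - v ∈ Q}
      zero_mem' := fun g _ => by rw [smul_zero, sub_zero]; exact zero_mem _
      add_mem' := fun {a b} ha hb g hg => by
        have e : g • (a + b) - (a + b) = (g • a - a) + (g • b - b) := by rw [smul_add]; abel
        rw [e]
        exact add_mem (ha g hg) (hb g hg)
      neg_mem' := fun {a} ha g hg => by
        have e : g • (-a) - (-a) = -(g • a - a) := by rw [smul_neg]; abel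
        rw [e]
        exact neg_mem (ha g hg) }
  set X := pre s.md ML with hX
  set E := ee V (y 0) (y (m + 3)) with hE
  set E' := ee V (y (m + 3)) (y 0) with hE'
  have hex := s.gg.exact s.fr s.no
  have hXw : X ≤ ws V (y 0) := fun a ha => ha.1
  have hEw : E ≤ ws V (y 0) := fun a ha => (mem_ee.1 ha).1
  have hE'w : E' ≤ ws V (y (m + 3)) := fun a ha => (mem_ee.1 ha).1
  let lft : ws V (y (m + 3)) → centralizer ({y 0} : Set G) := fun b => ⟨b, s.wq_le b.2⟩
  -- `δ ∈ {0, λ}`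
  have hδ : ∀ (a : G) (b : ws V (y (m + 3))), a ∈ X → lft b • π a - π a = 0 ∨ lft b • π a - π a = π (y 1) := by
    intro a b ha
    have hbc : (lft b : G) ∈ centralizer (ws V (y 1) : Set G) := by
      rw [mem_centralizer_iff]
      exact fun w hw => s.com1 w hw _ b.2
    have h1 : lft b • π a - π a ∈ Q := ha.2 (lft b) hbc
    have hbw : (b : G) * a * (b : G)⁻¹ ∈ ws V (y 0) := conj_mem_ws_of_mem (lft b).2 ha.1
    have h2 : lft b • π a - π a ∈ U := by
      rw [hU]
      refine ⟨(b : G) * a * (b : G)⁻¹ * a, s.fr.mem_ii_cj hp hp1 hq hq1 s.ne1 (mul_mem hbw ha.1) ?_, ?_⟩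
      · have h3 := inv_mem (s.gg.le a ha.1 b b.2)
        have hai : a⁻¹ = a := inv_eq_of_mul_eq_one_right (s.fr.ws_sq s.hp a ha.1)
        have e : (a * b * a⁻¹ * (b : G)⁻¹)⁻¹ = (b : G) * a * (b : G)⁻¹ * a⁻¹ := by group
        rw [e, hai] at h3
        exact h3
      · rw [s.md.map_mul _ hbw _ ha.1, s.sub_eq]
        congr 1
        exact s.md.smul (lft b) a ha.1
    have h3 : lft b • π a - π a ∈ AddSubgroup.closure {π (y 1), 0} ⊔ NB V (y 0) π := by
      refine (sup_le_sup_right (AddSubgroup.closure_mono ?_) _) h1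
      rintro v rfl
      exact Or.inl rfl
    obtain ⟨w, hw, e | e | e | e⟩ := mem_sup4 two h3
    · left
      rw [e] at h2 ⊢
      exact hUN w h2 hw
    · right
      have h4 : w ∈ U := by
        have : w = (π (y 1) + w) - π (y 1) := by abel
        rw [this, ← e]
        exact sub_mem h2 hlU
      rw [e, hUN w h4 hw, add_zero]
    · left
      rw [zero_add] at e
      rw [e] at h2 ⊢
      exact hUN w h2 hw
    · right
      rw [add_zero] at e
      have h4 : w ∈ U := by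
        have : w = (π (y 1) + w) - π (y 1) := by abel
        rw [this, ← e]
        exact sub_mem h2 hlU
      rw [e, hUN w h4 hw, add_zero]
  have hfl : ∀ b : ws V (y (m + 3)), lft b • π (y 1) = π (y 1) := fun b => s.fix_lam b.2
  have hmulsgn : ∀ α β : M, (α = 0 ∨ α = π (y 1)) → (β = 0 ∨ β = π (y 1)) →
      (if α + β = 0 then (1 : ℤˣ) else -1) = (if α = 0 then (1 : ℤˣ) else -1) * (if β = 0 then (1 : ℤˣ) else -1) := by
    rintro α β (rfl | rfl) (rfl | rfl)
    · simp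
    · simp
    · simp
    · rw [if_pos (two _), if_neg hl0]
      rfl
  have h1 := pairing_units (A := X) (B := ws V (y (m + 3)))
    (fun a b => if lft b • π (a : G) - π (a : G) = 0 then (1 : ℤˣ) else -1)
    (fun a a' b => by
      rw [← hmulsgn _ _ (hδ a b a.2) (hδ a' b a'.2)]
      congr 2
      change lft b • π ((a : G) * a') - π ((a : G) * a') = _
      rw [s.md.map_mul _ a.2.1 _ a'.2.1, smul_add]
      abel)
    (fun a b b' => by
      rw [← hmulsgn _ _ (hδ a b a.2) (hδ a b' a.2)]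
      congr 2
      have e : lft (b * b') = lft b * lft b' := rfl
      rw [e, mul_smul]
      have e1 : lft b • (lft b' • π (a : G) - π (a : G)) = lft b' • π (a : G) - π (a : G) := by
        rcases hδ a b' a.2 with e | e
        · rw [e, smul_zero]
        · rw [e, hfl]
      have e2 : lft b • lft b' • π (a : G) - π (a : G) =
          lft b • (lft b' • π (a : G) - π (a : G)) + (lft b • π (a : G) - π (a : G)) := by
        rw [smul_sub]; abel
      rw [e2, e1, add_comm])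
  -- the left kernel
  have h2 : Nat.card (X ⊓ E : Subgroup G) ≤
      Nat.card {a : X // ∀ b, (if lft b • π (a : G) - π (a : G) = 0 then (1 : ℤˣ) else -1) = 1} := by
    refine Nat.card_le_card_of_injective
      (fun a : (X ⊓ E : Subgroup G) => ⟨⟨a.1, a.2.1⟩, fun b => ?_⟩) ?_
    · refine if_pos ?_
      have h3 := (mem_ee.1 a.2.2).2 b b.2
      change lft b • π (a : G) - π (a : G) = 0
      rw [← s.md.smul (lft b) a a.2.1.1, sub_eq_zero]
      congr 1
      exact NO3S.Dual.conj_eq_of_comm h3.symm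
    · intro a a' e
      exact Subtype.ext (congrArg (fun t => (t.1 : G)) e)
  -- the right kernel
  have h3 : Nat.card {b : ws V (y (m + 3)) // ∀ a : X,
      (if lft b • π (a : G) - π (a : G) = 0 then (1 : ℤˣ) else -1) = 1} ≤ Nat.card E' := by
    refine Nat.card_le_card_of_injective (fun b => ⟨b.1, ?_⟩) ?_
    · by_contra hb
      have hbc : ((lft b.1 : centralizer ({y 0} : Set G)) : G) ∉ centralizer (ws V (y 0) : Set G) := by
        intro h4
        apply hb
        rw [hE', mem_ee]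
        exact ⟨b.1.2, fun a ha => (mem_centralizer_iff.1 h4 a ha).symm⟩
      obtain ⟨h, i, hmv⟩ := s.exists_mover (f := lft b.1) b.1.2 hbc
      obtain ⟨h5, h6⟩ := s.one_one b.1.2 i rfl hmv (hcon _ _ hmv)
      have h7 : ((h : G) * y 1 * (h : G)⁻¹) ∈ X := ⟨s.fr.mem_ws_of_col hmv.col, h6⟩
      have h8 := b.2 ⟨_, h7⟩
      have h9 : ¬ (lft b.1 • π ((h : G) * y 1 * (h : G)⁻¹) - π ((h : G) * y 1 * (h : G)⁻¹) = 0) := by
        rw [h5, add_sub_cancel_left]
        exact hl0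
      rw [if_neg h9] at h8
      exact absurd h8 (by decide)
    · intro b b' e
      have e1 : ((b.1 : ws V (y (m + 3))) : G) = b'.1 := congrArg (fun t : E' => (t : G)) e
      exact Subtype.ext (Subtype.ext e1)
  -- the count
  have hcX : Nat.card (X ⊓ E : Subgroup G) * E.relIndex X = Nat.card X := by
    rw [← inf_relIndex_left]
    exact NO3S.Dual.card_mul_relIndex_of_le inf_le_left
  have hcW : Nat.card E' * E'.relIndex (ws V (y (m + 3))) = Nat.card (ws V (y (m + 3))) :=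
    NO3S.Dual.card_mul_relIndex_of_le hE'w
  have hr : E.relIndex (ws V (y 0)) ≤ E.relIndex X := by
    rw [hE, hex.card, ← hE']
    have h4 : Nat.card (X ⊓ E : Subgroup G) * Nat.card E' * E'.relIndex (ws V (y (m + 3))) ≤
        Nat.card (X ⊓ E : Subgroup G) * Nat.card E' * E.relIndex X := by
      calc Nat.card (X ⊓ E : Subgroup G) * Nat.card E' * E'.relIndex (ws V (y (m + 3))) =
          Nat.card (X ⊓ E : Subgroup G) * Nat.card (ws V (y (m + 3))) := by rw [mul_assoc, hcW]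
        _ ≤ _ * Nat.card (ws V (y (m + 3))) := Nat.mul_le_mul_right _ h2
        _ = Nat.card X * _ := h1
        _ ≤ Nat.card X * Nat.card E' := Nat.mul_le_mul_left _ h3
        _ = Nat.card (X ⊓ E : Subgroup G) * Nat.card E' * E.relIndex X := by rw [← hcX]; ring
    exact Nat.le_of_mul_le_mul_left h4 (Nat.mul_pos Nat.card_pos Nat.card_pos)
  have hXE : ws V (y 0) ≤ X ⊔ E := by
    rw [← relIndex_eq_one]
    have e1 := relIndex_mul_relIndex E (X ⊔ E) (ws V (y 0)) le_sup_right (sup_le hXw hEw)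
    have e2 : E.relIndex X ≤ E.relIndex (X ⊔ E) :=
      relIndex_le_of_le_right le_sup_left index_ne_zero_of_finite
    have e3 : E.relIndex (X ⊔ E) ≠ 0 := index_ne_zero_of_finite
    have e4 : (X ⊔ E).relIndex (ws V (y 0)) ≠ 0 := index_ne_zero_of_finite
    have e5 : E.relIndex (X ⊔ E) * (X ⊔ E).relIndex (ws V (y 0)) ≤ E.relIndex (X ⊔ E) * 1 := by
      rw [e1, mul_one]; omega
    have e6 := Nat.le_of_mul_le_mul_left e5 (Nat.pos_of_ne_zero e3)
    omega
  -- `[W_p, W_q] ≤ ⟨e⟩`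
  have hall : ∀ a ∈ ws V (y 0), ∀ b : ws V (y (m + 3)),
      lft b • π a - π a = 0 ∨ lft b • π a - π a = π (y 1) := by
    intro a ha b
    obtain ⟨c, hc, e, he, rfl⟩ := NO3S.Dual.mem_sup_of_comm (s.fr.ws_comm s.hp) hXw hEw (hXE ha)
    have h4 : lft b • π e - π e = 0 := by
      rw [← s.md.smul (lft b) e (hEw he), sub_eq_zero]
      congr 1
      exact NO3S.Dual.conj_eq_of_comm ((mem_ee.1 he).2 b b.2).symm
    have h5 : lft b • π (c * e) - π (c * e) = lft b • π c - π c := by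
      rw [s.md.map_mul c hc.1 e (hEw he), smul_add]
      calc lft b • π c + lft b • π e - (π c + π e) = (lft b • π c - π c) + (lft b • π e - π e) := by abel
        _ = lft b • π c - π c := by rw [h4, add_zero]
    rw [h5]
    exact hδ c b hc
  have hcomm : ∀ a ∈ ws V (y 0), ∀ b ∈ ws V (y (m + 3)),
      a * b * a⁻¹ * b⁻¹ = 1 ∨ (a * b * a⁻¹ * b⁻¹ = y 1 ∧ y 1 ∈ ws V (y (m + 3))) ∨
        (a * b * a⁻¹ * b⁻¹ = y 0 * y 1 ∧ y 0 * y 1 ∈ ws V (y (m + 3))) := by
    intro a ha b hb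
    have h4 : a * b * a⁻¹ * b⁻¹ ∈ ws V (y 0) := s.gg.cr.comm_mem_left s.fr ha hb
    have h5 : a * b * a⁻¹ * b⁻¹ ∈ ws V (y (m + 3)) := s.gg.cr.comm_mem_right s.fr ha hb
    have hbw : b * a * b⁻¹ ∈ ws V (y 0) := conj_mem_ws_of_mem (s.wq_le hb) ha
    have e : a * b * a⁻¹ * b⁻¹ = b * a * b⁻¹ * a := by
      have e1 : (a * b * a⁻¹ * b⁻¹)⁻¹ = a * b * a⁻¹ * b⁻¹ :=
        inv_eq_of_mul_eq_one_right (s.fr.ws_sq s.hp _ h4)
      have hai : a⁻¹ = a := inv_eq_of_mul_eq_one_right (s.fr.ws_sq s.hp a ha)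
      rw [← e1]
      calc (a * b * a⁻¹ * b⁻¹)⁻¹ = b * a * b⁻¹ * a⁻¹ := by group
        _ = b * a * b⁻¹ * a := by rw [hai]
    have h6 : π (a * b * a⁻¹ * b⁻¹) = lft ⟨b, hb⟩ • π a - π a := by
      rw [e, s.md.map_mul _ hbw _ ha, s.sub_eq]
      congr 1
      exact s.md.smul (lft ⟨b, hb⟩) a ha
    rcases hall a ha ⟨b, hb⟩ with h7 | h7
    · rw [h7] at h6
      rcases (s.md.ker _ h4).1 h6 with e | e
      · exact Or.inl e
      · exact absurd (e ▸ h5) s.gg.not_mem
    · rw [h7] at h6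
      right
      rcases (s.md.eq_iff s.fr s.hp h4 s.p1_mem).1 h6 with e | e
      · left; exact ⟨e, e ▸ h5⟩
      · right; exact ⟨e, e ▸ h5⟩
  by_cases hy : y 1 ∈ ws V (y (m + 3))
  · refine hNT _ _ (y 1) s.gg.cr s.gg.not_mem s.gg.not_mem' s.gg.col0 fun a ha b hb => ?_
    rcases hcomm a ha b hb with e | e | e
    · exact Or.inl e
    · exact Or.inr e.1
    · exfalso
      apply s.gg.not_mem
      have := mul_mem e.2 hy
      rwa [mul_assoc, s.fr.pt_sq s.gg.col0.right, mul_one] at this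
  · have hne : y 0 * y 1 ≠ 1 := by
      intro e
      apply s.ne1
      have e1 := s.fr.pt_sq s.hp
      calc y 1 = y 0 * y 0 * y 1 := by rw [e1, one_mul]
        _ = y 0 := by rw [mul_assoc, e, mul_one]
    refine hNT _ _ (y 0 * y 1) s.gg.cr s.gg.not_mem s.gg.not_mem'
      (Col.of_mem hp (mul_mem hp hq) hp1 hne) fun a ha b hb => ?_
    rcases hcomm a ha b hb with e | e | e
    · exact Or.inl e
    · exact absurd e.2 hy
    · exact Or.inr e.1

end St

end Cfsg.Agent.Omega.NOThree.LL
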