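import Cfsg.Agent.Omega.NOThree.LL.RedMd
import Cfsg.Agent.Omega.NOThree.LL.HasD
import Cfsg.Agent.Omega.NOThree.TF.Trans

/-!
# TwoFar, THEOREM LL (#18157): COR of LEMMA TL2

No critical pair `(p, q)` of type I (`p ∉ W_q`, `q ∉ W_p`) has `[W_p, W_q] = ⟨e⟩` with `e ∼ p` (K-free, `n ≥ 3`,
`N_p` arbitrary): `W_q` induces on `M_p` transvections with centre a line vector, hence (conjugation) some element of
`C(q)` induces on `M_q` a transvection with centre a line vector; `W_p` induces on `M_q` transvections with centre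
`e mod q`, so `e` is a line vector of `M_q` (`Block.Sys.tl2`), `e ∼ q`, and `p, e, q` is a path of length 2.

* `tr_of_comm` : `[W_p, b] = ⟨e⟩`: `b` induces a transvection of `M_p` with centre `π e`;
* `Tr.transport` : transport of a transvection by `Md.tr`;
* `col_of_tr` : (TL2) if a line vector is the centre of a transvection of `M_q`, so is the centre of every transvection;
* `noTwo : NoTwo V (m + 3)`.
-/

set_option autoImplicit false
set_option linter.unusedSectionVars false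

namespace Cfsg.Agent.Omega.NOThree.LL

open Subgroup Cfsg Cfsg.Agent.ZN Cfsg.Agent.MinSimple.Geo Cfsg.Agent.Omega.CaseL Cfsg.Agent.Omega.NO3S.TwoOne
open Cfsg.Agent.Omega.NO3S.Pt
open Cfsg.Agent.Omega.NOThree.TF (Md conj_mem_ws_of_mem exists_T ce MM pim md_MM)

universe u v w

variable {G : Type u} [Group G] {T V : Subgroup G} {z p q : G}

section tr

variable {M : Type v} [AddCommGroup M] [DistribMulAction (centralizer ({p} : Set G)) M] {π : G → M}

/-- `[W_p, b] = ⟨e⟩`: `b` induces a transvection with centre `π e` -/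
theorem tr_of_comm (md : Md V p π) {b e : G} (hb : b ∈ centralizer ({p} : Set G))
    (he : e ∈ ws V p) (he1 : e ≠ 1) (hep : e ≠ p)
    (hc : ∀ a ∈ ws V p, b * a * b⁻¹ = a ∨ b * a * b⁻¹ = e * a) (hne : ∃ a ∈ ws V p, b * a * b⁻¹ ≠ a) :
    Tr (H := centralizer ({p} : Set G)) (π e) ⟨b, hb⟩ where
  tr m := by
    obtain ⟨a, ha, rfl⟩ := md.surj m
    rw [← md.smul ⟨b, hb⟩ a ha]
    rcases hc a ha with e1 | e1
    · left
      change π (b * a * b⁻¹) = _
      rw [e1]
    · right
      change π (b * a * b⁻¹) = _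
      rw [e1, md.map_mul e he a ha, add_comm]
  ne := by
    obtain ⟨a, ha, hne⟩ := hne
    refine ⟨π a, ?_⟩
    rw [← md.smul ⟨b, hb⟩ a ha]
    change π (b * a * b⁻¹) ≠ _
    rcases hc a ha with e1 | e1
    · exact absurd e1 hne
    · rw [e1, md.map_mul e he a ha]
      intro e2
      have e3 : π e = 0 := by
        have := add_eq_right.1 e2
        exact this
      rcases (md.ker e he).1 e3 with e4 | e4
      · exact he1 e4
      · exact hep e4

variable {M' : Type w} [AddCommGroup M'] [DistribMulAction (centralizer ({q} : Set G)) M'] {π' : G → M'} {g : G}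

/-- transport of a transvection -/
theorem Tr.transport (h : Fr T V z) (hp : Col V p p) (md : Md V p π) (md' : Md V q π') (e : g * p * g⁻¹ = q)
    {x : G} (hx : x ∈ ws V p) {t : centralizer ({p} : Set G)} (ht : Tr (π x) t) :
    Tr (π' (g * x * g⁻¹)) (ce e t) where
  tr m := by
    obtain ⟨m, rfl⟩ := (TF.Md.tr h hp md md' e).surjective m
    rw [← TF.Md.tr_smul h hp md md' e, ← TF.Md.tr_π h hp md md' e hx]
    rcases ht.tr m with e1 | e1
    · left; rw [e1]
    · right; rw [e1, map_add]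
  ne := by
    obtain ⟨m, hm⟩ := ht.ne
    refine ⟨TF.Md.tr h hp md md' e m, ?_⟩
    rw [← TF.Md.tr_smul h hp md md' e]
    exact fun e1 => hm ((TF.Md.tr h hp md md' e).injective e1)

end tr

section tl

variable {M : Type v} [AddCommGroup M] [DistribMulAction (centralizer ({p} : Set G)) M] {π : G → M}

/-- (TL2) a line vector is the centre of a transvection of `M_p`: the centre of every transvection is a line vector -/
theorem col_of_tr [Finite G] (h : Fr T V z) (md : Md V p π) {x : G} (hx : Col V p x) (hxp : x ≠ p)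
    {t : centralizer ({p} : Set G)} (ht : Tr (π x) t) {e : G} (he : e ∈ ws V p) (he1 : e ≠ 1) (hep : e ≠ p)
    {s : centralizer ({p} : Set G)} (hs : Tr (π e) s) : Col V p e := by
  have hp := hx.left
  have hfin : Finite M := finite_Md md
  let _ : Module (ZMod 2) M := AddCommGroup.zmodModule fun m => by rw [two_nsmul, md.two h hp]
  have hxne : π x ≠ 0 := md.pt_ne_zero h hx hxp
  have hene : π e ≠ 0 := by
    intro e0
    rcases (md.ker e he).1 e0 with e4 | e4
    · exact he1 e4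
    · exact hep e4
  set Δ : Set M := {v | ∃ g : centralizer ({p} : Set G), v = g • π x} with hΔ
  obtain ⟨φ, hφ, hφt⟩ := ht.exists_fun hxne
  obtain ⟨ψ, hψ, hψs⟩ := hs.exists_fun hene
  have S : Block.Sys (Im (centralizer ({p} : Set G)) M) Δ := by
    refine ⟨?_, ?_, ?_, ?_, ?_⟩
    · rintro k _ ⟨g, rfl⟩
      obtain ⟨k, rfl⟩ := toIm_surj k
      exact ⟨k * g, by rw [toIm_smul, mul_smul]⟩
    · rintro _ ⟨g, rfl⟩ _ ⟨g', rfl⟩
      refine ⟨toIm (g' * g⁻¹), ?_⟩
      rw [toIm_smul, mul_smul, inv_smul_smul]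
    · rintro ⟨g, hg⟩
      exact hxne (by rwa [eq_comm, smul_eq_zero_iff_eq] at hg)
    · rw [eq_top_iff]
      intro m _
      exact span_pt h md hx hxp m
    · exact ⟨π x, ⟨1, by rw [one_smul]⟩, φ, ⟨_, hφt⟩, hφ⟩
  obtain ⟨c, hc⟩ := S.tl2 (pCore_im (redM_pt h md hx hxp)) hene ⟨_, hψs⟩ hψ
  rw [← md.smul c x (h.mem_ws_of_col hx)] at hc
  have hcol : Col V p ((c : G) * x * (c : G)⁻¹) := by
    have h1 := hx.conj (c : G)
    have h2 : (c : G) * p * (c : G)⁻¹ = p := by
      have := mem_centralizer_singleton_iff.1 c.2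
      rw [this, mul_inv_cancel_right]
    rwa [h2] at h1
  rcases (md.eq_iff h hp he (h.mem_ws_of_col hcol)).1 hc with e1 | e1
  · rw [e1]; exact hcol
  · obtain ⟨l, h1, h2, h3, h4⟩ := hcol
    exact ⟨l, h1, by rw [e1]; exact mul_mem h1 h2, h3, he1⟩

end tl

/-- **COR** (of TL2) -/
theorem noTwo [Finite G] (h : Fr T V z) (m : ℕ) : NoTwo V (m + 3) := by
  intro p q e hc hpq hqp hpe hcomm
  have hp : Col V p p := hc.path.left
  have hq : Col V q q := hc.path.right
  -- a pair with `[a₀, b₀] = e`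
  obtain ⟨a₀, ha₀, b₀, hb₀, hab⟩ : ∃ a ∈ ws V p, ∃ b ∈ ws V q, a * b ≠ b * a := by
    by_contra hcon
    push Not at hcon
    exact hc.ne hcon
  have hne : a₀ * b₀ * a₀⁻¹ * b₀⁻¹ ≠ 1 := by
    intro e1
    apply hab
    calc a₀ * b₀ = (a₀ * b₀ * a₀⁻¹ * b₀⁻¹) * (b₀ * a₀) := by group
      _ = b₀ * a₀ := by rw [e1, one_mul]
  have he0 : a₀ * b₀ * a₀⁻¹ * b₀⁻¹ = e := (hcomm a₀ ha₀ b₀ hb₀).resolve_left hne
  have hep : e ∈ ws V p := by rw [← he0]; exact hc.comm_mem_left h ha₀ hb₀
  have heq : e ∈ ws V q := by rw [← he0]; exact hc.comm_mem_right h ha₀ hb₀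
  have he1 : e ≠ 1 := hpe.right.ne_one
  have hnep : e ≠ p := fun e1 => hpq (e1 ▸ heq)
  have hneq : e ≠ q := fun e1 => hqp (e1 ▸ hep)
  have hee : e * e = 1 := h.ws_sq hp e hep
  -- the action of `b` on `W_p`
  have hb : ∀ b ∈ ws V q, ∀ a ∈ ws V p, b * a * b⁻¹ = a ∨ b * a * b⁻¹ = e * a := by
    intro b hb a ha
    have haa : a⁻¹ = a := inv_eq_of_mul_eq_one_right (h.ws_sq hp a ha)
    rcases hcomm a ha b hb with e1 | e1
    · left
      calc b * a * b⁻¹ = (a * b * a⁻¹ * b⁻¹)⁻¹ * a := by group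
        _ = a := by rw [e1, inv_one, one_mul]
    · right
      calc b * a * b⁻¹ = (a * b * a⁻¹ * b⁻¹)⁻¹ * a := by group
        _ = e * a := by rw [e1, inv_eq_of_mul_eq_one_right hee]
  have ha : ∀ a ∈ ws V p, ∀ b ∈ ws V q, a * b * a⁻¹ = b ∨ a * b * a⁻¹ = e * b := by
    intro a ha b hb
    rcases hcomm a ha b hb with e1 | e1
    · left
      calc a * b * a⁻¹ = (a * b * a⁻¹ * b⁻¹) * b := by group
        _ = b := by rw [e1, one_mul]
    · right
      calc a * b * a⁻¹ = (a * b * a⁻¹ * b⁻¹) * b := by group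
        _ = e * b := by rw [e1]
  -- the transvections
  have hmp := md_MM h hp
  have hmq := md_MM h hq
  have ht := tr_of_comm hmp (hc.symm.cent h hb₀) hep he1 hnep (hb b₀ hb₀)
    ⟨a₀, ha₀, fun e1 => hab (by rw [← mul_inv_eq_iff_eq_mul.1 e1])⟩
  have hs := tr_of_comm hmq (hc.cent h ha₀) heq he1 hneq (ha a₀ ha₀)
    ⟨b₀, hb₀, fun e1 => hab (by rw [← mul_inv_eq_iff_eq_mul.1 e1])⟩
  obtain ⟨g, hg⟩ := h.exists_conj hp hq
  have ht' := Tr.transport h hp hmp hmq hg hep ht
  have hcol : Col V q (g * e * g⁻¹) := by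
    have := hpe.conj g
    rwa [hg] at this
  have hne' : g * e * g⁻¹ ≠ q := by
    intro e1
    rw [← hg] at e1
    exact hnep (mul_left_cancel (mul_right_cancel e1))
  have hqe := col_of_tr h hmq hcol hne' ht' heq he1 hneq hs
  have hpath : Pth V 2 p q := (Pth.of_col hpe).step hqe.symm
  exact hc.ne (hc.min 2 (by omega) p q hpath)

end Cfsg.Agent.Omega.NOThree.LL
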