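import Cfsg.Agent.Omega.NOThree.LL.Count
import Cfsg.Agent.Omega.NOThree.TF.MdEx

/-!
# THEOREM LL (helper975 #18157), section 5: from a grandchild to the contradiction

* `Gr V m y` : `y` is the geodesic of a child of a child of a GOAL pair; `Gr.child`; `GG.conj`, `Child.conj`, `Gr.conj`;
* `BlockAt V z x M` : the output of section 4 at the point `x` (blocks of transvections);
* `no_gr` : there is no grandchild.
-/

set_option autoImplicit false
set_option linter.unusedSectionVars false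

namespace Cfsg.Agent.Omega.NOThree.LL

open Subgroup Cfsg Cfsg.Agent.ZN Cfsg.Agent.MinSimple.Geo Cfsg.Agent.Omega.CaseL Cfsg.Agent.Omega.NO3S.TwoOne
open Cfsg.Agent.Omega.NO3S.Pt
open Cfsg.Agent.Omega.NOThree.SecOne (Exact ee mem_ee Goal)
open Cfsg.Agent.Omega.NOThree.TF (Md conj_mem_ws_of_mem MM pim md_MM)
open Cfsg.Agent.Omega.NOThree.LemmaM (NoOver)

universe u v

variable {G : Type u} [Group G] {T V : Subgroup G} {z : G} {n m : ℕ} {y : ℕ → G} {x f : G}

/-! ### conjugation -/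

theorem mem_ws_conj {g a p : G} : a ∈ ws V (g * p * g⁻¹) ↔ g⁻¹ * a * g ∈ ws V p := by
  rw [← cj_ws, mem_cj]

theorem conj_comm {g a b : G} : g * a * g⁻¹ * (g * b * g⁻¹) * (g * a * g⁻¹)⁻¹ * (g * b * g⁻¹)⁻¹ =
    g * (a * b * a⁻¹ * b⁻¹) * g⁻¹ := by group

/-- the conjugate of a sequence -/
def cs (g : G) (y : ℕ → G) : ℕ → G := fun i => g * y i * g⁻¹

theorem cs_apply (g : G) (y : ℕ → G) (i : ℕ) : cs g y i = g * y i * g⁻¹ := rfl

theorem cs_ch (g x : G) (y : ℕ → G) : cs g (ch x y) = ch (g * x * g⁻¹) (cs g y) := by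
  funext i
  cases i with
  | zero => rfl
  | succ i => rfl

theorem GG.conj (h : GG V n y) (g : G) : GG V n (cs g y) where
  cr := h.cr.conj g
  path := fun i hi => (h.path i hi).conj g
  not_mem := by
    intro h1
    apply h.not_mem
    rw [cs_apply, cs_apply, mem_ws_conj] at h1
    have e : g⁻¹ * (g * y 0 * g⁻¹) * g = y 0 := by group
    rwa [e] at h1
  not_mem' := by
    intro h1
    apply h.not_mem'
    rw [cs_apply, cs_apply, mem_ws_conj] at h1
    have e : g⁻¹ * (g * y n * g⁻¹) * g = y n := by group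
    rwa [e] at h1
  le := by
    intro a ha b hb
    rw [cs_apply, mem_ws_conj] at ha hb ⊢
    have h1 := h.le _ ha _ hb
    have e : g⁻¹ * (a * b * a⁻¹ * b⁻¹) * g =
        g⁻¹ * a * g * (g⁻¹ * b * g) * (g⁻¹ * a * g)⁻¹ * (g⁻¹ * b * g)⁻¹ := by group
    rwa [e]

theorem Mv.conj (h : Mv V n y x f) (g : G) : Mv V n (cs g y) (g * x * g⁻¹) (g * f * g⁻¹) where
  mem := by
    rw [cs_apply]
    exact conj_mem_ws g h.mem
  col := h.col.conj g
  ne := by
    intro e
    exact h.ne (mul_left_cancel (mul_right_cancel e))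
  mv := by
    intro e
    apply h.mv
    have e1 : g * f * g⁻¹ * (g * x * g⁻¹) * (g * f * g⁻¹)⁻¹ = g * (f * x * f⁻¹) * g⁻¹ := by group
    rw [e1] at e
    exact mul_left_cancel (mul_right_cancel e)
  mv' := by
    intro e
    apply h.mv'
    have e1 : g * f * g⁻¹ * (g * x * g⁻¹) * (g * f * g⁻¹)⁻¹ = g * (f * x * f⁻¹) * g⁻¹ := by group
    have e2 : cs g y 0 * (g * x * g⁻¹) = g * (y 0 * x) * g⁻¹ := by
      rw [cs_apply]; group
    rw [e1, e2] at e
    exact mul_left_cancel (mul_right_cancel e)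
  cen := by
    intro u hu hu0 hfu
    rw [cs_apply, mem_ws_conj] at hu0 ⊢
    rw [mem_ws_conj] at hu
    refine h.cen _ hu hu0 ?_
    calc f * (g⁻¹ * u * g) = g⁻¹ * (g * f * g⁻¹ * u) * g := by group
      _ = g⁻¹ * (u * (g * f * g⁻¹)) * g := by rw [hfu]
      _ = g⁻¹ * u * g * f := by group

theorem DD.conj {p : G} (h : DD V p x f) (g : G) : DD V (g * p * g⁻¹) (g * x * g⁻¹) (g * f * g⁻¹) := by
  intro u hu
  have e1 : g * f * g⁻¹ * (g * x * g⁻¹) * (g * f * g⁻¹)⁻¹ = g * (f * x * f⁻¹) * g⁻¹ := by group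
  rw [e1, mem_inf, mem_ws_conj, mem_ws_conj] at hu
  rw [mem_ws_conj]
  exact h ⟨hu.1, hu.2⟩

theorem Child.conj (h : Child V m y x f) (g : G) : Child V m (cs g y) (g * x * g⁻¹) (g * f * g⁻¹) where
  gg := by
    rw [← cs_ch]
    exact h.gg.conj g
  mv := h.mv.conj g
  low := h.low.conj g

/-! ### grandchildren -/

/-- `y` is the geodesic of a child of a child of a GOAL pair -/
def Gr (V : Subgroup G) (m : ℕ) (y : ℕ → G) : Prop :=
  ∃ (y₀ : ℕ → G) (x f x' f' : G), GG V (m + 3) y₀ ∧ Child V m y₀ x f ∧ Child V m (ch x y₀) x' f' ∧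
    y = ch x' (ch x y₀)

theorem Gr.gg (h : Gr V m y) : GG V (m + 3) y := by
  obtain ⟨y₀, x, f, x', f', -, -, h3, rfl⟩ := h
  exact h3.gg

/-- a child of a grandchild is a grandchild -/
theorem Gr.child (h : Gr V m y) (hc : Child V m y x f) : Gr V m (ch x y) := by
  obtain ⟨y₀, x₀, f₀, x', f', h1, h2, h3, rfl⟩ := h
  exact ⟨ch x₀ y₀, x', f', x, f, h2.gg, h3, hc, rfl⟩

theorem Gr.conj (h : Gr V m y) (g : G) : Gr V m (cs g y) := by
  obtain ⟨y₀, x, f, x', f', h1, h2, h3, rfl⟩ := h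
  refine ⟨cs g y₀, g * x * g⁻¹, g * f * g⁻¹, g * x' * g⁻¹, g * f' * g⁻¹, h1.conj g, h2.conj g, ?_, ?_⟩
  · rw [← cs_ch]
    exact h3.conj g
  · rw [cs_ch, cs_ch]

/-- every point is the first point of a conjugate of the grandchild -/
theorem Gr.exists_at (hf : Fr T V z) (h : Gr V m y) (hx : Col V x x) : ∃ y', Gr V m y' ∧ y' 0 = x := by
  have h0 : Col V (y 0) (y 0) := (h.gg.path 0 (by omega)).left
  obtain ⟨g, hg⟩ := hf.exists_conj h0 hx
  exact ⟨cs g y, h.conj g, hg⟩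

/-! ### the blocks -/

/-- the output of section 4 at the point `x` -/
def BlockAt (V : Subgroup G) (z x : G) (M : Type v) [AddCommGroup M]
    [DistribMulAction (centralizer ({x} : Set G)) M] : Prop :=
  ∀ r : M, r ≠ 0 → ∀ t : centralizer ({x} : Set G), (∃ v : M, t • v ≠ v) → (∀ v : M, t • v = v ∨ t • v = v + r) →
    ∃ B : AddSubgroup M, (∀ c : centralizer ({x} : Set G), c • r = r → ∀ b ∈ B, c • b ∈ B) ∧
      Nat.card B ≤ (ii V).relIndex (ws V z) ∧
      ∀ v : M, ∃ v₁ ∈ B, ∃ v₂ : M, v = v₁ + v₂ ∧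
        ∀ s : centralizer ({x} : Set G), (∀ v : M, s • v = v ∨ s • v = v + r) → s • v₂ = v₂

section main

variable [Finite G]

/-- the setting `Cnt` -/
theorem exists_cnt (hf : Fr T V z)
    (hNO : NoOver (NO3S.TwoFar.inc (V := V)) NO3S.TwoFar.RR NO3S.TwoFar.WS NO3S.TwoFar.VL)
    (gg : GG V (m + 3) y) {r : G} (hr : Two V (y 0) (y (m + 3)) r) {M : Type v} [AddCommGroup M]
    [DistribMulAction (centralizer ({y (m + 3)} : Set G)) M] {π : G → M} (md : Md V (y (m + 3)) π)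
    (hB : BlockAt V z (y (m + 3)) M) :
    ∃ B : AddSubgroup M, Cnt T V z m y r M π B ∧ Nat.card B ≤ (ii V).relIndex (ws V z) := by
  have hq : Col V (y (m + 3)) (y (m + 3)) := (gg.path (m + 2) (show m + 2 < m + 3 by omega)).right
  have wp_le : ws V (y 0) ≤ centralizer ({y (m + 3)} : Set G) := gg.cr.cent hf
  have hex := gg.exact hf hNO
  -- `W_p` acts by transvections with centre `π r`
  have htv : ∀ a : centralizer ({y (m + 3)} : Set G), (a : G) ∈ ws V (y 0) →
      ∀ v : M, a • v = v ∨ a • v = v + π r := by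
    intro a ha v
    obtain ⟨b, hb, rfl⟩ := md.surj v
    have h1 : π ((a : G) * b * (a : G)⁻¹) = a • π b := md.smul a b hb
    rcases hr a ha b hb with e | e
    · left
      rw [← h1]
      congr 1
      exact NO3S.Dual.conj_eq_of_comm (SecOne.comm_of_comm_eq_one e)
    · right
      have hrw : r ∈ ws V (y (m + 3)) := by
        rw [← e]
        exact gg.cr.comm_mem_right hf ha hb
      rw [← h1, ← md.map_mul b hb r hrw]
      congr 1
      have e1 : (a : G) * b * (a : G)⁻¹ = r * b := by rw [← e]; group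
      rw [e1, hf.ws_comm hq r hrw b hb]
  -- some `a` moves `M`
  obtain ⟨a, ha, b, hb, hab⟩ : ∃ a ∈ ws V (y 0), ∃ b ∈ ws V (y (m + 3)),
      ∃ hac : a ∈ centralizer ({y (m + 3)} : Set G),
        (⟨a, hac⟩ : centralizer ({y (m + 3)} : Set G)) • π b ≠ π b := by
    by_contra hcon
    push Not at hcon
    apply gg.cr.ne
    intro a ha b hb
    refine ((mem_ee.1 (hex.cent' b hb fun w hw => ?_)).2 a ha).symm
    have h1 := hcon w hw b hb (wp_le hw)
    rw [← md.smul ⟨w, wp_le hw⟩ b hb, md.eq_iff hf hq (conj_mem_ws_of_mem (wp_le hw) hb) hb] at h1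
    rw [mem_zpowers_iff_of_mul_self (hf.pt_sq hq)]
    rcases h1 with e | e
    · left
      change w * b * w⁻¹ = b at e
      rw [e, mul_inv_cancel]
    · right
      change w * b * w⁻¹ = y (m + 3) * b at e
      rw [e, mul_inv_cancel_right]
  obtain ⟨hac, hab⟩ := hab
  have hr0 : π r ≠ 0 := by
    intro e
    rcases htv ⟨a, hac⟩ ha (π b) with h1 | h1
    · exact hab h1
    · rw [e, add_zero] at h1
      exact hab h1
  obtain ⟨B, hB1, hB2, hB3⟩ := hB (π r) hr0 ⟨a, hac⟩ ⟨π b, hab⟩ (htv _ ha)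
  refine ⟨B, ⟨hf, hNO, gg, md, hr, ?_, hB1⟩, hB2⟩
  rw [eq_top_iff]
  intro v _
  obtain ⟨v₁, hv₁, v₂, rfl, hv₂⟩ := hB3 v
  exact AddSubgroup.mem_sup.2 ⟨v₁, hv₁, v₂, fun s hs => hv₂ s (htv s hs), rfl⟩

/-- **there is no grandchild** -/
theorem no_gr (hf : Fr T V z)
    (hNO : NoOver (NO3S.TwoFar.inc (V := V)) NO3S.TwoFar.RR NO3S.TwoFar.WS NO3S.TwoFar.VL)
    (hB : ∀ y, Gr V m y → BlockAt V z (y 0) (MM V (y 0)))
    (hT : ∀ y, Gr V m y → ∃ r, Two V (y 0) (y (m + 3)) r)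
    (hM : ∀ y, Gr V m y → ∀ f ∈ ws V (y (m + 3)), f ∉ ee V (y (m + 3)) (y 0) →
      ∃ x, Mv V (m + 3) y x f ∧ DD V (y 0) x f) (y : ℕ → G) : ¬ Gr V m y := by
  intro h
  have hq : Col V (y (m + 3)) (y (m + 3)) := (h.gg.path (m + 2) (show m + 2 < m + 3 by omega)).right
  obtain ⟨r, hr⟩ := hT y h
  have key : ∀ x, Col V x x → BlockAt V z x (MM V x) := by
    intro x hx
    obtain ⟨y', h1, rfl⟩ := h.exists_at hf hx
    exact hB y' h1
  have hBq := key _ hq
  have hmd := md_MM hf hq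
  obtain ⟨B, hc, hcard⟩ := exists_cnt hf hNO h.gg hr hmd hBq
  have hM' := hM y h
  have hch' : ∀ x f, Child V m y x f → ∃ r', Two V x (y (m + 2)) r' := by
    intro x f hch
    obtain ⟨r', hr'⟩ := hT (ch x y) (h.child hch)
    exact ⟨r', hr'⟩
  exact Cnt.false hc hcard hM' hch'

end main

end Cfsg.Agent.Omega.NOThree.LL
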