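import Cfsg.Agent.Omega.NOThree.LL.HasD
import Cfsg.Agent.Omega.NOThree.LL.CountB
import Cfsg.Agent.Omega.NOThree.LL.Grand
import Cfsg.Agent.Omega.NOThree.MPlus

/-!
# THEOREM LL (helper975 #18157), section 2: terminal pairs and children

* `BC V g p E` : the elements of `C(p)` trivial on `I_l/p`, `W_p/I_l` and `E` (mod `p`), `l = cj g V`;
* `NoB V` : (NO) for these groups; `Ctx` : the inputs (NO), `NoB`, `NoTwo`;
* `Ctx.mem_kq` : `(x, f)` a mover with (D), (β): `C_B(f̄) = 1`;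
* `Ctx.lamR_of_term`, `Ctx.term` (2.1): a terminal pair has `p y₁ ∈ R`, `y₁ ∉ R`; `Ctx.exists_not_term`;
* `Ctx.not_term_child` (2.2), `Ctx.exists_gr` (2.3): if there is a goal pair there is a grandchild.
-/

set_option autoImplicit false
set_option linter.unusedSectionVars false

namespace Cfsg.Agent.Omega.NOThree.LL

open Subgroup Cfsg Cfsg.Agent.ZN Cfsg.Agent.MinSimple.Geo Cfsg.Agent.Omega.CaseL Cfsg.Agent.Omega.NO3S.TwoOne
open Cfsg.Agent.Omega.NO3S.Pt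
open Cfsg.Agent.Omega.NO3S.TwoMid (rr comm_mem_rr rr_comm)
open Cfsg.Agent.Omega.NOThree.TF (Md conj_mem_ws_of_mem exists_flag2 MM pim md_MM)
open Cfsg.Agent.Omega.NOThree.SecOne (Exact ee mem_ee Goal comm_of_comm_eq_one comm_eq_one comm_inv_eq mem_kq_of
  cent_zpowers lemM)
open Cfsg.Agent.Omega.NOThree.LemmaM (NoOver)
open Cfsg.Agent.ZN.Block (conj_mem_of_normalizer conj_mem_of_normalizer' le_normalizer_of_forall
  mem_normalizer_of)

universe u

variable {G : Type u} [Group G] {T V : Subgroup G} {z : G} {m : ℕ} {y : ℕ → G} {x f : G}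

/-! ### tools -/

theorem exists_mul_of_mem_sup' {A B : Subgroup G} (hn : ∀ a ∈ A, ∀ b ∈ B, a * b * a⁻¹ ∈ B) {x : G}
    (hx : x ∈ A ⊔ B) : ∃ a ∈ A, ∃ b ∈ B, x = a * b := by
  let D : Subgroup G :=
    { carrier := {x | ∃ a ∈ A, ∃ b ∈ B, x = a * b}
      mul_mem' := by
        rintro _ _ ⟨a, ha, b, hb, rfl⟩ ⟨a', ha', b', hb', rfl⟩
        refine ⟨a * a', mul_mem ha ha', a'⁻¹ * b * a'⁻¹⁻¹ * b', mul_mem (hn _ (inv_mem ha') b hb) hb', ?_⟩
        group
      one_mem' := ⟨1, one_mem _, 1, one_mem _, by simp⟩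
      inv_mem' := by
        rintro _ ⟨a, ha, b, hb, rfl⟩
        refine ⟨a⁻¹, inv_mem ha, a * b⁻¹ * a⁻¹, hn a ha _ (inv_mem hb), ?_⟩
        group }
  have h1 : A ⊔ B ≤ D := sup_le (fun a ha => ⟨a, ha, 1, one_mem _, by simp⟩)
    fun b hb => ⟨1, one_mem _, b, hb, by simp⟩
  exact h1 hx

theorem conj_zpow_mem {b p c : G} (hb : b * p = p * b) (hc : c ∈ zpowers p) : b * c * b⁻¹ = c := by
  obtain ⟨n, rfl⟩ := mem_zpowers_iff.1 hc
  rw [((show Commute b p from hb).zpow_right n).eq, mul_inv_cancel_right]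

theorem conj_mem_zpowers {c p p' w : G} (e : c * p * c⁻¹ = p') (hw : w ∈ zpowers p) : c * w * c⁻¹ ∈ zpowers p' := by
  obtain ⟨n, rfl⟩ := mem_zpowers_iff.1 hw
  rw [← e]
  exact mem_zpowers_iff.2 ⟨n, conj_zpow⟩

/-- `{b ∈ C(p) : [b, I_l] ≤ ⟨p⟩, [b, W_p] ≤ I_l, [b, E] ≤ ⟨p⟩}` -/
def BC (V : Subgroup G) (g p : G) (E : Subgroup G) (hp : p ∈ ii (cj g V)) : Subgroup G where
  carrier := {b | b * p = p * b ∧ (∀ u ∈ ii (cj g V), b * u * b⁻¹ * u⁻¹ ∈ zpowers p) ∧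
    (∀ u ∈ ws V p, b * u * b⁻¹ * u⁻¹ ∈ ii (cj g V)) ∧ ∀ u ∈ E, b * u * b⁻¹ * u⁻¹ ∈ zpowers p}
  one_mem' := ⟨by simp, fun u _ => by simp, fun u _ => by simp, fun u _ => by simp⟩
  mul_mem' := by
    rintro a b ⟨ha, ha1, ha2, ha3⟩ ⟨hb, hb1, hb2, hb3⟩
    have key : ∀ u, b * u * b⁻¹ * u⁻¹ ∈ zpowers p → a * u * a⁻¹ * u⁻¹ ∈ zpowers p →
        a * b * u * (a * b)⁻¹ * u⁻¹ ∈ zpowers p := by
      intro u h1 h2
      have e : a * b * u * (a * b)⁻¹ * u⁻¹ = a * (b * u * b⁻¹ * u⁻¹) * a⁻¹ * (a * u * a⁻¹ * u⁻¹) := by group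
      rw [e, conj_zpow_mem ha h1]
      exact mul_mem h1 h2
    refine ⟨?_, fun u hu => key u (hb1 u hu) (ha1 u hu), fun u hu => ?_, fun u hu => key u (hb3 u hu) (ha3 u hu)⟩
    · rw [mul_assoc, hb, ← mul_assoc, ha, mul_assoc]
    · have e : a * b * u * (a * b)⁻¹ * u⁻¹ = (a * (b * u * b⁻¹ * u⁻¹) * a⁻¹ * (b * u * b⁻¹ * u⁻¹)⁻¹) *
          (b * u * b⁻¹ * u⁻¹) * (a * u * a⁻¹ * u⁻¹) := by group
      rw [e]
      exact mul_mem (mul_mem ((zpowers_le.2 hp) (ha1 _ (hb2 u hu))) (hb2 u hu)) (ha2 u hu)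
  inv_mem' := by
    rintro a ⟨ha, ha1, ha2, ha3⟩
    have ha' : a⁻¹ * p = p * a⁻¹ := by
      rw [inv_mul_eq_iff_eq_mul, ← mul_assoc, ha, mul_inv_cancel_right]
    have e : ∀ u, a⁻¹ * u * a⁻¹⁻¹ * u⁻¹ = a⁻¹ * (a * u * a⁻¹ * u⁻¹)⁻¹ * a⁻¹⁻¹ := fun u => by group
    have key : ∀ u, a * u * a⁻¹ * u⁻¹ ∈ zpowers p → a⁻¹ * u * a⁻¹⁻¹ * u⁻¹ ∈ zpowers p := by
      intro u h1
      rw [e, conj_zpow_mem ha' (inv_mem h1)]
      exact inv_mem h1
    refine ⟨ha', fun u hu => key u (ha1 u hu), fun u hu => ?_, fun u hu => key u (ha3 u hu)⟩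
    rw [e]
    have h1 := inv_mem (ha2 u hu)
    have h2 := zpowers_le.2 hp (key _ (ha1 _ h1))
    have h3 := mul_mem h2 h1
    rwa [inv_mul_cancel_right] at h3

variable {g p q r : G} {E : Subgroup G}

theorem mem_BC {hp : p ∈ ii (cj g V)} {b : G} : b ∈ BC V g p E hp ↔ b * p = p * b ∧
    (∀ u ∈ ii (cj g V), b * u * b⁻¹ * u⁻¹ ∈ zpowers p) ∧
    (∀ u ∈ ws V p, b * u * b⁻¹ * u⁻¹ ∈ ii (cj g V)) ∧ ∀ u ∈ E, b * u * b⁻¹ * u⁻¹ ∈ zpowers p := Iff.rfl

/-- **(NO) for subgroups of `B_λ`** -/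
def NoB (V : Subgroup G) : Prop := ∀ g p : G, p ∈ cj g V → p ≠ 1 → ∀ B : Subgroup G, (∀ b ∈ B, b * p = p * b) →
  (∀ b ∈ B, ∀ u ∈ ii (cj g V), b * u * b⁻¹ * u⁻¹ ∈ zpowers p) →
  (∀ b ∈ B, ∀ u ∈ ws V p, b * u * b⁻¹ * u⁻¹ ∈ ii (cj g V)) →
  ∀ N C : Subgroup G, (∀ b, b ∈ N ↔ b ∈ B ∧ ∀ u ∈ ws V p, b * u * b⁻¹ * u⁻¹ ∈ zpowers p) →
    (∀ u, u ∈ C ↔ u ∈ ws V p ∧ ∀ b ∈ B, b * u * b⁻¹ * u⁻¹ ∈ zpowers p) → N.relIndex B ≤ C.relIndex (ws V p)

/-- conjugation of `BC` -/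
theorem BC_conj {g' p' c : G} {E' : Subgroup G} {hp : p ∈ ii (cj g V)} {hp' : p' ∈ ii (cj g' V)}
    (e : c * p * c⁻¹ = p') (hl : cj c (cj g V) = cj g' V) (hE : ∀ u ∈ E', c⁻¹ * u * c ∈ E) {b : G}
    (hb : b ∈ BC V g p E hp) : c * b * c⁻¹ ∈ BC V g' p' E' hp' := by
  obtain ⟨h1, h2, h3, h4⟩ := hb
  have hii : ∀ u, u ∈ ii (cj g' V) ↔ c⁻¹ * u * c ∈ ii (cj g V) := by
    intro u
    rw [← hl, ← NO3S.TwoFar.cj_ii, mem_cj]
  have hws : ∀ u, u ∈ ws V p' ↔ c⁻¹ * u * c ∈ ws V p := by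
    intro u
    rw [← e, ← cj_ws, mem_cj]
  have key : ∀ u, c * b * c⁻¹ * u * (c * b * c⁻¹)⁻¹ * u⁻¹ =
      c * (b * (c⁻¹ * u * c) * b⁻¹ * (c⁻¹ * u * c)⁻¹) * c⁻¹ := fun u => by group
  refine ⟨?_, fun u hu => ?_, fun u hu => ?_, fun u hu => ?_⟩
  · rw [← e]
    calc c * b * c⁻¹ * (c * p * c⁻¹) = c * (b * p) * c⁻¹ := by group
      _ = c * p * c⁻¹ * (c * b * c⁻¹) := by rw [h1]; group
  · rw [key]
    exact conj_mem_zpowers e (h2 _ ((hii u).1 hu))
  · rw [key, hii]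
    have e1 : ∀ w : G, c⁻¹ * (c * w * c⁻¹) * c = w := fun w => by group
    rw [e1]
    exact h3 _ ((hws u).1 hu)
  · rw [key]
    exact conj_mem_zpowers e (h4 _ (hE u hu))

/-- `NoB` for `BC` -/
theorem NoB.le [Finite G] (h : Fr T V z) (hNB : NoB V) (hp : p ∈ cj g V) (hp1 : p ≠ 1) (hpi : p ∈ ii (cj g V))
    {E' : Subgroup G} (hE' : ∀ u ∈ E', u ∈ ws V p ∧ ∀ b ∈ BC V g p E hpi, b * u * b⁻¹ * u⁻¹ ∈ zpowers p) :
    (BC V g p E hpi ⊓ kq V p).relIndex (BC V g p E hpi) ≤ E'.relIndex (ws V p) := by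
  have hpc : Col V p p := Col.of_mem hp hp hp1 hp1
  set B := BC V g p E hpi with hB
  have hpw : ∀ a ∈ ws V p, a * p = p * a := fun a ha => h.ws_comm hpc a ha p (h.mem_ws_self hpc)
  have hC1 := cent_zpowers hpw
  have hC : ∀ u, u ∈ LemmaM.cm (ws V p) B (zpowers p) hC1 ↔
      u ∈ ws V p ∧ ∀ b ∈ B, b * u * b⁻¹ * u⁻¹ ∈ zpowers p := by
    intro u
    rw [LemmaM.mem_cm]
    refine and_congr_right fun hu => forall₂_congr fun a ha => ?_
    rw [comm_inv_eq u a, inv_mem_iff]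
  have h1 := hNB g p hp hp1 B (fun b hb => hb.1) (fun b hb => hb.2.1) (fun b hb => hb.2.2.1) (B ⊓ kq V p) _
    (fun b => ?_) hC
  · refine h1.trans (relIndex_le_of_le_left (fun u hu => ?_) index_ne_zero_of_finite)
    exact (hC u).2 (hE' u hu)
  · rw [mem_inf]
    refine and_congr_right fun hb => ⟨fun hk => hk.2.1, fun hk => mem_kq_of ?_ hk⟩
    rw [mem_centralizer_singleton_iff]
    exact hb.1

variable (T V z m) in
/-- the inputs -/
structure Ctx : Prop where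
  fr : Fr T V z
  no : NoOver (NO3S.TwoFar.inc (V := V)) NO3S.TwoFar.RR NO3S.TwoFar.WS NO3S.TwoFar.VL
  nb : NoB V
  nt : NoTwo V (m + 3)

namespace Ctx

variable (c : Ctx T V z m) (gg : GG V (m + 3) y)
include c gg

theorem st [Finite G] : St T V z m y (pim V (y 0)) := ⟨c.fr, c.no, gg, md_MM c.fr gg.col0.left⟩

/-- `C_B(f̄) = 1` for a mover `(x, f)` with (D) and (β) -/
theorem mem_kq [Finite G] (hmv : Mv V (m + 3) y x f) (hD : DD V (y 0) x f) (hcom : Com V x (y (m + 2)))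
    (hr : y (m + 2) ∈ cj g V) (hq : y (m + 3) ∈ cj g V) (hqi : y (m + 3) ∈ ii (cj g V)) {b : G}
    (hb : b ∈ BC V g (y (m + 3)) ⊥ hqi) (hbf : b * f * b⁻¹ * f⁻¹ ∈ zpowers (y (m + 3))) :
    b ∈ kq V (y (m + 3)) := by
  have h := c.fr
  set p := y 0 with hpdef
  set q := y (m + 3) with hqdef
  set r := y (m + 2) with hrdef
  have hrq : Col V r q := gg.path (m + 2) (show m + 2 < m + 3 by omega)
  have hqc : Col V q q := hrq.right
  have hr1 : r ≠ 1 := hrq.ne_one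
  have hq1 : q ≠ 1 := hqc.ne_one
  have hrqne : r ≠ q := gg.ne_succ (i := m + 2) (by omega)
  have hpth : Pth V (m + 3 - 1) p r := by
    have := gg.pth (i := 0) (j := m + 2) (by omega) (by omega) (by omega)
    exact this
  obtain ⟨h2t, halt⟩ := lemM h (by omega) c.no gg.cr hpth hrq hmv.col.symm hmv.mem hmv.mv hD
  obtain ⟨-, -, h3⟩ := halt.resolve_left fun hg => hg.crit.ne hcom
  have hff : f * f = 1 := h.ws_sq hqc f hmv.mem
  set D := BC V g q (zpowers f) hqi with hDdef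
  set B := BC V g q ⊥ hqi with hBdef
  have hDB : D ≤ B := fun a ha => ⟨ha.1, ha.2.1, ha.2.2.1, fun u hu => by
    rw [mem_bot] at hu
    rw [hu]
    simp⟩
  have hmemD : ∀ a ∈ B, a * f * a⁻¹ * f⁻¹ ∈ zpowers q → a ∈ D := by
    intro a ha haf
    refine ⟨ha.1, ha.2.1, ha.2.2.1, fun u hu => ?_⟩
    rcases (mem_zpowers_iff_of_mul_self hff).1 hu with rfl | rfl
    · simp
    · exact haf
  -- `W_x ≤ B`
  have hxr : ∀ a ∈ ws V x, ∀ w ∈ ws V r, a * w = w * a := hcom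
  have hqr : q ∈ ws V r := h.mem_ws_of_col hrq
  have hxB : ws V x ≤ B := by
    intro a ha
    have haq : a * q = q * a := hxr a ha q hqr
    refine ⟨haq, fun u hu => ?_, fun u hu => ?_, fun u hu => ?_⟩
    · rw [comm_eq_one (hxr a ha u (h.ii_cj_le hr hr1 hu))]
      exact one_mem _
    · refine h.mem_ii_cj hr hr1 hq hq1 hrqne.symm (h3 a ha u hu) (mul_mem ?_ (inv_mem hu))
      exact conj_mem_ws_of_mem (mem_centralizer_singleton_iff.2 haq) hu
    · rw [mem_bot] at hu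
      rw [hu]
      simp
  -- `t ≤ |W_x : W_x ∩ D|`
  set t := (ii V).relIndex (ws V z) with htdef
  have ht : t ≤ D.relIndex (ws V x) := by
    set D₀ := ws V x ⊓ centralizer ({f} : Set G) with hD₀
    have h01 : D₀ ≤ D ⊓ ws V x := by
      intro a ha
      have haf : a * f = f * a := mem_centralizer_singleton_iff.1 ha.2
      refine ⟨hmemD a (hxB ha.1) ?_, ha.1⟩
      rw [comm_eq_one haf]
      exact one_mem _
    have h4 : D₀.relIndex (D ⊓ ws V x) ≤ 2 := by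
      have h5 : Nat.card (zpowers q) ≤ 2 := by
        rw [Nat.card_zpowers]
        refine orderOf_le_of_pow_eq_one (by norm_num) ?_
        rw [pow_two, h.pt_sq hqc]
      refine le_trans (LemmaM.relIndex_le_card (A := D ⊓ ws V x) (D := D₀) (N := zpowers q)
        (fun a => a * f * a⁻¹ * f⁻¹) (fun a ha => ha.1.2.2.2 f (mem_zpowers f)) (fun a ha b hb => ?_)
        fun a ha hfa => ?_) h5
      · have h6 : b * f * b⁻¹ * f⁻¹ ∈ zpowers q := hb.1.2.2.2 f (mem_zpowers f)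
        have h7 : a * f * a⁻¹ * f⁻¹ ∈ zpowers q := ha.1.2.2.2 f (mem_zpowers f)
        have e : a * b * f * (a * b)⁻¹ * f⁻¹ = a * (b * f * b⁻¹ * f⁻¹) * a⁻¹ * (a * f * a⁻¹ * f⁻¹) := by group
        change a * b * f * (a * b)⁻¹ * f⁻¹ = (a * f * a⁻¹ * f⁻¹) * (b * f * b⁻¹ * f⁻¹)
        rw [e, conj_zpow_mem ha.1.1 h6]
        obtain ⟨i, hi⟩ := mem_zpowers_iff.1 h6
        obtain ⟨j, hj⟩ := mem_zpowers_iff.1 h7
        rw [← hi, ← hj, ← zpow_add, ← zpow_add, add_comm]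
      · exact ⟨ha.2, mem_centralizer_singleton_iff.2 (comm_of_comm_eq_one hfa)⟩
    have h5 := relIndex_mul_relIndex D₀ (D ⊓ ws V x) (ws V x) h01 inf_le_right
    rw [inf_relIndex_right] at h5
    have h6 : 2 * t ≤ 2 * D.relIndex (ws V x) := by
      calc 2 * t ≤ D₀.relIndex (ws V x) := h2t
        _ = D₀.relIndex (D ⊓ ws V x) * D.relIndex (ws V x) := h5.symm
        _ ≤ 2 * D.relIndex (ws V x) := Nat.mul_le_mul_right _ h4
    omega
  set L := B ⊓ kq V q with hL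
  have hLD : L ≤ D := fun a ha => hmemD a ha.1 (ha.2.2.1 f hmv.mem)
  have hLB : L.relIndex B ≤ t := by
    have h4 := c.nb.le h hq hq1 hqi (E := ⊥) (E' := ii (cj g V)) fun u hu =>
      ⟨h.ii_cj_le hq hq1 hu, fun b hb => hb.2.1 u hu⟩
    have h5 : (ii (cj g V)).relIndex (ws V q) = t :=
      NO3S.TwoFar.index_eq h (l := NO3S.TwoFar.ln V g) (x := NO3S.TwoFar.pt hq hq1) hq
    rw [h5] at h4
    exact h4
  have h4 := relIndex_mul_relIndex L D B hLD hDB
  have h5 : D.relIndex (ws V x) ≤ D.relIndex B := relIndex_le_of_le_right hxB index_ne_zero_of_finite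
  have h6 : D.relIndex B ≠ 0 := index_ne_zero_of_finite
  have h7 : L.relIndex D ≠ 0 := index_ne_zero_of_finite
  have h8 : L.relIndex D * D.relIndex B ≤ 1 * D.relIndex B := by
    rw [h4, one_mul]; omega
  have h9 := Nat.le_of_mul_le_mul_right h8 (Nat.pos_of_ne_zero h6)
  have h10 : D ≤ L := relIndex_eq_one.1 (by omega)
  exact (h10 (hmemD b hb hbf)).2

omit c gg in
/-- the line through two points -/
theorem line_eq (h : Fr T V z) {g g' a b : G} (ha : a ∈ cj g V) (hb : b ∈ cj g V) (ha' : a ∈ cj g' V)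
    (hb' : b ∈ cj g' V) (ha1 : a ≠ 1) (hb1 : b ≠ 1) (hne : b ≠ a) : cj g V = cj g' V := by
  have key : ∀ g g' : G, a ∈ cj g V → b ∈ cj g V → a ∈ cj g' V → b ∈ cj g' V → cj g V ≤ cj g' V := by
    intro g g' ha hb ha' hb' w hw
    rcases four' h ha ha1 hb hb1 hne hw with e | e | e | e
    · rw [e]; exact one_mem _
    · rwa [e]
    · rwa [e]
    · rw [e]; exact mul_mem ha' hb'
  exact le_antisymm (key g g' ha hb ha' hb') (key g' g ha' hb' ha hb)

/-- the elements of `W_p` with `C_B ≠ 1`, transported from `q` -/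
theorem star [Finite G] (hnl : ¬ LamR V (m + 3) y) (ht : Term V m y) {g' : G}
    (hr : y (m + 2) ∈ cj g V) (hq : y (m + 3) ∈ cj g V) (hp : y 0 ∈ cj g' V) (hp' : y 1 ∈ cj g' V) {c₀ : G}
    (e0 : c₀ * y (m + 3) * c₀⁻¹ = y 0) (e1 : c₀ * y (m + 2) * c₀⁻¹ = y 1) (hpi : y 0 ∈ ii (cj g' V))
    (hqi : y (m + 3) ∈ ii (cj g V)) {b w : G}
    (hb : b ∈ BC V g' (y 0) ⊥ hpi) (hbk : b ∉ kq V (y 0)) (hw : w ∈ ws V (y 0))
    (hbw : b * w * b⁻¹ * w⁻¹ ∈ zpowers (y 0)) : w ∈ cj c₀ (ee V (y (m + 3)) (y 0)) := by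
  have h := c.fr
  rw [mem_cj]
  set f := c₀⁻¹ * w * c₀ with hf
  have e0' : c₀⁻¹ * y 0 * c₀⁻¹⁻¹ = y (m + 3) := by rw [← e0]; group
  have hfq : f ∈ ws V (y (m + 3)) := by
    have := conj_mem_ws c₀⁻¹ hw
    rw [e0', inv_inv] at this
    exact this
  by_contra hfE
  have hfc : f ∉ centralizer (ws V (y 0) : Set G) := by
    intro h1
    exact hfE (mem_ee.2 ⟨hfq, fun a ha => (mem_centralizer_iff.1 h1 a ha).symm⟩)
  obtain ⟨x, hmv, hD⟩ := ((c.st gg).mover_or hfq hfc).resolve_right hnl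
  have hcom := ht x f hmv hD
  have hl : cj c₀⁻¹ (cj g' V) = cj g V := by
    have h1 : cj (c₀ * g) V = cj g' V := by
      have a1 : y 0 ∈ cj (c₀ * g) V := by
        rw [← cj_cj, ← e0]
        exact conj_mem_cj hq
      have a2 : y 1 ∈ cj (c₀ * g) V := by
        rw [← cj_cj, ← e1]
        exact conj_mem_cj hr
      exact line_eq h a1 a2 hp hp' gg.col0.ne_one gg.col0.right.ne_one (gg.ne_succ (i := 0) (by omega)).symm
    rw [← h1, cj_cj, inv_mul_cancel_left]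
  have hb' : c₀⁻¹ * b * c₀⁻¹⁻¹ ∈ BC V g (y (m + 3)) ⊥ hqi := by
    refine BC_conj e0' hl (fun u hu => ?_) hb
    rw [mem_bot] at hu ⊢
    rw [hu]; group
  have h2 : c₀⁻¹ * b * c₀⁻¹⁻¹ * f * (c₀⁻¹ * b * c₀⁻¹⁻¹)⁻¹ * f⁻¹ ∈ zpowers (y (m + 3)) := by
    have e : c₀⁻¹ * b * c₀⁻¹⁻¹ * f * (c₀⁻¹ * b * c₀⁻¹⁻¹)⁻¹ * f⁻¹ = c₀⁻¹ * (b * w * b⁻¹ * w⁻¹) * c₀⁻¹⁻¹ := by
      rw [hf]; group
    rw [e]
    exact conj_mem_zpowers e0' hbw
  have h3 := c.mem_kq gg hmv hD hcom hr hq hqi hb' h2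
  apply hbk
  rw [← e0, ← cj_kq, mem_cj]
  rwa [inv_inv] at h3

/-- **(2.1), first part**: `λ ∈ R̄` for a terminal pair -/
theorem lamR_of_term [Finite G] (ht : Term V m y) : LamR V (m + 3) y := by
  by_contra hnl
  have h := c.fr
  have hex := gg.exact h c.no
  have hWp : ws V (y 0) ≤ centralizer ({y (m + 3)} : Set G) := gg.cr.cent h
  have hWq : ws V (y (m + 3)) ≤ centralizer ({y 0} : Set G) := gg.cr.symm.cent h
  have hpp : Col V (y 0) (y 0) := gg.col0.left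
  obtain ⟨g', hp, hp', hp1, hp1'⟩ := gg.col0
  obtain ⟨g, hr, hq, hr1, hq1⟩ := gg.path (m + 2) (by omega)
  have hqq : Col V (y (m + 3)) (y (m + 3)) := (gg.path (m + 2) (by omega)).right
  have hpne : y 1 ≠ y 0 := (gg.ne_succ (i := 0) (by omega)).symm
  have hqne : y (m + 2) ≠ y (m + 3) := gg.ne_succ (i := m + 2) (by omega)
  obtain ⟨c₀, e0, e1⟩ := exists_flag2 h (gg.path (m + 2) (by omega)).symm hqne gg.col0 hpne
  have hpi : y 0 ∈ ii (cj g' V) := h.mem_ii_cj hp hp1 hp' hp1' hpne (h.line_le_ws hp hp) (h.line_le_ws hp' hp)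
  have hqi : y (m + 3) ∈ ii (cj g V) :=
    h.mem_ii_cj hr hr1 hq hq1 hqne.symm (h.line_le_ws hr hq) (h.line_le_ws hq hq)
  set p := y 0 with hpdef
  set q := y (m + 3) with hqdef
  set Ep := ee V p q with hEp
  set Eq := ee V q p with hEq
  have hEpw : Ep ≤ ws V p := fun a ha => (mem_ee.1 ha).1
  have hEqw : Eq ≤ ws V q := fun a ha => (mem_ee.1 ha).1
  have hp1q : Com V (y 1) q := gg.com (i := 1) (j := m + 3) (by omega) le_rfl (by omega) (by omega)
  have hle : ∀ a ∈ ws V p, ∀ b ∈ ws V q, a * b * a⁻¹ * b⁻¹ ∈ ii (cj g' V) := fun a ha b hb =>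
    h.mem_ii_cj hp hp1 hp' hp1' hpne (gg.cr.comm_mem_left h ha hb) (gg.le a ha b hb)
  -- `W_q ≤ B'`
  have hWB : ∀ b ∈ ws V q, b ∈ BC V g' p Ep hpi := by
    intro b hb
    refine ⟨mem_centralizer_singleton_iff.1 (hWq hb), fun u hu => ?_, fun u hu => ?_, fun u hu => ?_⟩
    · rw [comm_eq_one (hp1q u (h.ii_cj_le hp' hp1' hu) b hb).symm]
      exact one_mem _
    · rw [comm_inv_eq]
      exact inv_mem (hle u hu b hb)
    · rw [comm_eq_one ((mem_ee.1 hu).2 b hb).symm]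
      exact one_mem _
  have hbot : ∀ b ∈ BC V g' p Ep hpi, b ∈ BC V g' p ⊥ hpi := fun b hb => ⟨hb.1, hb.2.1, hb.2.2.1, fun u hu => by
    rw [mem_bot] at hu
    rw [hu]
    simp⟩
  obtain ⟨b₀, hb₀, hb₀k⟩ : ∃ b ∈ ws V q, b ∉ kq V p := by
    by_contra hcon
    push Not at hcon
    refine gg.cr.ne fun a ha b hb => ?_
    exact ((mem_ee.1 (hex.kq b hb (hcon b hb))).2 a ha).symm
  -- `E_p = E_q^c`
  have hE1 : Ep ≤ cj c₀ Eq := by
    intro e he
    refine c.star gg hnl ht hr hq hp hp' e0 e1 hpi hqi (hbot _ (hWB b₀ hb₀)) hb₀k (hEpw he) ?_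
    rw [comm_eq_one ((mem_ee.1 he).2 b₀ hb₀).symm]
    exact one_mem _
  have hcard : Nat.card (cj c₀ Eq) ≤ Nat.card Ep := by
    rw [card_cj]
    have h1 := NO3S.Dual.card_mul_relIndex_of_le hEpw
    have h2 := NO3S.Dual.card_mul_relIndex_of_le hEqw
    have h3 : Nat.card (ws V p) = Nat.card (ws V q) := by
      rw [← e0, ← cj_ws, card_cj]
    have h4 : Ep.relIndex (ws V p) = Eq.relIndex (ws V q) := hex.card
    have h5 : Eq.relIndex (ws V q) ≠ 0 := index_ne_zero_of_finite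
    rw [h4, h3, ← h2] at h1
    exact (Nat.eq_of_mul_eq_mul_right (Nat.pos_of_ne_zero h5) h1).ge
  have hE : Ep = cj c₀ Eq := eq_of_le_of_card_ge hE1 hcard
  -- `E_p` is invariant
  have hinv : ∀ k : G, k * p = p * k → cj k (cj g' V) = cj g' V → ∀ e ∈ Ep, k * e * k⁻¹ ∈ Ep := by
    intro k hk hkl e he
    have hkp : k * p * k⁻¹ = p := by rw [hk, mul_inv_cancel_right]
    rw [hE]
    have hb1 : k * b₀ * k⁻¹ ∈ BC V g' p ⊥ hpi := by
      refine BC_conj hkp hkl (fun u hu => ?_) (hbot _ (hWB b₀ hb₀))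
      rw [mem_bot] at hu ⊢
      rw [hu]; group
    refine c.star gg hnl ht hr hq hp hp' e0 e1 hpi hqi hb1 (fun h1 => hb₀k ?_) ?_ ?_
    · have h2 : k * b₀ * k⁻¹ ∈ kq V (k * p * k⁻¹) := by rw [hkp]; exact h1
      rw [← cj_kq, mem_cj] at h2
      have e : k⁻¹ * (k * b₀ * k⁻¹) * k = b₀ := by group
      rwa [e] at h2
    · exact conj_mem_ws_of_mem (mem_centralizer_singleton_iff.2 hk) (hEpw he)
    · have e2 : k * b₀ * k⁻¹ * (k * e * k⁻¹) * (k * b₀ * k⁻¹)⁻¹ * (k * e * k⁻¹)⁻¹ =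
          k * (b₀ * e * b₀⁻¹ * e⁻¹) * k⁻¹ := by group
      rw [e2, comm_eq_one ((mem_ee.1 he).2 b₀ hb₀).symm, mul_one, mul_inv_cancel]
      exact one_mem _
  -- `B' = W_q (B' ∩ K_p)`
  set B' := BC V g' p Ep hpi with hB'
  set L := B' ⊓ kq V p with hL
  have hLB : L.relIndex B' ≤ Ep.relIndex (ws V p) :=
    c.nb.le h hp hp1 hpi fun u hu => ⟨hEpw hu, fun b hb => hb.2.2.2 u hu⟩
  have hLW : Eq.relIndex (ws V q) ≤ L.relIndex (ws V q) := by
    rw [← inf_relIndex_right L]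
    exact relIndex_le_of_le_left (fun a ha => hex.kq a ha.2 ha.1.2) index_ne_zero_of_finite
  have hsup : B' ≤ ws V q ⊔ L := by
    rw [← relIndex_eq_one]
    have a1 := relIndex_mul_relIndex L (ws V q ⊔ L) B' le_sup_right (sup_le hWB inf_le_left)
    have a2 : L.relIndex (ws V q) ≤ L.relIndex (ws V q ⊔ L) :=
      relIndex_le_of_le_right le_sup_left index_ne_zero_of_finite
    have a3 : L.relIndex (ws V q ⊔ L) ≠ 0 := index_ne_zero_of_finite
    have a4 : (ws V q ⊔ L).relIndex B' ≠ 0 := index_ne_zero_of_finite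
    have a6 : Ep.relIndex (ws V p) = Eq.relIndex (ws V q) := hex.card
    have a5 : L.relIndex (ws V q ⊔ L) * (ws V q ⊔ L).relIndex B' ≤ L.relIndex (ws V q ⊔ L) * 1 := by
      rw [a1, mul_one]; omega
    have a7 := Nat.le_of_mul_le_mul_left a5 (Nat.pos_of_ne_zero a3)
    omega
  have hLn : ∀ a ∈ ws V q, ∀ b ∈ L, a * b * a⁻¹ ∈ L := by
    intro a ha b hb
    refine mem_inf.2 ⟨B'.mul_mem (B'.mul_mem (hWB a ha) hb.1) (B'.inv_mem (hWB a ha)), ?_⟩
    exact conj_mem_of_normalizer (centralizer_le_normalizer_kq V p) (hWq ha) hb.2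
  -- `R ⟨p⟩`
  have hRw : rr V p q ≤ ws V p := by
    unfold rr
    rw [closure_le]
    rintro _ ⟨a, ha, b, hb, rfl⟩
    exact gg.cr.comm_mem_left h ha hb
  have hpw : p ∈ ws V p := h.mem_ws_self hpp
  set RP := rr V p q ⊔ zpowers p with hRP
  have hpRP : p ∈ RP := (le_sup_right : _ ≤ RP) (mem_zpowers p)
  have key : ∀ a ∈ ws V p, ∀ b ∈ B', a * b * a⁻¹ * b⁻¹ ∈ RP := by
    intro a ha b hb
    obtain ⟨b', hb', k, hk, rfl⟩ := exists_mul_of_mem_sup' hLn (hsup hb)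
    have h1 : a * b' * a⁻¹ * b'⁻¹ ∈ RP := (le_sup_left : _ ≤ RP) (comm_mem_rr ha hb')
    rcases h.kq_cases' hpp hk.2 (inv_mem ha) with e | e
    · have e2 : a * (b' * k) * a⁻¹ * (b' * k)⁻¹ = a * b' * (k * a⁻¹ * k⁻¹) * b'⁻¹ := by group
      rw [e2, e]
      exact h1
    · have e2 : a * (b' * k) * a⁻¹ * (b' * k)⁻¹ = a * b' * (k * a⁻¹ * k⁻¹) * b'⁻¹ := by group
      have e3 : b' * p = p * b' := mem_centralizer_singleton_iff.1 (hWq hb')
      have e4 : a * p = p * a := h.ws_comm hpp a ha p hpw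
      have e5 : a * b' * (p * a⁻¹) * b'⁻¹ = p * (a * b' * a⁻¹ * b'⁻¹) := by
        calc a * b' * (p * a⁻¹) * b'⁻¹ = a * (b' * p) * a⁻¹ * b'⁻¹ := by group
          _ = (a * p) * b' * a⁻¹ * b'⁻¹ := by rw [e3]; group
          _ = p * (a * b' * a⁻¹ * b'⁻¹) := by rw [e4]; group
      rw [e2, e, e5]
      exact mul_mem hpRP h1
  have hRinv : ∀ k : G, k * p = p * k → cj k (cj g' V) = cj g' V → ∀ w ∈ rr V p q, k * w * k⁻¹ ∈ RP := by
    intro k hk hkl w hw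
    have hkp : k * p * k⁻¹ = p := by rw [hk, mul_inv_cancel_right]
    have hk' : k⁻¹ * p = p * k⁻¹ := by
      rw [inv_mul_eq_iff_eq_mul, ← mul_assoc, hk, mul_inv_cancel_right]
    have hkl' : cj k⁻¹ (cj g' V) = cj g' V := by
      conv_lhs => rw [← hkl, cj_cj, inv_mul_cancel, cj_one]
    have h1 : rr V p q ≤ RP.comap (MulAut.conj k).toMonoidHom := by
      conv_lhs => unfold rr
      rw [closure_le]
      rintro _ ⟨a, ha, b, hb, rfl⟩
      change k * (a * b * a⁻¹ * b⁻¹) * k⁻¹ ∈ RP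
      rw [← conj_comm]
      refine key _ (conj_mem_ws_of_mem (mem_centralizer_singleton_iff.2 hk) ha) _ ?_
      refine BC_conj hkp hkl (fun u hu => ?_) (hWB b hb)
      have := hinv k⁻¹ hk' hkl' u hu
      rwa [inv_inv] at this
    exact h1 hw
  -- the end
  obtain ⟨w, hw, hw1⟩ : ∃ w ∈ rr V p q, w ≠ 1 := by
    by_contra hcon
    push Not at hcon
    exact gg.cr.ne fun a ha b hb => comm_of_comm_eq_one (hcon _ (comm_mem_rr ha hb))
  have hRii : rr V p q ≤ ii (cj g' V) := by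
    unfold rr
    rw [closure_le]
    rintro _ ⟨a, ha, b, hb, rfl⟩
    exact hle a ha b hb
  have hRq : rr V p q ≤ ws V q := by
    unfold rr
    rw [closure_le]
    rintro _ ⟨a, ha, b, hb, rfl⟩
    exact gg.cr.comm_mem_right h ha hb
  by_cases hwl : w ∈ cj g' V
  · rcases four' h hp hp1 hp' hp1' hpne hwl with e | e | e | e
    · exact hw1 e
    · have h1 := hRq hw
      rw [e] at h1
      exact gg.not_mem h1
    · exact hnl (Or.inl (e ▸ hw))
    · exact hnl (Or.inr (e ▸ hw))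
  · obtain ⟨k, -, hk, hkw⟩ := h.fu_cj (hRii hw) hwl hp' hp1'
    have hkp : k * p = p * k := (mem_centralizer_iff.1 hk p hp).symm
    have hkl : cj k (cj g' V) = cj g' V := cj_eq_of_mem_normalizer (centralizer_le_normalizer _ hk)
    have h1 := hRinv k hkp hkl w hw
    rw [hkw] at h1
    have h2 : y 1 ∈ RP := by
      have := mul_mem h1 (inv_mem ((le_sup_left : _ ≤ RP) hw))
      rwa [mul_inv_cancel_right] at this
    obtain ⟨a, ha, d, hd, hyd⟩ := NO3S.Dual.mem_sup_of_comm (h.ws_comm hpp) hRw (zpowers_le.2 hpw) h2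
    rcases (mem_zpowers_iff_of_mul_self (h.pt_sq hpp)).1 hd with e | e
    · rw [e, mul_one] at hyd
      exact hnl (Or.inl (hyd ▸ ha))
    · rw [e] at hyd
      refine hnl (Or.inr ?_)
      have e3 : a * p = p * a := h.ws_comm hpp a (hRw ha) p hpw
      change p * y 1 ∈ rr V p q
      rw [hyd, e3, ← mul_assoc, h.pt_sq hpp, one_mul]
      exact ha

/-! ### the twin geodesic -/

omit c gg in
/-- (F2) for paths -/
theorem pthTrans [Finite G] (h : Fr T V z) {g a b u : G} {k : ℕ} (ha : a ∈ cj g V) (ha1 : a ≠ 1)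
    (hb : b ∈ cj g V) (hb1 : b ≠ 1) (hne : b ≠ a) (hua : u ∈ ws V a) (hub : u ∈ ws V b) (hu : u ∉ cj g V)
    (hc : Pth V k u a) : Pth V k u b := by
  have hii := h.mem_ii_cj ha ha1 hb hb1 hne hua hub
  obtain ⟨c, -, hcu, hcab⟩ := h.ftwo_cj hii hu ha ha1 hb hb1
  have := hc.conj c
  rwa [NO3S.Dual.conj_eq_of_comm hcu, hcab] at this

omit c gg in
/-- a path as a sequence -/
theorem exists_seq {k : ℕ} {a b : G} (h : Pth V k a b) :
    ∃ w : ℕ → G, w 0 = a ∧ w k = b ∧ ∀ i < k, Col V (w i) (w (i + 1)) := by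
  induction h with
  | @zero a' hx => exact ⟨fun _ => a', rfl, rfl, fun i hi => absurd hi (by omega)⟩
  | @step k a b d h1 h2 ih =>
    obtain ⟨w, h3, h4, h5⟩ := ih
    refine ⟨fun i => if i ≤ k then w i else d, by simp [h3], by simp, fun i hi => ?_⟩
    rcases Nat.lt_or_ge i k with hik | hik
    · have e1 : (if i ≤ k then w i else d) = w i := if_pos (by omega)
      have e2 : (if i + 1 ≤ k then w (i + 1) else d) = w (i + 1) := if_pos (by omega)
      change Col V (if i ≤ k then w i else d) (if i + 1 ≤ k then w (i + 1) else d)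
      rw [e1, e2]
      exact h5 i hik
    · obtain rfl : i = k := by omega
      have e1 : (if i ≤ i then w i else d) = w i := if_pos le_rfl
      have e2 : (if i + 1 ≤ i then w (i + 1) else d) = d := if_neg (by omega)
      change Col V (if i ≤ i then w i else d) (if i + 1 ≤ i then w (i + 1) else d)
      rw [e1, e2, h4]
      exact h2

/-- `R ≤ I_{l_n}` for a terminal pair -/
theorem rr_le_of_term [Finite G] (ht : Term V m y) : rr V (y 0) (y (m + 3)) ≤ ws V (y (m + 2)) := by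
  obtain ⟨x, f, hmv, hD⟩ := (c.st gg).exists_D c.nt
  have hcom := ht x f hmv hD
  have hpth : Pth V (m + 3 - 1) (y 0) (y (m + 2)) :=
    gg.pth (i := 0) (j := m + 2) (by omega) (by omega) (by omega)
  have h1 := MPlus.lemMplus c.fr (by omega) c.no gg.cr hpth (gg.path (m + 2) (by omega)) hmv.col.symm hmv.mem
    hmv.mv hD
  obtain ⟨-, -, h2⟩ := h1.resolve_left fun hg => hg.crit.ne hcom
  unfold rr
  rw [closure_le]
  rintro _ ⟨a, ha, b, hb, rfl⟩
  exact h2 a ha b hb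

/-- **(2.1)** -/
theorem term [Finite G] (ht : Term V m y) :
    y 0 * y 1 ∈ rr V (y 0) (y (m + 3)) ∧ y 1 ∉ rr V (y 0) (y (m + 3)) := by
  have h := c.fr
  have hrr := c.rr_le_of_term gg ht
  have hRq : rr V (y 0) (y (m + 3)) ≤ ws V (y (m + 3)) := by
    unfold rr
    rw [closure_le]
    rintro _ ⟨a, ha, b, hb, rfl⟩
    exact gg.cr.comm_mem_right h ha hb
  obtain ⟨g, hr, hq, hr1, hq1⟩ := gg.path (m + 2) (by omega)
  have hqne : y (m + 2) ≠ y (m + 3) := gg.ne_succ (i := m + 2) (by omega)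
  have h1 : y 1 ∉ rr V (y 0) (y (m + 3)) := by
    intro h1
    by_cases hl : y 1 ∈ cj g V
    · exact gg.dist (i := 1) (j := m + 3) (k := 1) (by omega) le_rfl (by omega) (by omega)
        (Pth.of_col (Col.of_mem hl hq gg.col0.right.ne_one hq1))
    · have h2 : Pth V (m + 1) (y 1) (y (m + 2)) :=
        gg.pth (i := 1) (j := m + 2) (by omega) (by omega) (by omega)
      exact gg.dist (i := 1) (j := m + 3) (k := m + 1) (by omega) le_rfl (by omega) (by omega)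
        (pthTrans h hr hr1 hq hq1 hqne.symm (hrr h1) (hRq h1) hl h2)
  exact ⟨(c.lamR_of_term gg ht).resolve_left h1, h1⟩

/-- a goal pair has a geodesic for which it is not terminal -/
theorem exists_not_term [Finite G] : ∃ y' : ℕ → G, GG V (m + 3) y' ∧ ¬ Term V m y' := by
  by_cases ht : Term V m y
  · have h := c.fr
    obtain ⟨he, h1⟩ := c.term gg ht
    have hrr := c.rr_le_of_term gg ht
    have hRq : rr V (y 0) (y (m + 3)) ≤ ws V (y (m + 3)) := by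
      unfold rr
      rw [closure_le]
      rintro _ ⟨a, ha, b, hb, rfl⟩
      exact gg.cr.comm_mem_right h ha hb
    obtain ⟨g, hr, hq, hr1, hq1⟩ := gg.path (m + 2) (by omega)
    obtain ⟨g', hp, hp', hp1, hp1'⟩ := gg.col0
    have hqne : y (m + 2) ≠ y (m + 3) := gg.ne_succ (i := m + 2) (by omega)
    have hpne : y 1 ≠ y 0 := (gg.ne_succ (i := 0) (by omega)).symm
    have hpp := h.pt_sq gg.col0.left
    have hel : y 0 * y 1 ∈ cj g' V := mul_mem hp hp'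
    have hen : y 0 * y 1 ≠ 1 := by
      intro e
      apply hpne
      calc y 1 = y 0 * y 0 * y 1 := by rw [hpp, one_mul]
        _ = y 0 := by rw [mul_assoc, e, mul_one]
    have hpe : Col V (y 0) (y 0 * y 1) := Col.of_mem hp hel hp1 hen
    have he1 : Col V (y 0 * y 1) (y 1) := Col.of_mem hel hp' hen hp1'
    have hnl : y 0 * y 1 ∉ cj g V := by
      intro hl
      exact gg.no_pth (k := 2) (by omega) ((Pth.of_col hpe).step (Col.of_mem hl hq hen hq1))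
    have h2 : Pth V (m + 2) (y 0 * y 1) (y (m + 2)) := by
      have := gg.pth (i := 1) (j := m + 2) (by omega) (by omega) (by omega)
      exact this.head he1
    have h3 := pthTrans h hr hr1 hq hq1 hqne.symm (hrr he) (hRq he) hnl h2
    obtain ⟨w, hw0, hwn, hw⟩ := exists_seq h3
    have hy0 : ch (y 0) w 0 = y 0 := rfl
    have hy1 : ch (y 0) w 1 = y 0 * y 1 := hw0
    have hyn : ch (y 0) w (m + 3) = y (m + 3) := hwn
    have hgg : GG V (m + 3) (ch (y 0) w) := by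
      refine ⟨by rw [hy0, hyn]; exact gg.cr, ?_, by rw [hy0, hyn]; exact gg.not_mem,
        by rw [hy0, hyn]; exact gg.not_mem', ?_⟩
      · intro i hi
        cases i with
        | zero => rw [hy0, hy1]; exact hpe
        | succ i => exact hw i (by omega)
      · intro a ha b hb
        rw [hy0] at ha
        rw [hyn] at hb
        rw [hy1]
        exact h.ii_cj_le hel hen (h.mem_ii_cj hp hp1 hp' hp1' hpne (gg.cr.comm_mem_left h ha hb) (gg.le a ha b hb))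
    refine ⟨_, hgg, fun ht' => h1 ?_⟩
    have h4 := (c.term hgg ht').1
    rw [hy0, hy1, hyn, ← mul_assoc, hpp, one_mul] at h4
    exact h4
  · exact ⟨y, gg, ht⟩

/-- a pair which is not terminal has a child -/
theorem exists_child [Finite G] (ht : ¬ Term V m y) : ∃ x f, Child V m y x f := by
  unfold Term at ht
  push Not at ht
  obtain ⟨x, f, hmv, hD, hcom⟩ := ht
  have hpth : Pth V (m + 3 - 1) (y 0) (y (m + 2)) :=
    gg.pth (i := 0) (j := m + 2) (by omega) (by omega) (by omega)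
  rcases (lemM c.fr (by omega) c.no gg.cr hpth (gg.path (m + 2) (by omega)) hmv.col.symm hmv.mem
    hmv.mv hD).2 with h1 | h1
  · exact ⟨x, f, gg_of_goal gg h1, hmv, hD⟩
  · exact absurd h1.1 hcom

/-- **(2.2)** a child is never terminal -/
theorem not_term_child [Finite G] (hc : Child V m y x f) : ¬ Term V m (ch x y) := by
  intro ht
  have h := c.fr
  have h1 := (c.term hc.gg ht).1
  change x * y 0 ∈ rr V x (y (m + 2)) at h1
  have hq' : rr V x (y (m + 2)) ≤ ws V (y (m + 2)) ⊓ (ws V x ⊓ ws V (y 0)) := by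
    unfold rr
    rw [closure_le]
    rintro _ ⟨a, ha, b, hb, rfl⟩
    exact ⟨hc.gg.cr.comm_mem_right h ha hb, hc.gg.cr.comm_mem_left h ha hb, hc.gg.le a ha b hb⟩
  obtain ⟨h2, h3, h4⟩ := hq' h1
  have hcom : Com V (y (m + 2)) (y (m + 3)) := gg.com (by omega) le_rfl (by omega) (by omega)
  have h5 := hc.mv.cen _ h3 h4 (hcom _ h2 f hc.mv.mem).symm
  have h6 : x ∈ ws V (y 1) := by
    have h7 : y 0 ∈ ws V (y 1) := h.mem_ws_of_col gg.col0.symm
    have := mul_mem h5 (inv_mem h7)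
    rwa [mul_inv_cancel_right] at this
  have h7 : Com V (y 1) (y (m + 3)) := gg.com (by omega) le_rfl (by omega) (by omega)
  exact hc.mv.mv (NO3S.Dual.conj_eq_of_comm (h7 x h6 f hc.mv.mem).symm)

/-- **(2.3)** if there is a goal pair, there is a child of a child -/
theorem exists_gr [Finite G] : ∃ y', Gr V m y' := by
  obtain ⟨y₀, gg₀, ht₀⟩ := c.exists_not_term gg
  obtain ⟨x, f, hc⟩ := c.exists_child gg₀ ht₀
  obtain ⟨x', f', hc'⟩ := c.exists_child hc.gg (c.not_term_child gg₀ hc)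
  exact ⟨_, y₀, x, f, x', f', gg₀, hc, hc', rfl⟩

end Ctx

end Cfsg.Agent.Omega.NOThree.LL
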