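import Cfsg.Agent.Omega.NOThree.LL.GrFree
import Cfsg.Agent.Omega.NOThree.LL.Term
import Cfsg.Agent.Omega.NOThree.LL.Cor

/-!
# TwoFar, THEOREM LL (#18157): there is no GOAL pair

* `noB_of_noHP` : `NoB V` (855's form of (NO)) from `NoHP` (543's form);
* `no_gg` : **THEOREM LL**: no GOAL pair (`n ≥ 3`), from (NO); `no_goal` : in the form of `SecOne.Goal`;
* `no_gg_of_mlk`, `no_goal_of_mlk` : from (ML) for the K-groups.
-/

set_option autoImplicit false
set_option linter.unusedSectionVars false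

namespace Cfsg.Agent.Omega.NOThree.LL

open Subgroup Cfsg Cfsg.Agent.ZN Cfsg.Agent.MinSimple.Geo Cfsg.Agent.Omega.CaseL Cfsg.Agent.Omega.NO3S.TwoOne
open Cfsg.Agent.Omega.NO3S.Pt
open Cfsg.Agent.Omega.NOThree.SecOne (Goal)
open Cfsg.Agent.Omega.NOThree.TF (Md conj_mem_ws_of_mem MM pim md_MM)
open Cfsg.Agent.Omega.NOThree.LemmaM (NoOver)

universe u

variable {G : Type u} [Group G] {T V : Subgroup G} {z : G} {m : ℕ} {y : ℕ → G}

/-- (NO) in the form `NoB` -/
theorem noB_of_noHP [Finite G] (h : Fr T V z) (hno : ∀ p, Col V p p → NoHP V p (pim V p)) : NoB V := by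
  intro g p hp hp1 B hB hB1 hB2 N C hN hC
  have hpc : Col V p p := Col.of_mem hp hp hp1 hp1
  have md := md_MM h hpc
  have hfin : Finite (MM V p) := finite_Md md
  have hpp := h.pt_sq hpc
  obtain ⟨U, hU⟩ := TF.Md.exists_U h md hp hp1
  -- a second point of the line
  obtain ⟨x, hx, hx1, hxp⟩ : ∃ x ∈ cj g V, x ≠ 1 ∧ x ≠ p := by
    obtain ⟨k, -, -, hf⟩ := h.flag hp hp1
    exact hf.ln.exists_y
  have hno' := hno p hpc g x U hp hp1 hx hx1 hxp hU
  have hBc : B ≤ centralizer ({p} : Set G) := fun b hb => mem_centralizer_singleton_iff.2 (hB b hb)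
  -- the action on `π u`
  have hact : ∀ (b : centralizer ({p} : Set G)) {u : G}, u ∈ ws V p →
      (b • pim V p u = pim V p u ↔ (b : G) * u * (b : G)⁻¹ * u⁻¹ ∈ zpowers p) := by
    intro b u hu
    rw [← md.smul b u hu, md.eq_iff h hpc (conj_mem_ws_of_mem b.2 hu) hu, mem_zpowers_iff_of_mul_self hpp]
    refine or_congr ⟨fun e => ?_, fun e => ?_⟩ ⟨fun e => ?_, fun e => ?_⟩
    · rw [e, mul_inv_cancel]
    · exact mul_inv_eq_one.1 e
    · rw [e, mul_inv_cancel_right]
    · exact mul_inv_eq_iff_eq_mul.1 e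
  have h1 := hno' (B.subgroupOf (centralizer ({p} : Set G))) (by
    intro b hb
    have hb' : (b : G) ∈ B := mem_subgroupOf.1 hb
    refine ⟨fun u hu => ?_, fun v => ?_⟩
    · obtain ⟨a, ha, rfl⟩ := (hU u).1 hu
      exact (hact b (h.ii_cj_le hp hp1 ha)).2 (hB1 _ hb' a ha)
    · obtain ⟨a, ha, rfl⟩ := md.surj v
      have ha' : a⁻¹ = a := inv_eq_of_mul_eq_one_left (h.ws_sq hpc a ha)
      have h2 : (b : G) * a * (b : G)⁻¹ ∈ ws V p := conj_mem_ws_of_mem b.2 ha
      rw [md.sub_eq h hpc, ← md.smul b a ha, ← md.map_mul _ h2 _ ha, hU]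
      refine ⟨_, hB2 _ hb' a ha, ?_⟩
      rw [ha'])
  -- the indices
  have h2 : (kerM (centralizer ({p} : Set G)) (MM V p)).relIndex (B.subgroupOf (centralizer ({p} : Set G))) =
      N.relIndex B := by
    have e : (kerM (centralizer ({p} : Set G)) (MM V p)).subgroupOf (B.subgroupOf (centralizer ({p} : Set G))) =
        (N.subgroupOf (centralizer ({p} : Set G))).subgroupOf (B.subgroupOf (centralizer ({p} : Set G))) := by
      ext ⟨b, hb⟩
      rw [mem_subgroupOf, mem_subgroupOf, mem_subgroupOf, mem_kerM, hN]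
      have hb' : (b : G) ∈ B := mem_subgroupOf.1 hb
      constructor
      · intro hk
        exact ⟨hb', fun u hu => (hact b hu).1 (hk _)⟩
      · rintro ⟨-, hk⟩ v
        obtain ⟨a, ha, rfl⟩ := md.surj v
        exact (hact b ha).2 (hk a ha)
    rw [relIndex, e]
    change (N.subgroupOf (centralizer ({p} : Set G))).relIndex (B.subgroupOf (centralizer ({p} : Set G))) = _
    exact relIndex_subgroupOf hBc
  have h3 : (One.cv (MM V p) (B.subgroupOf (centralizer ({p} : Set G)))).index = C.relIndex (ws V p) := by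
    refine md.index_eq_relIndex fun a ha => ?_
    rw [One.mem_cv, hC]
    constructor
    · intro hk
      exact ⟨ha, fun b hb => (hact ⟨b, hBc hb⟩ ha).1 (hk ⟨b, hBc hb⟩ (mem_subgroupOf.2 hb))⟩
    · rintro ⟨-, hk⟩ b hb
      exact (hact b ha).2 (hk b (mem_subgroupOf.1 hb))
  have h4 := (One.cv (MM V p) (B.subgroupOf (centralizer ({p} : Set G)))).card_mul_index
  rw [h2, ← h4, h3, mul_comm] at h1
  exact Nat.le_of_mul_le_mul_left h1 Nat.card_pos

/-- **THEOREM LL**: there is no GOAL pair. -/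
theorem no_gg [Finite G] (h : Fr T V z)
    (hNO : NoOver (NO3S.TwoFar.inc (V := V)) NO3S.TwoFar.RR NO3S.TwoFar.WS NO3S.TwoFar.VL)
    (hno : ∀ p, Col V p p → NoHP V p (pim V p)) : ¬ GG V (m + 3) y := by
  intro gg
  obtain ⟨y', hy'⟩ := Ctx.exists_gr ⟨h, hNO, noB_of_noHP h hno, noTwo h m⟩ gg
  exact no_gr' h hNO hno y' hy'

/-- **THEOREM LL**, from (ML) -/
theorem no_gg_of_mlk [Finite G] (hML : ML.Final.MLK.{u, u}) (h : Fr T V z)
    (hNO : NoOver (NO3S.TwoFar.inc (V := V)) NO3S.TwoFar.RR NO3S.TwoFar.WS NO3S.TwoFar.VL)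
    (hK : ∀ p, Col V p p → IsKGroup (centralizer ({p} : Set G))) : ¬ GG V (m + 3) y :=
  no_gg h hNO fun p hp => noHP_of hML h (hK p hp) (md_MM h hp)

/-- a goal pair in the form of `SecOne` has a geodesic -/
theorem exists_gg_of_goal {p x q : G} (hg : Goal V (m + 3) p x q) : ∃ y, GG V (m + 3) y := by
  have hp : Pth V (m + 2) x q := hg.path
  obtain ⟨w, h0, h1, h2⟩ := Ctx.exists_seq hp
  refine ⟨ch p w, ?_, ?_, ?_, ?_, ?_⟩
  · change Cr V (m + 3) p (w (m + 2))
    rw [h1]; exact hg.crit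
  · intro i hi
    cases i with
    | zero =>
      change Col V p (w 0)
      rw [h0]; exact hg.col
    | succ i => exact h2 i (by omega)
  · change p ∉ ws V (w (m + 2))
    rw [h1]; exact hg.not_mem
  · change w (m + 2) ∉ ws V p
    rw [h1]; exact hg.not_mem'
  · intro a ha b hb
    have ha' : a ∈ ws V p := ha
    have hb' : b ∈ ws V (w (m + 2)) := hb
    change a * b * a⁻¹ * b⁻¹ ∈ ws V (w 0)
    rw [h1] at hb'
    rw [h0]
    exact (hg.le a ha' b hb').2

/-- **THEOREM LL**: no goal pair -/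
theorem no_goal [Finite G] (h : Fr T V z)
    (hNO : NoOver (NO3S.TwoFar.inc (V := V)) NO3S.TwoFar.RR NO3S.TwoFar.WS NO3S.TwoFar.VL)
    (hno : ∀ p, Col V p p → NoHP V p (pim V p)) {p x q : G} : ¬ Goal V (m + 3) p x q := fun hg =>
  no_gg h hNO hno (exists_gg_of_goal hg).choose_spec

/-- **THEOREM LL**: no goal pair, from (ML) -/
theorem no_goal_of_mlk [Finite G] (hML : ML.Final.MLK.{u, u}) (h : Fr T V z)
    (hNO : NoOver (NO3S.TwoFar.inc (V := V)) NO3S.TwoFar.RR NO3S.TwoFar.WS NO3S.TwoFar.VL)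
    (hK : ∀ p, Col V p p → IsKGroup (centralizer ({p} : Set G))) {p x q : G} : ¬ Goal V (m + 3) p x q := fun hg =>
  no_gg_of_mlk hML h hNO hK (exists_gg_of_goal hg).choose_spec

end Cfsg.Agent.Omega.NOThree.LL
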