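import Cfsg.Agent.Omega.NOThree.LL.One

/-!
# NO-3S: THEOREM SUM (orbit sums; bb: helper244)

`A ≤ B_λ = C_H(U) ∩ C_H(M/U)` such that `|[v, A]| ≥ 4` for every `v ∉ C_M(A)`. Then `[M, A]` contains a nonzero
element of a line vector. Only (COLL) is used. Here `Lam` is the set of the nonzero elements of the line vectors,
`L` the line vector containing `lam`.
-/

set_option autoImplicit false
set_option linter.unusedSectionVars false

namespace Cfsg.Agent.Omega.NOThree.LL.OrbSum

open Cfsg.Agent.Omega.NOThree.LL.One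

variable {H : Type*} {M : Type*} [Group H] [AddCommGroup M] [DistribMulAction H M]

/-- the sum of the elements of an elementary abelian 2-group of order at least 4 is zero -/
theorem sum_addSubgroup [Finite M] (two : ∀ m : M, m + m = 0) (C : AddSubgroup M) [Fintype C]
    (h4 : 4 ≤ Nat.card C) : ∑ c : C, (c : M) = 0 := by
  classical
  by_contra h0
  have h1 : (∑ c : C, (c : M)) ∉ (⊥ : AddSubgroup M) := fun h => h0 (AddSubgroup.mem_bot.1 h)
  obtain ⟨φ, -, h2⟩ := exists_fun two h1
  rw [map_sum] at h2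
  -- an element `d ≠ 0` of `C` in the kernel of `φ`
  obtain ⟨d, hd, hd0, hdφ⟩ : ∃ d ∈ C, d ≠ 0 ∧ φ d = 0 := by
    by_contra hne
    push Not at hne
    have h3 : ∀ x ∈ C, ∀ y ∈ C, φ x = φ y → x = y := by
      intro x hx y hy hxy
      by_contra h5
      refine hne (x - y) (C.sub_mem hx hy) (sub_ne_zero.2 h5) ?_
      rw [map_sub, hxy, sub_self]
    have h6 : Nat.card C ≤ Nat.card (ZMod 2) :=
      Nat.card_le_card_of_injective (fun x : C => φ (x : M)) fun x y h => Subtype.ext (h3 x x.2 y y.2 h)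
    rw [Nat.card_zmod] at h6
    omega
  have h7 : ∑ c : C, φ (c : M) = 0 := by
    refine Finset.sum_involution (fun c _ => c + ⟨d, hd⟩) ?_ ?_ ?_ ?_
    · intro c _
      change φ (c : M) + φ ((c : M) + d) = 0
      rw [map_add, hdφ, add_zero]
      generalize φ (c : M) = z
      revert z
      decide
    · intro c _ _ h8
      apply hd0
      have h9 := congrArg (Subtype.val) h8
      change (c : M) + d = c at h9
      exact left_eq_add.1 h9.symm
    · intro c _
      exact Finset.mem_univ _
    · intro c _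
      apply Subtype.ext
      change (c : M) + d + d = c
      rw [add_assoc, two, add_zero]
  rw [h7] at h2
  exact absurd h2 (by decide)

/-- The sum of an `A`-invariant finite set of vectors, all of whose orbits have length `≥ 4`, is zero. -/
theorem sum_invariant [Finite M] (two : ∀ m : M, m + m = 0) {U : AddSubgroup M} {A : Subgroup H}
    (hA : A ≤ bb U) (s : Finset M) (hs : ∀ v ∈ s, ∀ a ∈ A, a • v ∈ s)
    (big : ∀ v ∈ s, 4 ≤ Nat.card (cs U v A hA)) : ∑ v ∈ s, v = 0 := by
  classical
  induction s using Finset.strongInduction with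
  | H s ih =>
    rcases s.eq_empty_or_nonempty with h0 | ⟨v, hv⟩
    · rw [h0, Finset.sum_empty]
    · let _ : Fintype (cs U v A hA) := Fintype.ofFinite _
      let O : Finset M := Finset.univ.image (fun c : cs U v A hA => v + (c : M))
      have hO : ∀ w, w ∈ O ↔ ∃ a ∈ A, a • v = w := by
        intro w
        simp only [O, Finset.mem_image, Finset.mem_univ, true_and]
        constructor
        · rintro ⟨⟨c, hc'⟩, rfl⟩
          obtain ⟨a, ha, hc⟩ := hc'
          refine ⟨a, ha, ?_⟩
          change a • v = v + c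
          rw [← hc]
          abel
        · rintro ⟨a, ha, rfl⟩
          exact ⟨⟨a • v - v, a, ha, rfl⟩, by simp⟩
      have hOs : O ⊆ s := by
        intro w hw
        obtain ⟨a, ha, rfl⟩ := (hO w).1 hw
        exact hs v hv a ha
      have hvO : v ∈ O := (hO v).2 ⟨1, A.one_mem, one_smul _ v⟩
      have h1 : ∑ w ∈ O, w = 0 := by
        rw [Finset.sum_image (fun x _ y _ h => Subtype.ext (add_left_cancel h)), Finset.sum_add_distrib,
          sum_addSubgroup two _ (big v hv), add_zero, Finset.sum_const, Finset.card_univ]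
        have h2 : Even (Fintype.card (cs U v A hA)) := by
          have h3 : Nontrivial (cs U v A hA) := by
            have h5 := big v hv
            exact (Finite.one_lt_card_iff_nontrivial).1 (by omega)
          obtain ⟨x, hx⟩ := exists_ne (0 : cs U v A hA)
          have h6 : addOrderOf x ∣ Nat.card (cs U v A hA) := addOrderOf_dvd_natCard x
          have h7 : addOrderOf x = 2 := by
            refine addOrderOf_eq_prime ?_ hx
            rw [two_nsmul]
            exact Subtype.ext (two x)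
          rw [h7, Nat.card_eq_fintype_card] at h6
          exact even_iff_two_dvd.2 h6
        obtain ⟨k, hk⟩ := h2
        rw [hk, add_nsmul, two]
      have h2 : ∑ w ∈ s \ O, w = 0 := by
        refine ih (s \ O) (Finset.sdiff_ssubset hOs ⟨v, hvO⟩) ?_ ?_
        · intro w hw a ha
          rw [Finset.mem_sdiff] at hw ⊢
          refine ⟨hs w hw.1 a ha, fun h3 => hw.2 ?_⟩
          obtain ⟨b, hb, h4⟩ := (hO _).1 h3
          refine (hO w).2 ⟨a⁻¹ * b, A.mul_mem (A.inv_mem ha) hb, ?_⟩
          rw [mul_smul, h4, inv_smul_smul]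
        · intro w hw
          exact big w (Finset.mem_sdiff.1 hw).1
      rw [← Finset.sum_sdiff hOs, h1, h2, add_zero]

/-- **THEOREM SUM.** -/
theorem sum_main [Finite M] (two : ∀ m : M, m + m = 0) {Lam : Set M} {U L : AddSubgroup M} {lam : M}
    {A : Subgroup H} {f h : H}
    (hlam : lam ∈ Lam) (hU : lam ∈ U) (smul : ∀ (g : H) {v : M}, v ∈ Lam → g • v ∈ Lam)
    (hL : ∀ r ∈ L, r ≠ 0 → r ∈ Lam)
    (coll : ∀ v ∈ U, v ∈ Lam → v ∉ L → v + lam ∈ Lam)
    (hlL : lam ∈ L)
    (hA : A ≤ bb U) (big : ∀ v : M, v ∉ cv M A → 4 ≤ Nat.card (cs U v A hA))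
    (hf : f ∈ A) (hinv : f * h * f⁻¹ = h⁻¹) (ho : Odd (orderOf h)) (hmov : h • lam ≠ lam)
    (hfix : ∀ u ∈ U, f • h • u = h • u → h • u = u) :
    ∃ r ∈ cm M A, r ≠ 0 ∧ r ∈ Lam := by
  classical
  let _ : Fintype M := Fintype.ofFinite M
  -- `B = A^h`
  let B : Subgroup H := A.map (MulAut.conj h).toMonoidHom
  have hB : ∀ {b : H}, b ∈ B ↔ ∃ a ∈ A, h * a * h⁻¹ = b := fun {b} => by
    simp only [B, Subgroup.mem_map]
    exact Iff.rfl
  let Y : Subgroup H := A ⊔ B
  have hY : h ∈ Y := by
    refine mem_of_sq ho ?_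
    have h1 : h * f * h⁻¹ * f⁻¹ = h * h := by
      have h2 := congrArg (·⁻¹) hinv
      simp only [mul_inv_rev, inv_inv] at h2
      calc h * f * h⁻¹ * f⁻¹ = h * (f * (h⁻¹ * f⁻¹)) := by group
        _ = h * h := by rw [h2]
    rw [← h1]
    exact Y.mul_mem (le_sup_right (a := A) (hB.2 ⟨f, hf, rfl⟩)) (Y.inv_mem (le_sup_left (b := B) hf))
  -- `M₃ = R + R^h`
  let R : AddSubgroup M := cm M A
  let R' : AddSubgroup M := R.map (DistribMulAction.toAddMonoidHom M h)
  have hR' : ∀ {w : M}, w ∈ R' ↔ ∃ r ∈ R, h • r = w := fun {w} => by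
    simp only [R', AddSubgroup.mem_map]
    exact Iff.rfl
  have hRU : R ≤ U := cm_le_of_le_bb hA
  have hRA : ∀ a ∈ A, ∀ r ∈ R, a • r = r := fun a ha r hr => bb_fix (hA ha) (hRU hr)
  -- every element of `Y` is trivial modulo `M₃`
  have hYM : ∀ y ∈ Y, ∀ m : M, y • m - m ∈ R ⊔ R' := by
    intro y hy
    let T : Subgroup H :=
      { carrier := {t | ∀ m : M, t • m - m ∈ R ⊔ R'}
        mul_mem' := by
          intro a b ha hb m
          have h3 : (a * b) • m - m = (a • (b • m - m) - (b • m - m)) + (b • m - m) + (a • m - m) := by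
            rw [mul_smul, smul_sub]
            abel
          rw [h3]
          exact AddSubgroup.add_mem _ (AddSubgroup.add_mem _ (ha _) (hb _)) (ha _)
        one_mem' := fun m => by rw [one_smul, sub_self]; exact AddSubgroup.zero_mem _
        inv_mem' := by
          intro a ha m
          have h3 : a⁻¹ • m - m = -(a • (a⁻¹ • m) - a⁻¹ • m) := by rw [smul_inv_smul]; abel
          rw [h3]
          exact AddSubgroup.neg_mem _ (ha _) }
    have hAT : A ≤ T := fun a ha m => le_sup_left (b := R') (sub_mem_cm ha m)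
    have hBT : B ≤ T := by
      intro b hb m
      obtain ⟨a, ha, rfl⟩ := hB.1 hb
      refine le_sup_right (a := R) (hR'.2 ⟨a • h⁻¹ • m - h⁻¹ • m, sub_mem_cm ha _, ?_⟩)
      rw [smul_sub, smul_inv_smul, mul_smul, mul_smul]
    exact (sup_le hAT hBT : Y ≤ T) hy
  -- (1)
  have hC : ∀ w ∈ R ⊔ R', f • w = w → w ∈ R := by
    intro w hw hfw
    obtain ⟨r, hr, r', hr', rfl⟩ := AddSubgroup.mem_sup.1 hw
    obtain ⟨u, hu, rfl⟩ := hR'.1 hr'
    rw [smul_add, hRA f hf r hr] at hfw
    have h1 := hfix u (hRU hu) (add_left_cancel hfw)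
    rw [h1]
    exact R.add_mem hr hu
  -- the orbit
  let C : Finset M := Finset.univ.filter (fun v => ∃ y ∈ Y, y • lam = v)
  have hCm : ∀ {v : M}, v ∈ C ↔ ∃ y ∈ Y, y • lam = v := fun {v} => by simp [C]
  have hCY : ∀ v ∈ C, ∀ y ∈ Y, y • v ∈ C := by
    intro v hv y hy
    obtain ⟨z, hz, rfl⟩ := hCm.1 hv
    exact hCm.2 ⟨y * z, Y.mul_mem hy hz, mul_smul _ _ _⟩
  have hCL : ∀ v ∈ C, v ∈ Lam := by
    intro v hv
    obtain ⟨y, -, rfl⟩ := hCm.1 hv
    exact smul y hlam
  by_contra hno
  push Not at hno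
  -- (3) the only fixed vector of `A` in the orbit is `lam`
  have h3 : ∀ v ∈ C, v ∈ cv M A → v = lam := by
    intro v hv hvA
    by_contra hne
    obtain ⟨y, hy, rfl⟩ := hCm.1 hv
    have h4 : y • lam - lam ∈ R := by
      refine hC _ (hYM y hy lam) ?_
      rw [smul_sub, hvA f hf, bb_fix (hA hf) hU]
    have h5 : y • lam - lam ≠ 0 := sub_ne_zero.2 hne
    have h6 : y • lam ∉ L := by
      intro h7
      exact hno _ h4 h5 (hL _ (L.sub_mem h7 hlL) h5)
    have h7 : y • lam ∈ U := by
      have := U.add_mem (hRU h4) hU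
      rwa [sub_add_cancel] at this
    have h8 := coll _ h7 (hCL _ hv) h6
    have h9 : y • lam + lam = y • lam - lam := by
      rw [sub_eq_add_neg, neg_eq_of_add_eq_zero_left (two lam)]
    rw [h9] at h8
    exact hno _ h4 h5 h8
  -- (2)
  have h4 : ∑ v ∈ C, v = lam := by
    have hlC : lam ∈ C := hCm.2 ⟨1, Y.one_mem, one_smul _ _⟩
    have hlA : lam ∈ cv M A := le_cv_of_le_bb hA hU
    rw [← Finset.sum_sdiff (Finset.singleton_subset_iff.2 hlC), Finset.sum_singleton]
    have h5 : ∑ v ∈ C \ {lam}, v = 0 := by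
      refine sum_invariant two hA _ ?_ ?_
      · intro v hv a ha
        rw [Finset.mem_sdiff, Finset.mem_singleton] at hv ⊢
        refine ⟨hCY v hv.1 a (le_sup_left (b := B) ha), fun h6 => hv.2 ?_⟩
        rw [← inv_smul_eq_iff.2 h6.symm, hlA _ (A.inv_mem ha)]
      · intro v hv
        rw [Finset.mem_sdiff, Finset.mem_singleton] at hv
        exact big v fun h6 => hv.2 (h3 v hv.1 h6)
    rw [h5, zero_add]
  -- the sum is `h`-invariant
  have h5 : h • ∑ v ∈ C, v = ∑ v ∈ C, v := by
    rw [Finset.smul_sum]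
    refine Finset.sum_bij (fun v _ => h • v) ?_ ?_ ?_ ?_
    · exact fun v hv => hCY v hv h hY
    · exact fun v _ w _ hvw => smul_left_cancel h hvw
    · exact fun v hv => ⟨h⁻¹ • v, hCY v hv _ (Y.inv_mem hY), smul_inv_smul _ _⟩
    · exact fun v _ => rfl
  rw [h4] at h5
  exact hmov h5

/-- an elementary abelian 2-group of order `> 2` has order `≥ 4` -/
theorem four_le_of_two_lt [Finite M] (two : ∀ m : M, m + m = 0) (C : AddSubgroup M) (h : 2 < Nat.card C) :
    4 ≤ Nat.card C := by
  have h3 : Nontrivial C := (Finite.one_lt_card_iff_nontrivial).1 (by omega)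
  obtain ⟨x, hx⟩ := exists_ne (0 : C)
  have h6 : addOrderOf x ∣ Nat.card C := addOrderOf_dvd_natCard x
  have h7 : addOrderOf x = 2 := by
    refine addOrderOf_eq_prime ?_ hx
    rw [two_nsmul]
    exact Subtype.ext (two x)
  rw [h7] at h6
  omega

/-- `A` minimal exact of order `≥ 4`: `|[v, A]| ≥ 4` for `v ∉ C_M(A)`. -/
theorem big_of_min [Finite H] [Finite M] (two : ∀ m : M, m + m = 0) {U : M → AddSubgroup M} {lam : M}
    {A : Subgroup H} (me : ME U lam A) (h4 : 4 ≤ Nat.card A) (v : M) (hv : v ∉ cv M A) :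
    4 ≤ Nat.card (cs (U lam) v A me.le) := by
  have h1 := card_cs (m := v) me.le
  by_cases h0 : ca v A = ⊥
  · rw [h0, Subgroup.card_bot, one_mul] at h1
    omega
  · have hle : ca v A ≤ A := inf_le_left
    have hne : ca v A ≠ A := by
      intro h2
      refine hv fun a ha => ?_
      rw [← h2] at ha
      exact ha.2
    have h2 := me.min _ hle h0 hne
    have h3 : Nat.card (cv M A) * 2 ≤ Nat.card (cv M (ca v A)) := by
      have h5 : cv M A ≤ cv M (ca v A) := cv_anti hle
      have h6 := card_mul_relIndex h5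
      have h7 : 2 ≤ (cv M A).relIndex (cv M (ca v A)) := by
        have h8 : (cv M A).relIndex (cv M (ca v A)) ≠ 0 := by
          intro h9
          rw [h9, mul_zero] at h6
          have := Nat.card_pos (α := cv M (ca v A))
          omega
        have h9 : (cv M A).relIndex (cv M (ca v A)) ≠ 1 := by
          intro h10
          exact hv (AddSubgroup.relIndex_eq_one.1 h10 (show v ∈ cv M (ca v A) from fun a ha => ha.2))
        omega
      rw [← h6]
      exact Nat.mul_le_mul_left _ h7
    rw [← me.ex, h1] at h2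
    refine four_le_of_two_lt two _ ?_
    have h8 : 0 < Nat.card (ca v A) := Nat.card_pos
    have h9 : 0 < Nat.card (cv M A) := Nat.card_pos
    by_contra h10
    have h11 : Nat.card (cs (U lam) v A me.le) ≤ 2 := by omega
    have h12 : Nat.card (ca v A) * Nat.card (cs (U lam) v A me.le) * Nat.card (cv M A) ≤
        Nat.card (ca v A) * Nat.card (cv M (ca v A)) := by
      calc Nat.card (ca v A) * Nat.card (cs (U lam) v A me.le) * Nat.card (cv M A)
          ≤ Nat.card (ca v A) * 2 * Nat.card (cv M A) :=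
            Nat.mul_le_mul_right _ (Nat.mul_le_mul_left _ h11)
        _ = Nat.card (ca v A) * (Nat.card (cv M A) * 2) := by ring
        _ ≤ Nat.card (ca v A) * Nat.card (cv M (ca v A)) := Nat.mul_le_mul_left _ h3
    omega

/-- `A` exact, and the centralisers in `M` of subgroups of `A` are subspaces over a field of order `≥ 4`. -/
theorem big_of_exact [Finite H] [Finite M] {U : AddSubgroup M} {A : Subgroup H} (hA : A ≤ bb U)
    (ex : Nat.card A * Nat.card (cv M A) = Nat.card M)
    (no : ∀ B : Subgroup H, B ≤ A → Nat.card B * Nat.card (cv M B) ≤ Nat.card M)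
    (fld : ∀ B : Subgroup H, B ≤ A → cv M A ≠ cv M B → 4 * Nat.card (cv M A) ≤ Nat.card (cv M B))
    (v : M) (hv : v ∉ cv M A) : 4 ≤ Nat.card (cs U v A hA) := by
  have h1 := card_cs (m := v) hA
  have hle : ca v A ≤ A := inf_le_left
  have h2 := no _ hle
  have h3 := fld _ hle (by
    intro h4
    refine hv ?_
    rw [h4]
    exact fun a ha => ha.2)
  have h8 : 0 < Nat.card (ca v A) := Nat.card_pos
  have h9 : 0 < Nat.card (cv M A) := Nat.card_pos
  have h10 : (Nat.card (ca v A) * Nat.card (cv M A)) * 4 ≤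
      (Nat.card (ca v A) * Nat.card (cv M A)) * Nat.card (cs U v A hA) := by
    calc (Nat.card (ca v A) * Nat.card (cv M A)) * 4 = Nat.card (ca v A) * (4 * Nat.card (cv M A)) := by ring
      _ ≤ Nat.card (ca v A) * Nat.card (cv M (ca v A)) := Nat.mul_le_mul_left _ h3
      _ ≤ Nat.card A * Nat.card (cv M A) := by rw [ex]; exact h2
      _ = _ := by rw [h1]; ring
  exact Nat.le_of_mul_le_mul_left h10 (Nat.mul_pos h8 h9)

/-- THEOREM ONE for `s = 2` again: a minimal exact `A ≤ B_λ` of order `≥ 4` has a line vector in `[M, A]`. -/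
theorem exists_lam [Finite H] [Finite M] {Lam : Set M} {U : M → AddSubgroup M} {lam : M} {A : Subgroup H}
    (s : Sys H Lam U) (hl : lam ∈ Lam) (me : ME U lam A) (h4 : 4 ≤ Nat.card A) :
    ∃ r ∈ cm M A, r ∈ Lam := by
  obtain ⟨f, hf, hf1⟩ := (Subgroup.bot_or_exists_ne_one A).resolve_left me.ne
  obtain ⟨h, hh, ho, hi⟩ := s.bs hl _ (me.le hf) hf1
  have v : Mv Lam U lam f h := ⟨hl, me.le hf, hf1, hh, ho, hi⟩
  let L : AddSubgroup M :=
    { carrier := {x | x = 0 ∨ x = lam}
      add_mem' := by
        rintro a b (rfl | rfl) (rfl | rfl)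
        · left; rw [add_zero]
        · right; rw [zero_add]
        · right; rw [add_zero]
        · left; rw [s.two]
      zero_mem' := Or.inl rfl
      neg_mem' := by
        rintro a (rfl | rfl)
        · left; rw [neg_zero]
        · right; rw [s.neg_eq] }
  obtain ⟨r, hr, -, hr'⟩ := sum_main (L := L) s.two hl (s.mem hl) (fun g _ hv => s.smul g hv)
    (fun r hr hr0 => by
      rcases hr with h1 | h1
      · exact absurd h1 hr0
      · rw [h1]; exact hl)
    (fun w hw hwL hwn => s.coll hl hwL hw fun h1 => hwn (Or.inr h1))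
    (Or.inr rfl) me.le (big_of_min s.two me h4) hf hi ho (v.hmov s)
    (fun u hu h1 => smul_left_cancel h (v.fix s (s.conj h hl hu) h1).1)
  exact ⟨r, hr, hr'⟩

end Cfsg.Agent.Omega.NOThree.LL.OrbSum
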