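import Cfsg.Agent.Omega.NOThree.TF.Blk
import Cfsg.Agent.Involutions.BaerSuzuki

/-!
# Abstract tools for THEOREM LL (#18157): `O₂(H) = 1`, elements inverted by an involution

`H` acts on the elementary abelian 2-group `M` (additive, the action need not be faithful).

* `RedM H M` : `O₂(H/C_H(M)) = 1`; `redM_of` : it holds if a Sylow 2-subgroup fixes `λ` and `M = ⟨λ^H⟩`;
* `Inv M f h` : `h` induces an element `≠ 1` of odd order on `M`, inverted by `f`;
* `exists_inv` (Baer-Suzuki), `Inv.moves` : `h` moves `λ`, `f` moves `λ^h`; `Inv.fix` : `C(f) ∩ C(f^h) ≤ C(h)`.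
-/

set_option autoImplicit false

namespace Cfsg.Agent.Omega.NOThree.LL

open Subgroup

universe u v

variable {H : Type u} [Group H] {M : Type v} [AddCommGroup M] [DistribMulAction H M]

variable (H M) in
/-- `O₂(H/C_H(M)) = 1` -/
def RedM : Prop := ∀ N : Subgroup H, N.Normal → (∀ n ∈ N, ∃ k : ℕ, ∀ m : M, (n ^ 2 ^ k) • m = m) →
  ∀ n ∈ N, ∀ m : M, n • m = m

/-- the kernel of the action on `M` -/
def kerM (H : Type u) [Group H] (M : Type v) [AddCommGroup M] [DistribMulAction H M] : Subgroup H where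
  carrier := {g | ∀ m : M, g • m = m}
  one_mem' := fun m => one_smul _ m
  mul_mem' := by
    intro a b ha hb m
    rw [mul_smul, hb m, ha m]
  inv_mem' := by
    intro a ha m
    rw [inv_smul_eq_iff, ha m]

theorem mem_kerM {g : H} : g ∈ kerM H M ↔ ∀ m : M, g • m = m := Iff.rfl

instance : (kerM H M).Normal := ⟨fun n hn g m => by rw [mul_smul, mul_smul, hn, smul_inv_smul]⟩

/-- `O₂(H/C_H(M)) = 1` if a Sylow 2-subgroup of `H` fixes `λ` and `M = ⟨λ^H⟩`. -/
theorem redM_of [Finite H] {T : Subgroup H} (hT : ¬ 2 ∣ T.index) {lam : M} (hlam : ∀ t ∈ T, t • lam = lam)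
    (hspan : ∀ m : M, m ∈ AddSubgroup.closure {v | ∃ g : H, v = g • lam}) : RedM H M := by
  intro N hN h2
  have hfact : Fact (Nat.Prime 2) := ⟨Nat.prime_two⟩
  -- `N` fixes `λ`
  have h3 : ∀ n ∈ N, n • lam = lam := by
    set S : Subgroup H := MulAction.stabilizer H lam with hS
    have h4 : ¬ 2 ∣ S.relIndex N := by
      intro hd
      have h5 : T.relIndex N ∣ T.index := Cfsg.Agent.Lib.GoldschmidtFusion.relIndex_dvd_index_of_normal_right T N
      exact hT ((hd.trans (relIndex_dvd_of_le_left N (show T ≤ S from fun t ht => hlam t ht))).trans h5)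
    have h5 : IsPGroup 2 (N ⧸ (kerM H M).subgroupOf N) := by
      intro x
      obtain ⟨n, rfl⟩ := QuotientGroup.mk_surjective x
      obtain ⟨k, hk⟩ := h2 n n.2
      refine ⟨k, ?_⟩
      rw [← QuotientGroup.mk_pow, QuotientGroup.eq_one_iff]
      exact mem_subgroupOf.2 hk
    obtain ⟨m, hm⟩ := IsPGroup.iff_card.1 h5
    have h6 : S.relIndex N ∣ 2 ^ m := by
      have h7 : (kerM H M).relIndex N = 2 ^ m := hm
      rw [← h7]
      exact relIndex_dvd_of_le_left N fun g hg => hg lam
    obtain ⟨k, -, hk⟩ := (Nat.dvd_prime_pow Nat.prime_two).1 h6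
    have h7 : S.relIndex N = 1 := by
      rcases Nat.eq_zero_or_pos k with e | e
      · rw [hk, e, pow_zero]
      · exact absurd (hk ▸ dvd_pow_self 2 (by omega)) h4
    exact fun n hn => relIndex_eq_one.1 h7 hn
  intro n hn m
  have h4 := hspan m
  induction h4 using AddSubgroup.closure_induction with
  | mem x hx =>
    obtain ⟨g, rfl⟩ := hx
    have h5 := h3 _ (hN.conj_mem n hn g⁻¹)
    rw [inv_inv, mul_smul, mul_smul, inv_smul_eq_iff] at h5
    exact h5
  | zero => rw [smul_zero]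
  | add x y _ _ hx hy => rw [smul_add, hx, hy]
  | neg x _ hx => rw [smul_neg, hx]

variable (M) in
/-- `h` induces an element `≠ 1` of odd order on `M`, inverted by `f`. -/
structure Inv (f h : H) : Prop where
  ne : ∃ m : M, h • m ≠ m
  odd : ∃ k : ℕ, Odd k ∧ ∀ m : M, (h ^ k) • m = m
  inv : ∀ m : M, (f * h * f⁻¹) • m = h⁻¹ • m

/-- **Baer-Suzuki**: an involution on `M` inverts an element of odd order. -/
theorem exists_inv [Finite H] (hr : RedM H M) {f : H} (hf : ∀ m : M, f • f • m = m) (hf' : ∃ m : M, f • m ≠ m) :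
    ∃ h : H, Inv M f h := by
  set K := kerM H M with hK
  set π := QuotientGroup.mk' K with hπ
  have hπ1 : ∀ y : H, π y = 1 ↔ ∀ m : M, y • m = m := fun y => QuotientGroup.eq_one_iff (N := K) y
  have haa : π f * π f = 1 := by
    rw [← map_mul, hπ1]
    intro m
    rw [mul_smul, hf]
  obtain ⟨g, hg1, hgo, hgi⟩ := Cfsg.Agent.Involutions.BaerSuzuki.exists_odd_inverted (π f) haa (by
    intro h1
    obtain ⟨m, hm⟩ := hf'
    apply hm
    refine hr ((normalClosure {π f}).comap π) inferInstance ?_ f (subset_normalClosure rfl) m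
    intro y hy
    obtain ⟨k, hk⟩ := h1 ⟨π y, hy⟩
    refine ⟨k, ?_⟩
    rw [← hπ1, map_pow]
    exact congrArg Subtype.val hk)
  obtain ⟨h, rfl⟩ := QuotientGroup.mk'_surjective K g
  refine ⟨h, ?_, ⟨orderOf (π h), hgo, ?_⟩, fun m => ?_⟩
  · by_contra hcon
    push Not at hcon
    exact hg1 ((hπ1 h).2 hcon)
  · rw [← hπ1, map_pow, pow_orderOf_eq_one]
  · have h1 : π (h * (f * h * f⁻¹)) = 1 := by
      rw [map_mul, map_mul, map_mul, map_inv]
      change π h * (π f * π h * (π f)⁻¹) = 1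
      rw [hgi, mul_inv_cancel]
    have h2 := (hπ1 _).1 h1 m
    rw [mul_smul] at h2
    rw [eq_inv_smul_iff, h2]

namespace Inv

variable {f h : H}

/-- `h⁻¹ f h = h⁻² f`-type identities on `M` -/
theorem conj_smul (i : Inv M f h) (m : M) : f • h • m = h⁻¹ • f • m := by
  have := i.inv (f • m)
  rwa [mul_smul, mul_smul, inv_smul_smul] at this

theorem conj_smul' (i : Inv M f h) (m : M) : f • h⁻¹ • m = h • f • m := by
  have := i.conj_smul (h⁻¹ • m)
  rw [smul_inv_smul] at this
  rw [this, smul_inv_smul]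

/-- fixed by `h²` implies fixed by `h` -/
theorem fix_of_sq (i : Inv M f h) {m : M} (hm : h • h • m = m) : h • m = m := by
  obtain ⟨k, ⟨j, rfl⟩, hk⟩ := i.odd
  have h1 : ∀ j : ℕ, (h ^ (2 * j)) • m = m := by
    intro j
    induction j with
    | zero => simp
    | succ j ih =>
      rw [Nat.mul_succ, pow_add, mul_smul, pow_two, mul_smul, hm, ih]
  have h2 := hk m
  rw [pow_succ', mul_smul, h1] at h2
  exact h2

/-- `C(f) ∩ C(h f h⁻¹) ≤ C(h)` -/
theorem fix (i : Inv M f h) {m : M} (h1 : f • m = m) (h2 : h • f • h⁻¹ • m = m) : h • m = m := by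
  apply i.fix_of_sq
  rw [i.conj_smul', h1] at h2
  exact h2

/-- if `f` fixes `λ` and `h • λ` then `h` fixes `λ` -/
theorem fix' (i : Inv M f h) {m : M} (h1 : f • m = m) (h2 : f • h • m = h • m) : h • m = m := by
  rw [i.conj_smul, h1] at h2
  exact i.fix_of_sq (by rw [← h2, smul_inv_smul])

end Inv

end Cfsg.Agent.Omega.NOThree.LL
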