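import Cfsg.Agent.Omega.NOThree.LL.Block
import Cfsg.Agent.Omega.NOThree.LL.Abs

/-!
# TwoFar, THEOREM LL (#18157), section 4, for an action which is not faithful

`H` acts on the elementary abelian 2-group `M` with `O₂(H/C_H(M)) = 1` (`RedM H M`).

* `Tr d t` : `t` induces a transvection `≠ 1` with centre `d`;
* `BD H lam U c` : the situation of (4.3), (4.4) : `c ∈ U = U_λ` is not conjugate to `λ`, a transvection with centre `c`
  fixes `U`;
* `BD.comm_mem` : (a) `[M, g] ≤ ⟨c, λ⟩` for `g ∈ B_λ`;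
* `BD.exists_block` : (b) the block of any transvection.
-/

set_option autoImplicit false
set_option linter.unusedSectionVars false

namespace Cfsg.Agent.Omega.NOThree.LL

open Subgroup Cfsg Cfsg.Agent

variable {H : Type*} [Group H] {M : Type*} [AddCommGroup M] [DistribMulAction H M]

/-- `t` induces a transvection `≠ 1` with centre `d` -/
structure Tr (d : M) (t : H) : Prop where
  tr : ∀ m : M, t • m = m ∨ t • m = m + d
  ne : ∃ m : M, t • m ≠ m

/-- the situation of (4.3), (4.4) -/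
structure BD (H : Type*) [Group H] {M : Type*} [AddCommGroup M] [DistribMulAction H M] (lam : M)
    (U : AddSubgroup M) (c : M) : Prop where
  two : ∀ m : M, m + m = 0
  red : RedM H M
  span : ∀ m : M, m ∈ AddSubgroup.closure {v | ∃ g : H, v = g • lam}
  lamU : lam ∈ U
  inv : ∀ h : H, h • lam = lam → ∀ u ∈ U, h • u ∈ U
  F2 : ∀ u ∈ U, u ≠ 0 → u ≠ lam → ∃ k : H, k • lam = lam ∧ k • u = u + lam
  cU : c ∈ U
  cl : ∀ g : H, g • lam ≠ c
  tr : ∃ t : H, Tr c t ∧ ∀ u ∈ U, t • u = u

section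

variable (H M) in
/-- the image of `H` in `Sym M` -/
abbrev Im : Subgroup (Equiv.Perm M) := (MulAction.toPermHom H M).range

/-- `H → Im H M` -/
abbrev toIm : H →* Im H M := (MulAction.toPermHom H M).rangeRestrict

theorem toIm_smul (h : H) (m : M) : (toIm h : Im H M) • m = h • m := rfl

theorem toIm_surj (x : Im H M) : ∃ h : H, (toIm h : Im H M) = x :=
  (MulAction.toPermHom H M).rangeRestrict_surjective x

instance : DistribMulAction (Im H M) M where
  smul_zero x := by
    obtain ⟨h, rfl⟩ := toIm_surj x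
    exact smul_zero h
  smul_add x a b := by
    obtain ⟨h, rfl⟩ := toIm_surj x
    exact smul_add h a b

instance : FaithfulSMul (Im H M) M := ⟨fun h => Subtype.ext (Equiv.ext h)⟩

/-- `O₂(H/C_H(M)) = 1` for the image -/
theorem pCore_im (hr : RedM H M) : pCore 2 (Im H M) = ⊥ := by
  rw [eq_bot_iff]
  intro x hx
  obtain ⟨h, rfl⟩ := toIm_surj x
  rw [mem_bot]
  have h1 := hr ((pCore 2 (Im H M)).comap toIm) inferInstance (fun n hn => by
    obtain ⟨k, hk⟩ := Lib.Cores.pCore_isPGroup 2 ⟨toIm n, hn⟩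
    refine ⟨k, fun m => ?_⟩
    have h2 : (toIm (n ^ 2 ^ k) : Im H M) = 1 := by
      rw [map_pow]
      exact congrArg Subtype.val hk
    rw [← toIm_smul, h2, one_smul]) h hx
  refine Subtype.ext (Equiv.ext fun m => ?_)
  exact h1 m

/-- the functional of a transvection -/
theorem Tr.exists_fun [Module (ZMod 2) M] {d : M} {t : H} (h : Tr d t) (hd : d ≠ 0) :
    ∃ φ : M →+ ZMod 2, φ ≠ 0 ∧ Block.IsT (toIm t : Im H M) d φ := by
  classical
  have hs : ∀ m : M, m + m = 0 := Block.add_self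
  have key : ∀ m : M, (t • m = m) ∨ (t • m = m + d ∧ t • m ≠ m) := by
    intro m
    rcases h.tr m with e | e
    · exact Or.inl e
    · exact Or.inr ⟨e, by rw [e]; intro e'; exact hd (add_eq_left.1 e')⟩
  let φ : M →+ ZMod 2 :=
    { toFun := fun m => if t • m = m then 0 else 1
      map_zero' := by rw [if_pos (smul_zero t)]
      map_add' := by
        intro a b
        rcases key a with ha | ⟨ha, ha'⟩ <;> rcases key b with hb | ⟨hb, hb'⟩
        · rw [if_pos ha, if_pos hb, if_pos (by rw [smul_add, ha, hb]), add_zero]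
        · rw [if_pos ha, if_neg hb', if_neg (by
            rw [smul_add, ha]
            intro e
            exact hb' (add_left_cancel e)), zero_add]
        · rw [if_neg ha', if_pos hb, if_neg (by
            rw [smul_add, hb]
            intro e
            exact ha' (add_right_cancel e)), add_zero]
        · rw [if_neg ha', if_neg hb', if_pos (by
            rw [smul_add, ha, hb]
            calc a + d + (b + d) = a + b + (d + d) := by abel
              _ = a + b := by rw [hs, add_zero])]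
          decide }
  refine ⟨φ, fun h0 => ?_, fun m => ?_⟩
  · obtain ⟨m, hm⟩ := h.ne
    have h1 : φ m = 1 := if_neg hm
    rw [h0] at h1
    exact zero_ne_one h1
  · rw [toIm_smul]
    rcases key m with e | ⟨e, e'⟩
    · rw [show φ m = 0 from if_pos e, zero_smul, add_zero, e]
    · rw [show φ m = 1 from if_neg e', one_smul, e]

end

namespace BD

variable {lam c : M} {U : AddSubgroup M} [Finite H] [Finite M] (b : BD H lam U c)
include b

theorem c0 : c ≠ 0 := by
  rintro rfl
  obtain ⟨t, ht, -⟩ := b.tr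
  obtain ⟨m, hm⟩ := ht.ne
  rcases ht.tr m with e | e
  · exact hm e
  · exact hm (by rw [e, add_zero])

/-- the data of `Block` -/
theorem exists_blk [Module (ZMod 2) M] : ∃ φ : M →+ ZMod 2, Block.Blk (Im H M) lam U c φ := by
  obtain ⟨t, ht, htU⟩ := b.tr
  obtain ⟨φ, hφ, hφt⟩ := ht.exists_fun b.c0
  refine ⟨φ, ?_, b.lamU, ?_, ?_, b.cU, b.c0, ?_, ⟨_, hφt⟩, hφ, ?_⟩
  · rw [eq_top_iff]
    intro m _
    refine AddSubgroup.closure_mono ?_ (b.span m)
    rintro _ ⟨g, rfl⟩
    exact ⟨toIm g, rfl⟩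
  · intro k hk u hu
    obtain ⟨k, rfl⟩ := toIm_surj k
    exact b.inv k hk u hu
  · intro u hu h0 hl
    obtain ⟨k, h1, h2⟩ := b.F2 u hu h0 hl
    exact ⟨toIm k, h1, h2⟩
  · intro g
    obtain ⟨g, rfl⟩ := toIm_surj g
    exact b.cl g
  · intro u hu
    rcases Block.zc (φ u) with e | e
    · exact e
    · have h1 := hφt u
      rw [toIm_smul, htU u hu, e, one_smul, left_eq_add] at h1
      exact absurd h1 b.c0

/-- **(a)** -/
theorem comm_mem {g : H} (hg : ∀ u ∈ U, g • u = u) (hg' : ∀ m : M, g • m + m ∈ U) (m : M) :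
    g • m + m = 0 ∨ g • m + m = c ∨ g • m + m = c + lam ∨ g • m + m = lam := by
  let _ : Module (ZMod 2) M := AddCommGroup.zmodModule fun m => by rw [two_nsmul, b.two]
  obtain ⟨φ, B⟩ := b.exists_blk
  exact B.comm_mem (pCore_im b.red) (g := toIm g) hg hg' m

/-- **(b)**: the block of a transvection: the centre `r` is conjugate to `c`; `B + C_M(T) = M` for the group `T` of the
transvections with centre `r`, the stabiliser of `r` normalises `B`, and `|B| |U| ≤ |M|` -/
theorem exists_block {r : M} {t : H} (ht : Tr r t) :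
    (∃ g : H, g • c = r) ∧ ∃ B : AddSubgroup M, r ∈ B ∧ (∃ m ∈ B, t • m ≠ m) ∧
      (∀ h : H, h • r = r → ∀ m ∈ B, h • m ∈ B) ∧ Nat.card B * Nat.card U ≤ Nat.card M ∧
      ∀ m : M, ∃ m₁ ∈ B, ∃ m₂ : M, m = m₁ + m₂ ∧ ∀ s : H, (∀ x : M, s • x = x ∨ s • x = x + r) → s • m₂ = m₂ := by
  let _ : Module (ZMod 2) M := AddCommGroup.zmodModule fun m => by rw [two_nsmul, b.two]
  have hr : r ≠ 0 := by
    rintro rfl
    obtain ⟨m, hm⟩ := ht.ne
    rcases ht.tr m with e | e
    · exact hm e
    · exact hm (by rw [e, add_zero])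
  obtain ⟨φ, B⟩ := b.exists_blk
  obtain ⟨ψ, hψ, hψt⟩ := ht.exists_fun hr
  obtain ⟨⟨g, hg⟩, B, h1, h2, h3, h4, h5⟩ := B.exists_block_sup (pCore_im b.red) hr hψt hψ
  obtain ⟨g, rfl⟩ := toIm_surj g
  refine ⟨⟨g, hg⟩, B, h1, h2, fun h hh => h3 (toIm h) hh, h4, fun m => ?_⟩
  obtain ⟨m₁, k1, m₂, k2, k3⟩ := h5 m
  refine ⟨m₁, k1, m₂, k2, fun s hs => ?_⟩
  by_contra hne
  obtain ⟨χ, -, hχ⟩ := Tr.exists_fun (H := H) (t := s) ⟨hs, m₂, hne⟩ hr
  exact hne (k3 _ χ hχ)

end BD

end Cfsg.Agent.Omega.NOThree.LL
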