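import Cfsg.Agent.Omega.NOThree.LL.Frame
import Cfsg.Agent.Omega.NOThree.LL.BlockRed
import Cfsg.Agent.Omega.NOThree.TF.MdEx
import Cfsg.Agent.Omega.NOThree.TF.ULam

/-!
# TwoFar, THEOREM LL (#18157): `O₂(C_G(p)/K_p) = 1` for `M_p`, the data `BD` (section 4)

* `Md.pt_conj` : the line vectors of `M_p` are conjugate; `Md.span_pt` : they span; `Md.redM` : `O₂(C_G(p)/K_p) = 1`;
* `Md.bd` : the data of `BD` (section 4) for a transvection with centre `c ∈ U_λ` which is not a line vector.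
-/

set_option autoImplicit false
set_option linter.unusedSectionVars false

namespace Cfsg.Agent.Omega.NOThree.LL

open Subgroup Cfsg Cfsg.Agent.ZN Cfsg.Agent.MinSimple.Geo Cfsg.Agent.Omega.CaseL Cfsg.Agent.Omega.NO3S.TwoOne
open Cfsg.Agent.Omega.NO3S.Pt
open Cfsg.Agent.Omega.NOThree.TF (Md conj_mem_ws_of_mem exists_T)

universe u v

variable {G : Type u} [Group G] {T V : Subgroup G} {z p x : G} {M : Type v} [AddCommGroup M]
  [DistribMulAction (centralizer ({p} : Set G)) M] {π : G → M}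

/-- the line vectors of `M_p` are conjugate -/
theorem pt_conj (h : Fr T V z) (md : Md V p π) (hx : Col V p x) (hne : x ≠ p) {e : G} (he : Col V p e)
    (hne' : e ≠ p) : ∃ g : centralizer ({p} : Set G), g • π x = π e := by
  obtain ⟨g₁, p1, x1, hp1, hx1⟩ := id hx
  obtain ⟨g₂, p2, e2, -, he1⟩ := id he
  obtain ⟨k₁, a1, b1, -⟩ := h.flag p1 hp1
  obtain ⟨k₂, a2, b2, hf⟩ := h.flag p2 hp1
  have hc : (k₂ * k₁⁻¹) * p * (k₂ * k₁⁻¹)⁻¹ = p := by
    nth_rewrite 1 [← b1]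
    rw [← b2]
    group
  have hcp : k₂ * k₁⁻¹ ∈ centralizer ({p} : Set G) := by
    rw [mem_centralizer_singleton_iff]
    exact mul_inv_eq_iff_eq_mul.1 hc
  refine ⟨⟨k₂ * k₁⁻¹, hcp⟩, ?_⟩
  have hm : (k₂ * k₁⁻¹) * x * (k₂ * k₁⁻¹)⁻¹ ∈ cj g₂ V := by
    have h1 : (k₂ * k₁⁻¹) * x * (k₂ * k₁⁻¹)⁻¹ ∈ cj (k₂ * k₁⁻¹) (cj k₁ V) := by
      rw [a1]
      exact conj_mem_cj x1
    rwa [cj_cj, inv_mul_cancel_right, a2] at h1
  rw [← md.smul ⟨k₂ * k₁⁻¹, hcp⟩ x (h.mem_ws_of_col hx)]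
  have hne2 : (k₂ * k₁⁻¹) * x * (k₂ * k₁⁻¹)⁻¹ ≠ p := by
    intro e'
    apply hne
    have h2 := e'.trans hc.symm
    exact mul_left_cancel (mul_right_cancel h2)
  rcases hf.ln.four p2 e2 hp1 he1 (Ne.symm hne') hm with e' | e' | e' | e'
  · exact absurd (conj_eq_one_iff.1 e') hx1
  · exact absurd e' hne2
  · change π ((k₂ * k₁⁻¹) * x * (k₂ * k₁⁻¹)⁻¹) = _
    rw [e']
  · change π ((k₂ * k₁⁻¹) * x * (k₂ * k₁⁻¹)⁻¹) = _
    rw [e', md.map_mul p (h.mem_ws_self hx.left) e (h.mem_ws_of_col he), md.map_p h hx.left, zero_add]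

/-- `M = ⟨λ^H⟩` -/
theorem span_pt (h : Fr T V z) (md : Md V p π) (hx : Col V p x) (hne : x ≠ p) (m : M) :
    m ∈ AddSubgroup.closure {v | ∃ g : centralizer ({p} : Set G), v = g • π x} := by
  set D := AddSubgroup.closure {v | ∃ g : centralizer ({p} : Set G), v = g • π x} with hD
  obtain ⟨a, ha, rfl⟩ := md.surj m
  have h1 : ws V p ≤
      { carrier := {a | a ∈ ws V p ∧ π a ∈ D}
        one_mem' := ⟨one_mem _, by rw [md.map_one]; exact zero_mem _⟩
        mul_mem' := fun {a b} ha hb => ⟨mul_mem ha.1 hb.1, by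
          rw [md.map_mul a ha.1 b hb.1]; exact add_mem ha.2 hb.2⟩
        inv_mem' := fun {a} ha => ⟨inv_mem ha.1, by
          rw [inv_eq_of_mul_eq_one_left (h.ws_sq hx.left a ha.1)]; exact ha.2⟩ } := by
    refine ws_le ?_
    rintro _ ⟨⟨g, rfl⟩, hp⟩ a ha
    have hle := h.line_le_ws hp
    refine ⟨hle ha, ?_⟩
    by_cases ha1 : a = 1
    · rw [ha1, md.map_one]; exact zero_mem _
    by_cases hap : a = p
    · rw [hap, md.map_p h hx.left]; exact zero_mem _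
    obtain ⟨c, hc⟩ := pt_conj h md hx hne (Col.of_mem hp ha hx.ne_one ha1) hap
    rw [← hc]
    exact AddSubgroup.subset_closure ⟨c, rfl⟩
  exact (h1 ha).2

/-- `O₂(C_G(p)/K_p) = 1` -/
theorem redM_pt [Finite G] (h : Fr T V z) (md : Md V p π) (hx : Col V p x) (hne : x ≠ p) :
    RedM (centralizer ({p} : Set G)) M := by
  obtain ⟨T', h1, h2, h3, h4, -, -⟩ := exists_T h hx hne
  refine redM_of (T := T'.subgroupOf (centralizer ({p} : Set G))) h3 (lam := π x) ?_ (span_pt h md hx hne)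
  intro t ht
  rw [← md.smul t x (h.mem_ws_of_col hx)]
  rcases h4 t (mem_subgroupOf.1 ht) with e | e
  · rw [e]
  · rw [e, md.map_mul p (h.mem_ws_self hx.left) x (h.mem_ws_of_col hx), md.map_p h hx.left, zero_add]

/-- `M_p` is finite -/
theorem finite_Md [Finite G] (md : Md V p π) : Finite M := by
  refine Finite.of_surjective (fun a : ws V p => π a) fun v => ?_
  obtain ⟨a, ha, e⟩ := md.surj v
  exact ⟨⟨a, ha⟩, e⟩

/-- **the data of section 4** -/
theorem bd_of_tr [Finite G] (h : Fr T V z) (md : Md V p π) {g p₁ : G} (hp : p ∈ cj g V) (hp1 : p ≠ 1)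
    (hq : p₁ ∈ cj g V) (hq1 : p₁ ≠ 1) (hne : p₁ ≠ p) {U : AddSubgroup M}
    (hU : ∀ m, m ∈ U ↔ ∃ a ∈ ii (cj g V), π a = m) {c : M} (hc : c ∈ U)
    (hcl : ∀ g : centralizer ({p} : Set G), g • π p₁ ≠ c)
    (ht : ∃ t : centralizer ({p} : Set G), Tr c t ∧ ∀ u ∈ U, t • u = u) :
    BD (centralizer ({p} : Set G)) (π p₁) U c where
  two := md.two h (Col.of_mem hp hp hp1 hp1)
  red := redM_pt h md (Col.of_mem hp hq hp1 hq1) hne
  span := span_pt h md (Col.of_mem hp hq hp1 hq1) hne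
  lamU := md.lam_mem_U h hp hp1 hq hU
  inv := fun c hc u hu => md.stab_U h hp hp1 hq hq1 hne hU hc hu
  F2 := fun u hu h0 h1 => md.mv_U h hp hp1 hq hq1 hne hU hu h0 h1
  cU := hc
  cl := hcl
  tr := ht

end Cfsg.Agent.Omega.NOThree.LL
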