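import Cfsg.Agent.Omega.NOThree.LL.NoH
import Cfsg.Agent.Omega.NOThree.LL.BlockRed

/-!
# THEOREM ONE for `M_p = W_p/p` (THEOREM LL, #18157)

* `LamS V p π` : the line vectors of `M_p`; `UU V p π ν = U_ν`, `mem_UU`;
* `NoHP V p π` : (NO) for the subgroups of `H_p` in all `B_ν`; `noHP_of` : from (ML);
* `sys` : `One.Sys` holds for the image of `C(p)` on `M_p`;
* `exists_tr` : in a goal pair with `R = [W_p, W_q]` free of points `∼ p` some `t ∈ W_q` is a transvection of `M_p` with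
  centre `c ∈ U_λ`, `c ∉ λ^H`.
-/

set_option autoImplicit false
set_option linter.unusedSectionVars false

namespace Cfsg.Agent.Omega.NOThree.LL

open Subgroup Cfsg Cfsg.Agent.ZN Cfsg.Agent.MinSimple.Geo Cfsg.Agent.Omega.CaseL Cfsg.Agent.Omega.NO3S.TwoOne
open Cfsg.Agent.Omega.NO3S.Pt Cfsg.Agent.Omega.NOThree.TF
open Cfsg.Agent.Omega.NOThree.SecOne (ee mem_ee ee_le)
open Cfsg.Agent.ZN.Block (conj_mem_of_normalizer conj_mem_of_normalizer' le_normalizer_of_forall mem_normalizer_of)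
open Cfsg.Agent.Omega.NO3S.Dual (nn mem_nn)

universe u v

variable {G : Type u} [Group G] {M : Type v} [AddCommGroup M]
variable {T V : Subgroup G} {z p x g : G} [DistribMulAction (centralizer ({p} : Set G)) M] {π : G → M}

/-- the line vectors of `M_p` -/
def LamS (V : Subgroup G) (p : G) (π : G → M) : Set M := {v | ∃ x, Col V p x ∧ x ≠ p ∧ π x = v}

/-- `U_ν` -/
def UU (V : Subgroup G) (p : G) (π : G → M) (ν : M) : AddSubgroup M :=
  AddSubgroup.closure {m | ∃ g x a : G, p ∈ cj g V ∧ x ∈ cj g V ∧ p ≠ 1 ∧ x ≠ 1 ∧ x ≠ p ∧ π x = ν ∧ a ∈ ii (cj g V) ∧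
    π a = m}

/-- two points determine the line; `x` and `p x` are on the same line on `p` -/
theorem line_eq (h : Fr T V z) (md : Md V p π) {g g' x x' : G} (hp : p ∈ cj g V) (hx : x ∈ cj g V) (hp1 : p ≠ 1)
    (hx1 : x ≠ 1) (hne : x ≠ p) (hp' : p ∈ cj g' V) (hx' : x' ∈ cj g' V) (hx1' : x' ≠ 1) (hne' : x' ≠ p)
    (e : π x' = π x) : cj g' V = cj g V := by
  have hpc : Col V p p := Col.of_mem hp hp hp1 hp1
  have hxw : x ∈ ws V p := h.mem_ws_of_col (Col.of_mem hp hx hp1 hx1)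
  have hxw' : x' ∈ ws V p := h.mem_ws_of_col (Col.of_mem hp' hx' hp1 hx1')
  have key : ∀ (g g' x x' : G), p ∈ cj g V → x ∈ cj g V → x ≠ 1 → x ≠ p → p ∈ cj g' V → x' ∈ cj g' V → x' ≠ 1 →
      x' ≠ p → x' ∈ ws V p → x ∈ ws V p → π x' = π x → cj g' V ≤ cj g V := by
    intro g g' x x' hp hx hx1 hne hp' hx' hx1' hne' hxw' hxw e a ha
    have h1 : x' ∈ cj g V := by
      rcases (md.eq_iff h hpc hxw' hxw).1 e with e | e
      · rw [e]; exact hx
      · rw [e]; exact mul_mem hp hx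
    rcases Md.four_cj h hp' hp1 hx' hx1' hne' ha with e | e | e | e
    · rw [e]; exact one_mem _
    · rw [e]; exact hp
    · rw [e]; exact h1
    · rw [e]; exact mul_mem hp h1
  exact le_antisymm (key g g' x x' hp hx hx1 hne hp' hx' hx1' hne' hxw' hxw e)
    (key g' g x' x hp' hx' hx1' hne' hp hx hx1 hne hxw hxw' e.symm)

theorem mem_UU (h : Fr T V z) (md : Md V p π) (hp : p ∈ cj g V) (hp1 : p ≠ 1) (hx : x ∈ cj g V) (hx1 : x ≠ 1)
    (hne : x ≠ p) (m : M) : m ∈ UU V p π (π x) ↔ ∃ a ∈ ii (cj g V), π a = m := by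
  obtain ⟨U, hU⟩ := Md.exists_U h md hp hp1
  have e : UU V p π (π x) = U := by
    apply le_antisymm
    · unfold UU
      rw [AddSubgroup.closure_le]
      rintro m ⟨g', x', a, hp', hx', -, hx1', hne', e, ha, rfl⟩
      rw [SetLike.mem_coe, hU]
      rw [line_eq h md hp hx hp1 hx1 hne hp' hx' hx1' hne' e] at ha
      exact ⟨a, ha, rfl⟩
    · intro m hm
      obtain ⟨a, ha, rfl⟩ := (hU m).1 hm
      exact AddSubgroup.subset_closure ⟨g, x, a, hp, hx, hp1, hx1, hne, rfl, ha, rfl⟩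
  rw [e, hU]

/-- **(NO) for the subgroups of `H_p`** in `B_ν`, all line vectors `ν` -/
def NoHP (V : Subgroup G) (p : G) [DistribMulAction (centralizer ({p} : Set G)) M] (π : G → M) : Prop :=
  ∀ (g x : G) (U : AddSubgroup M), p ∈ cj g V → p ≠ 1 → x ∈ cj g V → x ≠ 1 → x ≠ p →
    (∀ m, m ∈ U ↔ ∃ a ∈ ii (cj g V), π a = m) → NoH (centralizer ({p} : Set G)) M U

theorem noHP_of [Finite G] (hML : ML.Final.MLK.{u, v}) (h : Fr T V z) (hK : IsKGroup (centralizer ({p} : Set G)))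
    (md : Md V p π) : NoHP V p π := fun _ _ _ hp hp1 hx hx1 hne hU => noH_of hML h hK md hp hp1 hx hx1 hne hU

/-- **(F2')**, functional form -/
theorem f2_functional [Finite G] (h : Fr T V z) (md : Md V p π) (hp : p ∈ cj g V) (hp1 : p ≠ 1) (hx : x ∈ cj g V)
    (hx1 : x ≠ 1) {U : AddSubgroup M} (hU : ∀ m, m ∈ U ↔ ∃ a ∈ ii (cj g V), π a = m)
    (φ : M →+ ZMod 2) (hφ : φ (π x) = 0) :
    ∃ k : centralizer ({p} : Set G), k • π x = π x ∧ ∀ u ∈ U, (φ u = 0 → k • u = u) ∧ (φ u ≠ 0 → k • u = u + π x) := by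
  have hpc : Col V p p := Col.of_mem hp hp hp1 hp1
  have hxc : Col V x x := Col.of_mem hx hx hx1 hx1
  have hcx : Col V p x := Col.of_mem hp hx hp1 hx1
  have hle := h.ii_cj_le hp hp1
  have hlex := h.ii_cj_le hx hx1
  have hxw : x ∈ ws V p := h.mem_ws_of_col hcx
  have hpw : p ∈ ws V p := h.mem_ws_self hpc
  have hVi : cj g V ≤ ii (cj g V) := by
    intro a ha r hr hr1
    rw [ws_cj]
    exact h.line_le_ws hr ha
  by_cases h0 : ∀ u ∈ U, φ u = 0
  · exact ⟨1, one_smul _ _, fun u hu => ⟨fun _ => one_smul _ _, fun hn => absurd (h0 u hu) hn⟩⟩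
  push Not at h0
  obtain ⟨u0, hu0, hφ0⟩ := h0
  obtain ⟨a0, ha0, rfl⟩ := (hU u0).1 hu0
  have hmul : ∀ a ∈ ii (cj g V), ∀ b ∈ ii (cj g V), φ (π (a * b)) = φ (π a) + φ (π b) := fun a ha b hb => by
    rw [md.map_mul a (hle ha) b (hle hb), map_add]
  let U' : Subgroup G :=
    { carrier := {a | a ∈ ii (cj g V) ∧ φ (π a) = 0}
      mul_mem' := fun {a b} ha hb => ⟨mul_mem ha.1 hb.1, by rw [hmul a ha.1 b hb.1, ha.2, hb.2, add_zero]⟩
      one_mem' := ⟨one_mem _, by rw [md.map_one, map_zero]⟩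
      inv_mem' := fun {a} ha => ⟨inv_mem ha.1, by
        have e := hmul a ha.1 a⁻¹ (inv_mem ha.1)
        rw [mul_inv_cancel, md.map_one, map_zero, ha.2, zero_add] at e
        exact e.symm⟩ }
  have hU' : U' ≤ ws V x := fun a ha => hlex ha.1
  have hxU' : x ∈ U' := ⟨hVi hx, hφ⟩
  have hpU' : p ∈ U' := ⟨hVi hp, by rw [md.map_p h hpc, map_zero]⟩
  have ha0x : a0 ∈ ws V x := hlex ha0
  have hnot : a0 ∉ U' ⊔ nn (ws V x) (kq V x) := by
    intro hmem
    obtain ⟨a, ha, b, hb, e⟩ := NO3S.Dual.mem_sup_of_comm (h.ws_comm hxc) hU'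
      (inf_le_left : nn (ws V x) (kq V x) ≤ ws V x) hmem
    have hbi : b ∈ ii (cj g V) := by
      have e1 : b = a⁻¹ * a0 := by rw [e]; group
      rw [e1]
      exact mul_mem (inv_mem ha.1) ha0
    have hb' := (mem_nn.1 hb).2
    have key : ∀ k ∈ kq V x, k * b * k⁻¹ ≠ x * b := by
      intro k hk e
      rw [NO3S.Dual.conj_eq_of_comm (hb' k hk)] at e
      exact hx1 (by simpa using e.symm)
    have hbV : b ∈ cj g V := by
      by_contra hbV
      obtain ⟨k, hk, -, hkb⟩ := h.fu_cj hbi hbV hx hx1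
      exact key k hk hkb
    have hbU : b ∈ U' := by
      by_cases hb1 : b = 1
      · rw [hb1]; exact one_mem _
      by_cases hbx : b = x
      · rw [hbx]; exact hxU'
      obtain ⟨k, hk, -, hkm⟩ := h.mover_cj hx hx1
      exact absurd (hkm b hbV hb1 hbx) (key k hk)
    have : a0 ∈ U' := by rw [e]; exact mul_mem ha hbU
    exact hφ0 this.2
  obtain ⟨k, -, hkU, hka⟩ := (h.dw hxc).exists_mover hU' ha0x hnot
  have hkp : k ∈ centralizer ({p} : Set G) := by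
    rw [mem_centralizer_singleton_iff]
    exact hkU p hpU'
  have hfix : ∀ a ∈ U', (⟨k, hkp⟩ : centralizer ({p} : Set G)) • π a = π a := by
    intro a ha
    rw [← md.smul ⟨k, hkp⟩ a (hle ha.1)]
    congr 1
    exact NO3S.Dual.conj_eq_of_comm (hkU a ha)
  refine ⟨⟨k, hkp⟩, hfix x hxU', fun u hu => ?_⟩
  obtain ⟨a, ha, rfl⟩ := (hU u).1 hu
  refine ⟨fun h1 => hfix a ⟨ha, h1⟩, fun h1 => ?_⟩
  have hz : ∀ t : ZMod 2, t ≠ 0 → t = 1 := by decide
  have hb : a0⁻¹ * a ∈ U' := by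
    refine ⟨mul_mem (inv_mem ha0) ha, ?_⟩
    have e0 : a0⁻¹ = a0 := inv_eq_of_mul_eq_one_left (h.ws_sq hxc a0 ha0x)
    rw [e0, hmul a0 ha0 a ha, hz _ hφ0, hz _ h1]
    decide
  rw [← md.smul ⟨k, hkp⟩ a (hle ha), ← add_comm, ← md.map_mul x hxw a (hle ha)]
  congr 1
  change k * a * k⁻¹ = x * a
  have e1 : k * (a0⁻¹ * a) * k⁻¹ = a0⁻¹ * a := NO3S.Dual.conj_eq_of_comm (hkU _ hb)
  calc k * a * k⁻¹ = (k * a0 * k⁻¹) * (k * (a0⁻¹ * a) * k⁻¹) := by group
    _ = x * a := by rw [hka, e1]; group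

/-- **the instance of `One.Sys`**: the image of `C(p)` on `M_p` -/
theorem sys [Finite G] [Finite M] (h : Fr T V z) (hpc : ∃ x, Col V p x ∧ x ≠ p) (md : Md V p π)
    (hno : NoHP V p π) : One.Sys (Im (centralizer ({p} : Set G)) M) (LamS V p π) (UU V p π) := by
  obtain ⟨x0, hx0, hx0p⟩ := hpc
  have hpp := hx0.left
  have hred := redM_md h md hx0 hx0p
  have two := md.two h hpp
  have hcol : ∀ (c : centralizer ({p} : Set G)) {x : G}, Col V p x → x ≠ p →
      Col V p ((c : G) * x * (c : G)⁻¹) ∧ (c : G) * x * (c : G)⁻¹ ≠ p ∧ π ((c : G) * x * (c : G)⁻¹) = c • π x := by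
    intro c x hx hxp
    have hc : (c : G) * p = p * c := mem_centralizer_singleton_iff.1 c.2
    have e0 : (c : G) * p * (c : G)⁻¹ = p := NO3S.Dual.conj_eq_of_comm hc
    refine ⟨?_, ?_, md.smul c x (h.mem_ws_of_col hx)⟩
    · have := hx.conj (c : G)
      rwa [e0] at this
    · intro e
      apply hxp
      calc x = (c : G)⁻¹ * ((c : G) * x * (c : G)⁻¹) * c := by group
        _ = p := by rw [e, mul_assoc, ← hc]; group
  refine ⟨two, fun k hk => ?_, ?_, ?_, ?_, ?_, ?_, ?_, ?_⟩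
  · exact Subtype.ext (Equiv.ext fun m => hk m)
  · rintro ⟨x, hx, hxp, e⟩
    exact md.pt_ne_zero h hx hxp e
  · rintro k ν ⟨x, hx, hxp, rfl⟩
    obtain ⟨c, rfl⟩ := toIm_surj k
    obtain ⟨h1, h2, h3⟩ := hcol c hx hxp
    exact ⟨_, h1, h2, h3⟩
  · rintro ν ⟨x, ⟨g, hp, hx, hp1, hx1⟩, hxp, rfl⟩
    rw [mem_UU h md hp hp1 hx hx1 hxp]
    refine ⟨x, ?_, rfl⟩
    intro r hr hr1
    rw [ws_cj]
    exact h.line_le_ws hr hx
  · rintro k ν u ⟨x, ⟨g, hp, hx, hp1, hx1⟩, hxp, rfl⟩ hu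
    obtain ⟨c, rfl⟩ := toIm_surj k
    rw [mem_UU h md hp hp1 hx hx1 hxp] at hu
    obtain ⟨a, ha, rfl⟩ := hu
    have hcx : Col V p x := ⟨g, hp, hx, hp1, hx1⟩
    obtain ⟨h1, h2, h3⟩ := hcol c hcx hxp
    have hc : (c : G) * p = p * c := mem_centralizer_singleton_iff.1 c.2
    have e0 : (c : G) * p * (c : G)⁻¹ = p := NO3S.Dual.conj_eq_of_comm hc
    have f1 : p ∈ cj ((c : G) * g) V := by
      rw [← cj_cj]
      have := conj_mem_cj (g := (c : G)) hp
      rwa [e0] at this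
    have f2 : (c : G) * x * (c : G)⁻¹ ∈ cj ((c : G) * g) V := by
      rw [← cj_cj]
      exact conj_mem_cj hx
    rw [toIm_smul, toIm_smul, ← h3, mem_UU h md f1 hp1 f2 h1.right.ne_one h2]
    have hle := h.ii_cj_le hp hp1
    refine ⟨(c : G) * a * (c : G)⁻¹, ?_, md.smul c a (hle ha)⟩
    have f3 : a ∈ ws V p := hle ha
    have f4 : a ∈ ws V x := h.ii_cj_le hx hx1 ha
    refine h.mem_ii_cj f1 hp1 f2 h1.right.ne_one h2 ?_ ?_
    · have := conj_mem_ws (c : G) f3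
      rwa [e0] at this
    · exact conj_mem_ws (c : G) f4
  · rintro ν ⟨x, ⟨g, hp, hx, hp1, hx1⟩, hxp, rfl⟩ φ hφ
    obtain ⟨k, hk1, hk2⟩ := f2_functional h md hp hp1 hx hx1 (mem_UU h md hp hp1 hx hx1 hxp) φ hφ
    exact ⟨toIm k, hk1, hk2⟩
  · rintro ν ⟨x, ⟨g, hp, hx, hp1, hx1⟩, hxp, rfl⟩ A hA
    have h1 := hno g x (UU V p π (π x)) hp hp1 hx hx1 hxp (mem_UU h md hp hp1 hx hx1 hxp) (A.comap toIm)
      fun b hb => hA hb
    have h2 : kerM (centralizer ({p} : Set G)) M = (toIm : centralizer ({p} : Set G) →* Im _ M).ker := by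
      ext c
      rw [mem_kerM, MonoidHom.mem_ker]
      constructor
      · exact fun hc => Subtype.ext (Equiv.ext hc)
      · intro hc m
        rw [← toIm_smul, hc, one_smul]
    have h3 : (A.comap (toIm : centralizer ({p} : Set G) →* Im _ M)).map toIm = A :=
      map_comap_eq_self_of_surjective (fun y => toIm_surj y) A
    rw [h2, relIndex_ker, h3] at h1
    have h4 : One.cv M (A.comap (toIm : centralizer ({p} : Set G) →* Im _ M)) = One.cv M A := by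
      ext m
      constructor
      · intro hm a ha
        obtain ⟨c, rfl⟩ := toIm_surj a
        exact hm c ha
      · exact fun hm c hc => hm (toIm c) hc
    rwa [h4] at h1
  · rintro ν - f hf hf1
    obtain ⟨c, rfl⟩ := toIm_surj f
    have e1 : ∀ m : M, c • c • m = m := by
      intro m
      have h1 := One.sub_mul hf hf m
      rw [two, sub_eq_zero, mul_smul] at h1
      exact h1
    have e2 : ∃ m : M, c • m ≠ m := by
      by_contra hcon
      push Not at hcon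
      exact hf1 (Subtype.ext (Equiv.ext hcon))
    obtain ⟨k, hk⟩ := exists_inv hred e1 e2
    refine ⟨toIm k, ?_, ?_, ?_⟩
    · intro e
      obtain ⟨m, hm⟩ := hk.ne
      apply hm
      rw [← toIm_smul, e, one_smul]
    · obtain ⟨j, hj, hj'⟩ := hk.odd
      have h1 : (toIm k : Im (centralizer ({p} : Set G)) M) ^ j = 1 := by
        rw [← map_pow]
        exact Subtype.ext (Equiv.ext hj')
      exact Odd.of_dvd_nat hj (orderOf_dvd_of_pow_eq_one h1)
    · rw [← map_inv, ← map_inv, ← map_mul, ← map_mul]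
      exact Subtype.ext (Equiv.ext hk.inv)

/-! ### Goal pairs -/

namespace St

variable {m : ℕ} {y : ℕ → G} [DistribMulAction (centralizer ({y 0} : Set G)) M] {π : G → M}
  (s : St T V z m y π)
include s

/-- the image `A` of `W_q` in the image of `C(p)` -/
def AA (_ : St T V z m y π) : Subgroup (Im (centralizer ({y 0} : Set G)) M) :=
  ((ws V (y (m + 3))).subgroupOf (centralizer ({y 0} : Set G))).map toIm

theorem mem_AA {a : Im (centralizer ({y 0} : Set G)) M} :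
    a ∈ s.AA ↔ ∃ t : centralizer ({y 0} : Set G), (t : G) ∈ ws V (y (m + 3)) ∧ toIm t = a := by
  unfold AA
  rw [mem_map]
  exact Iff.rfl

theorem finM [Finite G] : Finite M := by
  refine Finite.of_surjective (fun a : ws V (y 0) => π a) fun m => ?_
  obtain ⟨a, ha, e⟩ := s.md.surj m
  exact ⟨⟨a, ha⟩, e⟩

theorem AA_le [Finite G] (hp : y 0 ∈ cj g V) (hx : y 1 ∈ cj g V) {U : AddSubgroup M}
    (hU : ∀ m, m ∈ U ↔ ∃ a ∈ ii (cj g V), π a = m) : s.AA ≤ One.bb U := by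
  intro a ha
  obtain ⟨t, ht, rfl⟩ := s.mem_AA.1 ha
  have hp1 : y 0 ≠ 1 := s.hp.ne_one
  have hx1 : y 1 ≠ 1 := s.gg.col0.right.ne_one
  refine ⟨fun u hu => Md.fix_U s.fr s.md hp hx hx1 hU s.com1 ht hp1 hu, fun v => ?_⟩
  obtain ⟨w, hw, rfl⟩ := s.md.surj v
  have hc : (t : G) * w * (t : G)⁻¹ ∈ ws V (y 0) := conj_mem_ws_of_mem t.2 hw
  rw [toIm_smul, ← s.md.smul t w hw, s.sub_eq, ← s.md.map_mul _ hc _ hw, hU]
  have e : (t : G) * w * (t : G)⁻¹ * w = (w * t * w⁻¹ * (t : G)⁻¹)⁻¹ := by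
    have e1 : w⁻¹ = w := inv_eq_of_mul_eq_one_left (s.fr.ws_sq s.hp w hw)
    rw [mul_inv_rev, mul_inv_rev, mul_inv_rev, inv_inv, inv_inv, e1]
    group
  refine ⟨_, ?_, rfl⟩
  refine s.fr.mem_ii_cj hp hp1 hx hx1 s.ne1 (mul_mem hc hw) ?_
  rw [e]
  exact inv_mem (s.gg.le w hw t ht)

/-- exactness: `|A| |C_M(A)| = |M|` -/
theorem card_AA [Finite G] : Nat.card s.AA * Nat.card (One.cv M s.AA) = Nat.card M := by
  have hfin := s.finM
  have hex := s.gg.exact s.fr s.no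
  -- `|A| = |W_q : E'|`
  have h1 : Nat.card s.AA = (ee V (y (m + 3)) (y 0)).relIndex (ws V (y (m + 3))) := by
    unfold AA
    rw [← relIndex_ker, ← relIndex_subgroupOf s.wq_le, ← inf_relIndex_right, ← inf_relIndex_right
      ((ee V (y (m + 3)) (y 0)).subgroupOf (centralizer ({y 0} : Set G)))]
    congr 1
    ext t
    rw [mem_inf, mem_inf, MonoidHom.mem_ker, mem_subgroupOf, mem_subgroupOf]
    refine and_congr_left fun ht => ?_
    constructor
    · intro hk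
      refine hex.kq _ ht ((s.md.mem_kq_iff s.fr s.hp t).2 fun v => ?_)
      rw [← toIm_smul, hk, one_smul]
    · intro hk
      refine Subtype.ext (Equiv.ext fun v => ?_)
      obtain ⟨w, hw, rfl⟩ := s.md.surj v
      change t • π w = π w
      rw [← s.md.smul t w hw]
      congr 1
      exact NO3S.Dual.conj_eq_of_comm ((mem_ee.1 hk).2 w hw)
  -- `|M : C_M(A)| = |W_p : E|`
  have h2 : (One.cv M s.AA).index = (ee V (y 0) (y (m + 3))).relIndex (ws V (y 0)) := by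
    refine s.md.index_eq_relIndex fun w hw => ?_
    constructor
    · intro hc
      refine hex.cent w hw fun b hb => ?_
      have hb' : b ∈ centralizer ({y 0} : Set G) := s.wq_le hb
      have h3 := hc (toIm ⟨b, hb'⟩) (s.mem_AA.2 ⟨⟨b, hb'⟩, hb, rfl⟩)
      rw [toIm_smul, ← s.md.smul ⟨b, hb'⟩ w hw, s.md.eq_iff s.fr s.hp (conj_mem_ws_of_mem hb' hw) hw] at h3
      rw [mem_zpowers_iff_of_mul_self (s.fr.pt_sq s.hp)]
      rcases h3 with e | e
      · left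
        change b * w * b⁻¹ = w at e
        rw [e, mul_inv_cancel]
      · right
        change b * w * b⁻¹ = y 0 * w at e
        rw [e, mul_inv_cancel_right]
    · intro hc a ha
      obtain ⟨t, ht, rfl⟩ := s.mem_AA.1 ha
      rw [toIm_smul, ← s.md.smul t w hw]
      congr 1
      exact NO3S.Dual.conj_eq_of_comm ((mem_ee.1 hc).2 t ht).symm
  rw [h1, ← hex.card, ← h2, mul_comm]
  exact AddSubgroup.card_mul_index _

/-- `[M, A]` is the image of `[W_p, W_q]` -/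
theorem exists_of_cm [Finite G] {r : M} (hr : r ∈ One.cm M s.AA) :
    ∃ e ∈ NO3S.TwoMid.rr V (y 0) (y (m + 3)), e ∈ ws V (y 0) ∧ π e = r := by
  have hpp := s.hp
  let D : AddSubgroup M :=
    { carrier := {v | ∃ e ∈ NO3S.TwoMid.rr V (y 0) (y (m + 3)), e ∈ ws V (y 0) ∧ π e = v}
      add_mem' := by
        rintro _ _ ⟨a, ha, ha', rfl⟩ ⟨b, hb, hb', rfl⟩
        exact ⟨a * b, mul_mem ha hb, mul_mem ha' hb', s.md.map_mul a ha' b hb'⟩
      zero_mem' := ⟨1, one_mem _, one_mem _, s.md.map_one⟩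
      neg_mem' := by
        rintro _ ⟨a, ha, ha', rfl⟩
        exact ⟨a, ha, ha', (s.md.neg_eq s.fr hpp _).symm⟩ }
  have h1 : One.cm M s.AA ≤ D := by
    refine One.cm_le fun a ha v => ?_
    obtain ⟨t, ht, rfl⟩ := s.mem_AA.1 ha
    obtain ⟨w, hw, rfl⟩ := s.md.surj v
    have hc : (t : G) * w * (t : G)⁻¹ ∈ ws V (y 0) := conj_mem_ws_of_mem t.2 hw
    have e : (t : G) * w * (t : G)⁻¹ * w = (w * t * w⁻¹ * (t : G)⁻¹)⁻¹ := by
      have e1 : w⁻¹ = w := inv_eq_of_mul_eq_one_left (s.fr.ws_sq s.hp w hw)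
      rw [mul_inv_rev, mul_inv_rev, mul_inv_rev, inv_inv, inv_inv, e1]
      group
    refine ⟨(t : G) * w * (t : G)⁻¹ * w, ?_, mul_mem hc hw, ?_⟩
    · rw [e]
      exact inv_mem (NO3S.TwoMid.comm_mem_rr hw ht)
    · rw [toIm_smul, ← s.md.smul t w hw, s.sub_eq, ← s.md.map_mul _ hc _ hw]
  exact h1 hr

/-- **THEOREM ONE for goal pairs**: if `R = [W_p, W_q]` contains no point `∼ p`, some `t ∈ W_q` is a transvection of
`M_p` with centre `c ∈ U_λ`, `c ∉ λ^H`. -/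
theorem exists_tr [Finite G] (hno : NoHP V (y 0) π)
    (free : ∀ e ∈ NO3S.TwoMid.rr V (y 0) (y (m + 3)), ¬ Col V (y 0) e) (hp : y 0 ∈ cj g V) (hx : y 1 ∈ cj g V)
    {U : AddSubgroup M} (hU : ∀ m, m ∈ U ↔ ∃ a ∈ ii (cj g V), π a = m) :
    ∃ (t : centralizer ({y 0} : Set G)) (c : M), (t : G) ∈ ws V (y (m + 3)) ∧ Tr c t ∧ c ∈ U ∧
      ∀ g : centralizer ({y 0} : Set G), g • π (y 1) ≠ c := by
  have hfin := s.finM
  have hp1 : y 0 ≠ 1 := s.hp.ne_one
  have hx1 : y 1 ≠ 1 := s.gg.col0.right.ne_one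
  have S := sys s.fr ⟨y 1, s.gg.col0, s.ne1⟩ s.md hno
  have hlam : π (y 1) ∈ LamS V (y 0) π := ⟨y 1, s.gg.col0, s.ne1, rfl⟩
  have hUU := mem_UU s.fr s.md hp hp1 hx hx1 s.ne1
  have hAle : s.AA ≤ One.bb (UU V (y 0) π (π (y 1))) := s.AA_le hp hx hUU
  have hUeq : UU V (y 0) π (π (y 1)) = U := by
    ext v
    rw [hUU, hU]
  have hAne : s.AA ≠ ⊥ := by
    intro e
    apply s.gg.cr.ne
    intro a ha b hb
    by_contra hcon
    have hb' : b ∈ centralizer ({y 0} : Set G) := s.wq_le hb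
    obtain ⟨v, hv⟩ := s.moves_of_not_mem (f := ⟨b, hb'⟩) hb (by
      rw [mem_centralizer_iff]
      exact fun h => hcon (h a ha))
    apply hv
    have h1 : toIm (⟨b, hb'⟩ : centralizer ({y 0} : Set G)) ∈ s.AA := s.mem_AA.2 ⟨⟨b, hb'⟩, hb, rfl⟩
    rw [e, mem_bot] at h1
    rw [← toIm_smul, h1, one_smul]
  -- a minimal exact subgroup
  obtain ⟨A1, ⟨hA1, hA1b, hA1e⟩, hmin⟩ := (Set.toFinite {B : Subgroup (Im (centralizer ({y 0} : Set G)) M) |
    B ≤ s.AA ∧ B ≠ ⊥ ∧ Nat.card B * Nat.card (One.cv M B) = Nat.card M}).exists_minimal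
      ⟨s.AA, le_rfl, hAne, s.card_AA⟩
  have me : One.ME (UU V (y 0) π) (π (y 1)) A1 := by
    refine ⟨hA1.trans hAle, hA1b, hA1e, fun B hB h1 h2 => ?_⟩
    refine lt_of_le_of_ne (S.no hlam B (hB.trans (hA1.trans hAle))) fun h3 => ?_
    exact h2 (le_antisymm hB (hmin ⟨hB.trans hA1, h1, h3⟩ hB))
  have hfree : ∀ r ∈ One.cm M A1, r ∉ LamS V (y 0) π := by
    rintro r hr ⟨x, hxc, hxp, rfl⟩
    obtain ⟨e, he, hew, h1⟩ := s.exists_of_cm (One.cm_mono hA1 hr)
    have hxw := s.fr.mem_ws_of_col hxc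
    apply free e he
    rcases (s.md.eq_iff s.fr s.hp hew hxw).1 h1 with e1 | e1
    · rw [e1]; exact hxc
    · obtain ⟨g', f1, f2, f3, f4⟩ := id hxc
      rw [e1]
      refine ⟨g', f1, mul_mem f1 f2, f3, fun e2 => hxp ?_⟩
      calc x = y 0 * y 0 * x := by rw [s.fr.pt_sq s.hp, one_mul]
        _ = y 0 := by rw [mul_assoc, e2, mul_one]
  obtain ⟨f, hfA, hf1, -, c, -, hc0, hcU, hcL, hfc⟩ := One.one' S hlam me hfree
  obtain ⟨t, ht, rfl⟩ := s.mem_AA.1 (hA1 hfA)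
  refine ⟨t, c, ht, ⟨hfc, ?_⟩, hUeq ▸ hcU, fun k hk => hcL ?_⟩
  · by_contra hcon
    push Not at hcon
    exact hf1 (Subtype.ext (Equiv.ext hcon))
  · rw [← hk]
    exact S.smul (toIm k) hlam

end St

end Cfsg.Agent.Omega.NOThree.LL
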