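import Cfsg.Agent.Omega.NOThree.LL.Frame
import Cfsg.Agent.Omega.NOThree.TF.ULam

/-!
# THEOREM LL (helper975 #18157), section 5: the count

* `Two V p q r` : every commutator `[a, b]`, `a ∈ W_p`, `b ∈ W_q`, is `1` or `r`;
* `relIndex_le_card` : `|W : C_W(f)| ≤ |S|` if all `[w, f]`, `w ∈ W`, lie in `S`;
* `Up` : `U_p = ⟨W_y : y ∼ p⟩` (abelian, normalised by `C(p)`);
* `Goal.gg` : a goal pair of `SecOne.lemM` is GOAL for `ch x y`;
* `Cnt` : the setting at `q`: `B ≤ M_q`, `M_q = B + C(A')`, the stabiliser of `r` normalises `B`;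
* `Cnt.false` : the contradiction, if `|B| ≤ |W_z : I_V|`, `q`-movers with (D) exist and `|[W_x, W_{q'}]| ≤ 2` for the
  children.
-/

set_option autoImplicit false
set_option linter.unusedSectionVars false

namespace Cfsg.Agent.Omega.NOThree.LL

open Subgroup Cfsg Cfsg.Agent.ZN Cfsg.Agent.MinSimple.Geo Cfsg.Agent.Omega.CaseL Cfsg.Agent.Omega.NO3S.TwoOne
open Cfsg.Agent.Omega.NO3S.Pt
open Cfsg.Agent.Omega.NOThree.SecOne (Exact ee mem_ee Goal)
open Cfsg.Agent.Omega.NOThree.TF (Md conj_mem_ws_of_mem)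
open Cfsg.Agent.Omega.NOThree.LemmaM (NoOver)

universe u v

variable {G : Type u} [Group G]

/-- `|W : C_W(f)| ≤ |S|` if `[W, f] ⊆ S` -/
theorem relIndex_le_card [Finite G] {W : Subgroup G} {f : G} {S : Set G}
    (h : ∀ w ∈ W, w * f * w⁻¹ * f⁻¹ ∈ S) : (W ⊓ centralizer ({f} : Set G)).relIndex W ≤ Nat.card S := by
  set K := (W ⊓ centralizer ({f} : Set G)).subgroupOf W with hK
  change Nat.card (W ⧸ K) ≤ _
  have hS : Finite S := Subtype.finite
  refine Nat.card_le_card_of_injective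
    (fun x : W ⧸ K => (⟨(x.out : G) * f * (x.out : G)⁻¹ * f⁻¹, h _ x.out.2⟩ : S)) ?_
  intro a b hab
  have h1 : (a.out : G) * f * (a.out : G)⁻¹ * f⁻¹ = (b.out : G) * f * (b.out : G)⁻¹ * f⁻¹ :=
    congrArg Subtype.val hab
  have h2 : (a.out : G) * f * (a.out : G)⁻¹ = (b.out : G) * f * (b.out : G)⁻¹ := mul_right_cancel h1
  have h3 : (a.out)⁻¹ * b.out ∈ K := by
    have h4 : (a.out : G)⁻¹ * b.out ∈ W := W.mul_mem (W.inv_mem a.out.2) b.out.2
    refine mem_subgroupOf.2 ⟨h4, ?_⟩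
    refine mem_centralizer_singleton_iff.2 ?_
    change (a.out : G)⁻¹ * b.out * f = f * ((a.out : G)⁻¹ * b.out)
    calc (a.out : G)⁻¹ * b.out * f = (a.out : G)⁻¹ * (b.out * f * (b.out : G)⁻¹) * b.out := by group
      _ = (a.out : G)⁻¹ * (a.out * f * (a.out : G)⁻¹) * b.out := by rw [h2]
      _ = f * ((a.out : G)⁻¹ * b.out) := by group
  have h4 := QuotientGroup.eq.2 h3
  exact ((QuotientGroup.out_eq' a).symm.trans h4).trans (QuotientGroup.out_eq' b)

/-- `U_p` -/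
def Up (V : Subgroup G) (p : G) : Subgroup G := closure {a | ∃ y, Col V p y ∧ a ∈ ws V y}

section up

variable {V : Subgroup G} {p : G} {m : ℕ}

theorem ws_le_Up {y : G} (hy : Col V p y) : ws V y ≤ Up V p := fun _ ha => subset_closure ⟨y, hy, ha⟩

theorem Up_comm (hm : Mn V (m + 3)) : ∀ a ∈ Up V p, ∀ b ∈ Up V p, a * b = b * a := by
  have h1 : Up V p ≤ centralizer ({a | ∃ y, Col V p y ∧ a ∈ ws V y} : Set G) := by
    unfold Up
    rw [closure_le]
    rintro a ⟨y, hy, ha⟩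
    rw [SetLike.mem_coe, mem_centralizer_iff]
    rintro b ⟨y', hy', hb⟩
    exact (hm 2 (by omega) y y' ((Pth.of_col hy').head hy.symm) a ha b hb).symm
  have h2 : Up V p ≤ centralizer (Up V p : Set G) := by
    conv_lhs => unfold Up
    rw [closure_le]
    intro a ha
    rw [SetLike.mem_coe, mem_centralizer_iff]
    intro b hb
    exact (mem_centralizer_iff.1 (h1 hb) a ha).symm
  intro a ha b hb
  exact (mem_centralizer_iff.1 (h2 ha) b hb).symm

theorem conj_mem_Up {g a : G} (hg : g ∈ centralizer ({p} : Set G)) (ha : a ∈ Up V p) : g * a * g⁻¹ ∈ Up V p := by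
  have h1 : Up V p ≤ cj g⁻¹ (Up V p) := by
    conv_lhs => unfold Up
    rw [closure_le]
    rintro a ⟨y, hy, ha⟩
    rw [SetLike.mem_coe, mem_cj, inv_inv]
    refine subset_closure ⟨g * y * g⁻¹, ?_, conj_mem_ws g ha⟩
    have h2 := hy.conj g
    rwa [NO3S.Dual.conj_eq_of_comm (mem_centralizer_singleton_iff.1 hg)] at h2
  have h2 := h1 ha
  rwa [mem_cj, inv_inv] at h2

end up

/-- `[W_p, W_q] ⊆ {1, r}` -/
def Two (V : Subgroup G) (p q r : G) : Prop :=
  ∀ a ∈ ws V p, ∀ b ∈ ws V q, a * b * a⁻¹ * b⁻¹ = 1 ∨ a * b * a⁻¹ * b⁻¹ = r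

section

variable {T V : Subgroup G} {z : G} {m : ℕ} {y : ℕ → G} {x f : G}

/-- the goal pair of `SecOne.lemM` -/
theorem gg_of_goal (gg : GG V (m + 3) y) (h : Goal V (m + 3) x (y 0) (y (m + 2))) : GG V (m + 3) (ch x y) where
  cr := h.crit
  path := by
    intro i hi
    cases i with
    | zero => exact h.col
    | succ i => exact gg.path i (by omega)
  not_mem := h.not_mem
  not_mem' := h.not_mem'
  le := fun a ha b hb => (h.le a ha b hb).2

/-- `|W : C_W(q)| ≤ 2` if `[W_x, W_{q'}] ⊆ {1, r}`, `q ∈ W_{q'}` -/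
theorem relIndex_le_two [Finite G] {q q' r : G} (h : Two V x q' r) (hq : q ∈ ws V q') :
    (ws V x ⊓ centralizer ({q} : Set G)).relIndex (ws V x) ≤ 2 := by
  classical
  have h1 := relIndex_le_card (W := ws V x) (f := q) (S := (({1, r} : Finset G) : Set G)) (fun w hw => by
    rcases h w hw q hq with e | e
    · rw [e]; simp
    · rw [e]; simp)
  refine h1.trans ?_
  rw [Nat.card_coe_set_eq, Set.ncard_coe_finset]
  exact Finset.card_le_two

end

/-! ### the setting -/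

section main

variable {T V : Subgroup G} {z : G} {m : ℕ} {y : ℕ → G} {r : G} {M : Type v} [AddCommGroup M]
  [DistribMulAction (centralizer ({y (m + 3)} : Set G)) M] {π : G → M} {B : AddSubgroup M}

/-- `C_M(A')`, `A' = W_p` -/
def FF (V : Subgroup G) (p q : G) (M : Type v) [AddCommGroup M] [DistribMulAction (centralizer ({q} : Set G)) M] :
    AddSubgroup M where
  carrier := {v | ∀ a : centralizer ({q} : Set G), (a : G) ∈ ws V p → a • v = v}
  add_mem' := by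
    intro x y hx hy a ha
    rw [smul_add, hx a ha, hy a ha]
  zero_mem' := fun a _ => smul_zero a
  neg_mem' := by
    intro x hx a ha
    rw [smul_neg, hx a ha]

theorem mem_FF {V : Subgroup G} {p q : G} {M : Type v} [AddCommGroup M]
    [DistribMulAction (centralizer ({q} : Set G)) M] {v : M} :
    v ∈ FF V p q M ↔ ∀ a : centralizer ({q} : Set G), (a : G) ∈ ws V p → a • v = v := Iff.rfl

/-- the setting at `q = y (m+3)`, `p = y 0` : `[W_p, W_q] = {1, r}`, `B ≤ M_q` -/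
structure Cnt (T V : Subgroup G) (z : G) (m : ℕ) (y : ℕ → G) (r : G) (M : Type v) [AddCommGroup M]
    [DistribMulAction (centralizer ({y (m + 3)} : Set G)) M] (π : G → M) (B : AddSubgroup M) : Prop where
  fr : Fr T V z
  no : NoOver (NO3S.TwoFar.inc (V := V)) NO3S.TwoFar.RR NO3S.TwoFar.WS NO3S.TwoFar.VL
  gg : GG V (m + 3) y
  md : Md V (y (m + 3)) π
  two : Two V (y 0) (y (m + 3)) r
  /-- `M_q = B + C(A')` -/
  sup : B ⊔ FF V (y 0) (y (m + 3)) M = ⊤
  /-- the stabiliser of `r` normalises `B` -/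
  stab : ∀ c : centralizer ({y (m + 3)} : Set G), c • π r = π r → ∀ b ∈ B, c • b ∈ B

namespace Cnt

theorem hp (s : Cnt T V z m y r M π B) : Col V (y 0) (y 0) := (s.gg.path 0 (by omega)).left

theorem hrq (s : Cnt T V z m y r M π B) : Col V (y (m + 2)) (y (m + 3)) :=
  s.gg.path (m + 2) (show m + 2 < m + 3 by omega)

theorem hq (s : Cnt T V z m y r M π B) : Col V (y (m + 3)) (y (m + 3)) := s.hrq.right

theorem hpr (s : Cnt T V z m y r M π B) : Pth V (m + 2) (y 0) (y (m + 2)) := by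
  have h1 : m + 2 ≤ m + 3 := by omega
  have h2 : 0 < m + 3 := by omega
  exact s.gg.pth (i := 0) (j := m + 2) (Nat.zero_le _) h1 h2

variable [Finite G] (s : Cnt T V z m y r M π B)
include s

theorem ex : Exact V (y 0) (y (m + 3)) := s.gg.exact s.fr s.no

theorem wp_le : ws V (y 0) ≤ centralizer ({y (m + 3)} : Set G) := s.gg.cr.cent s.fr

theorem wq_le : ws V (y (m + 3)) ≤ centralizer ({y 0} : Set G) := s.gg.cr.symm.cent s.fr

theorem mem_FF_iff {f : G} (hf : f ∈ ws V (y (m + 3))) :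
    π f ∈ FF V (y 0) (y (m + 3)) M ↔ f ∈ ee V (y (m + 3)) (y 0) := by
  rw [mem_FF, mem_ee]
  constructor
  · intro h
    refine ⟨hf, fun b hb => (mem_ee.1 (s.ex.cent' f hf fun w hw => ?_)).2 b hb⟩
    have h1 := h ⟨w, s.wp_le hw⟩ hw
    rw [← s.md.smul ⟨w, s.wp_le hw⟩ f hf, s.md.eq_iff s.fr s.hq (conj_mem_ws_of_mem (s.wp_le hw) hf) hf] at h1
    rw [mem_zpowers_iff_of_mul_self (s.fr.pt_sq s.hq)]
    rcases h1 with e | e
    · left
      change w * f * w⁻¹ = f at e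
      rw [e, mul_inv_cancel]
    · right
      change w * f * w⁻¹ = y (m + 3) * f at e
      rw [e, mul_inv_cancel_right]
  · rintro ⟨-, h⟩ a ha
    rw [← s.md.smul a f hf]
    congr 1
    exact NO3S.Dual.conj_eq_of_comm (h _ ha).symm

theorem not_le : ¬ B ≤ FF V (y 0) (y (m + 3)) M := by
  intro hle
  have h1 := s.sup
  rw [sup_eq_right.2 hle] at h1
  apply s.gg.cr.ne
  intro a ha b hb
  have h2 : π b ∈ FF V (y 0) (y (m + 3)) M := by rw [h1]; trivial
  exact ((mem_ee.1 ((s.mem_FF_iff hb).1 h2)).2 a ha).symm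

/-- some `f ∈ W_q - E'` lies over `B` -/
theorem exists_f : ∃ f ∈ ws V (y (m + 3)), π f ∈ B ∧ f ∉ ee V (y (m + 3)) (y 0) := by
  obtain ⟨b, hb, hbF⟩ := SetLike.not_le_iff_exists.1 s.not_le
  obtain ⟨f, hf, rfl⟩ := s.md.surj b
  exact ⟨f, hf, hb, fun h => hbF ((s.mem_FF_iff hf).2 h)⟩

omit s in
theorem finite_M (md : Md V (y (m + 3)) π) : Finite M := by
  refine Finite.of_surjective (fun a : ws V (y (m + 3)) => π a) fun v => ?_
  obtain ⟨a, ha, e⟩ := md.surj v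
  exact ⟨⟨a, ha⟩, e⟩

/-- `2 |C_B(A')| ≤ |B|` -/
theorem card_Q : 2 * Nat.card ((FF V (y 0) (y (m + 3)) M).addSubgroupOf B) ≤ Nat.card B := by
  have := finite_M s.md
  have h1 := AddSubgroup.card_mul_index ((FF V (y 0) (y (m + 3)) M).addSubgroupOf B)
  have h2 : ((FF V (y 0) (y (m + 3)) M).addSubgroupOf B).index ≠ 1 := by
    intro h
    rw [AddSubgroup.index_eq_one, AddSubgroup.addSubgroupOf_eq_top] at h
    exact s.not_le h
  have h3 : ((FF V (y 0) (y (m + 3)) M).addSubgroupOf B).index ≠ 0 := AddSubgroup.index_ne_zero_of_finite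
  have h4 : 2 ≤ ((FF V (y 0) (y (m + 3)) M).addSubgroupOf B).index := by omega
  rw [← h1, mul_comm]
  exact Nat.mul_le_mul_left _ h4

/-- `x ∼ p`, `w ∈ C_{W_x}(q)` fixes `r` -/
theorem fix_r {x w : G} (hx : Col V (y 0) x) (hw : w ∈ ws V x) (hwq : w ∈ centralizer ({y (m + 3)} : Set G)) :
    (⟨w, hwq⟩ : centralizer ({y (m + 3)} : Set G)) • π r = π r := by
  -- `r = [a, b]`
  obtain ⟨a, ha, b, hb, hab⟩ : ∃ a ∈ ws V (y 0), ∃ b ∈ ws V (y (m + 3)), a * b * a⁻¹ * b⁻¹ ≠ 1 := by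
    by_contra hcon
    push Not at hcon
    exact s.gg.cr.ne fun a ha b hb => SecOne.comm_of_comm_eq_one (hcon a ha b hb)
  have hr : a * b * a⁻¹ * b⁻¹ = r := (s.two a ha b hb).resolve_left hab
  have hrw : r ∈ ws V (y (m + 3)) := by
    rw [← hr]
    exact s.gg.cr.comm_mem_right s.fr ha hb
  rw [← s.md.smul ⟨w, hwq⟩ r hrw]
  congr 1
  change w * r * w⁻¹ = r
  have hwa : w * a * w⁻¹ = a :=
    NO3S.Dual.conj_eq_of_comm (s.gg.cr.min 1 (by omega) x (y 0) (Pth.of_col hx.symm) w hw a ha)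
  have h1 : w * r * w⁻¹ = a * (w * b * w⁻¹) * a⁻¹ * (w * b * w⁻¹)⁻¹ := by
    rw [← hr]
    calc w * (a * b * a⁻¹ * b⁻¹) * w⁻¹ = (w * a * w⁻¹) * (w * b * w⁻¹) * (w * a * w⁻¹)⁻¹ * (w * b * w⁻¹)⁻¹ := by
          group
      _ = a * (w * b * w⁻¹) * a⁻¹ * (w * b * w⁻¹)⁻¹ := by rw [hwa]
  rcases s.two a ha (w * b * w⁻¹) (conj_mem_ws_of_mem hwq hb) with e | e
  · exfalso
    rw [← h1] at e
    rw [← hr] at e
    exact hab (conj_eq_one_iff.1 e)
  · rw [h1, e]

/-- the commutators `[w, f]` -/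
theorem comm_mem {x w f : G} (hx : Col V (y 0) x) (hw : w ∈ ws V x)
    (hwq : w ∈ centralizer ({y (m + 3)} : Set G)) (hf : f ∈ ws V (y (m + 3))) (hfB : π f ∈ B) :
    w * f * w⁻¹ * f⁻¹ ∈ ws V (y (m + 3)) ∧ w * f * w⁻¹ * f⁻¹ ∈ Up V (y 0) ∧
      π (w * f * w⁻¹ * f⁻¹) ∈ B ∧ π (w * f * w⁻¹ * f⁻¹) ∈ FF V (y 0) (y (m + 3)) M := by
  have h1 : w * f * w⁻¹ ∈ ws V (y (m + 3)) := conj_mem_ws_of_mem hwq hf
  have h2 : w * f * w⁻¹ * f⁻¹ ∈ ws V (y (m + 3)) := mul_mem h1 (inv_mem hf)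
  have h3 : w * f * w⁻¹ * f⁻¹ ∈ Up V (y 0) := by
    have e : w * f * w⁻¹ * f⁻¹ = w * (f * w⁻¹ * f⁻¹) := by group
    rw [e]
    exact mul_mem (ws_le_Up hx hw) (conj_mem_Up (s.wq_le hf) (ws_le_Up hx (inv_mem hw)))
  refine ⟨h2, h3, ?_, ?_⟩
  · have hff : f⁻¹ = f := inv_eq_of_mul_eq_one_left (s.fr.ws_sq s.hq f hf)
    rw [hff, s.md.map_mul _ h1 _ hf]
    refine add_mem ?_ hfB
    have h4 := s.stab ⟨w, hwq⟩ (s.fix_r hx hw hwq) _ hfB
    rwa [← s.md.smul ⟨w, hwq⟩ f hf] at h4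
  · intro a ha
    rw [← s.md.smul a _ h2]
    congr 1
    exact NO3S.Dual.conj_eq_of_comm (Up_comm s.gg.cr.min _ (ws_le_Up s.hp ha) _ h3)

/-- the set of the commutators -/
def Sc (V : Subgroup G) (m : ℕ) (y : ℕ → G) {M : Type v} [AddCommGroup M]
    [DistribMulAction (centralizer ({y (m + 3)} : Set G)) M] (π : G → M) (B : AddSubgroup M) : Set G :=
  {c : G | c ∈ ws V (y (m + 3)) ∧ c ∈ Up V (y 0) ∧ π c ∈ B ∧ π c ∈ FF V (y 0) (y (m + 3)) M}

/-- `q ∉ U_p` -/
theorem card_le (hq : y (m + 3) ∉ Up V (y 0)) :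
    Nat.card (Sc V m y π B) ≤ Nat.card ((FF V (y 0) (y (m + 3)) M).addSubgroupOf B) := by
  have := finite_M s.md
  refine Nat.card_le_card_of_injective (fun c : Sc V m y π B => (⟨⟨π c.1, c.2.2.2.1⟩, c.2.2.2.2⟩ :
    (FF V (y 0) (y (m + 3)) M).addSubgroupOf B)) ?_
  rintro ⟨a, ha1, ha2, ha3, ha4⟩ ⟨b, hb1, hb2, hb3, hb4⟩ hab
  have h1 : π a = π b := congrArg (fun x => ((x : B) : M)) (congrArg Subtype.val hab)
  refine Subtype.ext ?_
  rcases (s.md.eq_iff s.fr s.hq ha1 hb1).1 h1 with e | e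
  · exact e
  · exfalso
    apply hq
    have e2 : y (m + 3) = a * b⁻¹ := by rw [e, mul_inv_cancel_right]
    rw [e2]
    exact mul_mem ha2 (inv_mem hb2)

/-- in general -/
theorem card_le' :
    Nat.card (Sc V m y π B) ≤ 2 * Nat.card ((FF V (y 0) (y (m + 3)) M).addSubgroupOf B) := by
  classical
  have := finite_M s.md
  choose g hg1 hg2 using s.md.surj
  have h2 : 2 * Nat.card ((FF V (y 0) (y (m + 3)) M).addSubgroupOf B) =
      Nat.card (Bool × (FF V (y 0) (y (m + 3)) M).addSubgroupOf B) := by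
    rw [Nat.card_prod]
    simp
  rw [h2]
  refine Nat.card_le_card_of_injective (fun c : Sc V m y π B =>
    (decide (c.1 = g (π c.1)), (⟨⟨π c.1, c.2.2.2.1⟩, c.2.2.2.2⟩ :
      (FF V (y 0) (y (m + 3)) M).addSubgroupOf B))) ?_
  rintro ⟨a, ha1, ha2, ha3, ha4⟩ ⟨b, hb1, hb2, hb3, hb4⟩ hab
  obtain ⟨hab1, hab2⟩ := Prod.ext_iff.1 hab
  have h1 : π a = π b := congrArg (fun x => ((x : B) : M)) (congrArg Subtype.val hab2)
  have h3 : (a = g (π a)) ↔ (b = g (π b)) := by simpa using hab1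
  refine Subtype.ext ?_
  change a = b
  rw [← h1] at h3
  by_cases h4 : a = g (π a)
  · exact h4.trans (h3.1 h4).symm
  · have h5 : b ≠ g (π a) := fun h => h4 (h3.2 h)
    have h6 := hg2 (π a)
    have h7 := hg1 (π a)
    rcases (s.md.eq_iff s.fr s.hq ha1 h7).1 h6.symm with e | e
    · exact absurd e h4
    · rcases (s.md.eq_iff s.fr s.hq hb1 h7).1 (h1.symm.trans h6.symm) with e' | e'
      · exact absurd e' h5
      · rw [e, e']

/-- **section 5** : no such pair -/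
theorem false (hcard : Nat.card B ≤ (ii V).relIndex (ws V z))
    (hmv : ∀ f ∈ ws V (y (m + 3)), f ∉ ee V (y (m + 3)) (y 0) → ∃ x, Mv V (m + 3) y x f ∧ DD V (y 0) x f)
    (hch : ∀ x f, Child V m y x f → ∃ r', Two V x (y (m + 2)) r') : False := by
  obtain ⟨f, hf, hfB, hfE⟩ := s.exists_f
  obtain ⟨x, mv, hD⟩ := hmv f hf hfE
  have hr : Pth V (m + 3 - 1) (y 0) (y (m + 2)) := s.hpr
  obtain ⟨h1, h2⟩ := SecOne.lemM s.fr (by omega) s.no s.gg.cr hr s.hrq mv.col.symm hf mv.mv hD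
  have := finite_M s.md
  have hB0 : 0 < Nat.card B := Nat.card_pos
  have hqr : y (m + 3) ∈ ws V (y (m + 2)) := s.fr.mem_ws_of_col s.hrq
  -- `|W_x : C_{W_x}(q)| ≤ 2`
  have h3 : (ws V x ⊓ centralizer ({y (m + 3)} : Set G)).relIndex (ws V x) ≤ 2 := by
    rcases h2 with h2 | ⟨h2, -⟩
    · obtain ⟨r', hr'⟩ := hch x f ⟨gg_of_goal s.gg h2, mv, hD⟩
      exact relIndex_le_two hr' hqr
    · have e : ws V x ⊓ centralizer ({y (m + 3)} : Set G) = ws V x := by
        rw [inf_eq_left]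
        intro w hw
        rw [mem_centralizer_singleton_iff]
        exact h2 w hw _ hqr
      rw [e, relIndex_self]
      omega
  have hQ := s.card_Q
  set W0 := ws V x ⊓ centralizer ({y (m + 3)} : Set G) with hW0
  -- `|W_x : C_{W_x}(f)| ≤ |B|`
  have h4 : (ws V x ⊓ centralizer ({f} : Set G)).relIndex (ws V x) ≤ Nat.card B := by
    by_cases hq : y (m + 3) ∈ Up V (y 0)
    · have hle : ∀ w ∈ ws V x, w ∈ centralizer ({y (m + 3)} : Set G) := by
        intro w hw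
        rw [mem_centralizer_singleton_iff]
        exact Up_comm s.gg.cr.min w (ws_le_Up mv.col hw) _ hq
      have h5 := relIndex_le_card (W := ws V x) (f := f) (S := Sc V m y π B)
        fun w hw => s.comm_mem mv.col hw (hle w hw) hf hfB
      exact (h5.trans s.card_le').trans hQ
    · have h5 := relIndex_le_card (W := W0) (f := f) (S := Sc V m y π B)
        fun w hw => s.comm_mem mv.col hw.1 hw.2 hf hfB
      have h6 := h5.trans (s.card_le hq)
      have h7 : (W0 ⊓ centralizer ({f} : Set G)).relIndex (ws V x) =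
          (W0 ⊓ centralizer ({f} : Set G)).relIndex W0 * W0.relIndex (ws V x) :=
        (relIndex_mul_relIndex _ _ _ inf_le_left inf_le_left).symm
      have h8 : (ws V x ⊓ centralizer ({f} : Set G)).relIndex (ws V x) ≤
          (W0 ⊓ centralizer ({f} : Set G)).relIndex (ws V x) :=
        relIndex_le_of_le_left (inf_le_inf_right _ inf_le_left) index_ne_zero_of_finite
      calc (ws V x ⊓ centralizer ({f} : Set G)).relIndex (ws V x)
          ≤ (W0 ⊓ centralizer ({f} : Set G)).relIndex W0 * W0.relIndex (ws V x) := h7 ▸ h8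
        _ ≤ Nat.card ((FF V (y 0) (y (m + 3)) M).addSubgroupOf B) * 2 := Nat.mul_le_mul h6 h3
        _ = 2 * Nat.card ((FF V (y 0) (y (m + 3)) M).addSubgroupOf B) := mul_comm _ _
        _ ≤ Nat.card B := hQ
  have h9 : 0 < (ii V).relIndex (ws V z) := hB0.trans_le hcard
  omega

end Cnt

end main

end Cfsg.Agent.Omega.NOThree.LL
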