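import Cfsg.Agent.Omega.NOThree.LL.RedMd
import Cfsg.Agent.Omega.NOThree.LL.Count

/-!
# TwoFar, THEOREM LL (#18157), section 4 for a GOAL pair

`y` a geodesic of a GOAL pair, no `[a, b]`, `a ∈ W_{y 0}`, `b ∈ W_{y (m+3)}`, is a point collinear with `y 0`;
a transvection of `M_{y 0}` with centre `c ∈ U_λ`, not a line vector.

* `GG.two` : `[W_p, W_q] = {1, r}`;
* `block_of_bd` : the blocks of `M_p`.
-/

set_option autoImplicit false
set_option linter.unusedSectionVars false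

namespace Cfsg.Agent.Omega.NOThree.LL

open Subgroup Cfsg Cfsg.Agent.ZN Cfsg.Agent.MinSimple.Geo Cfsg.Agent.Omega.CaseL Cfsg.Agent.Omega.NO3S.TwoOne
open Cfsg.Agent.Omega.NO3S.Pt
open Cfsg.Agent.Omega.NOThree.TF (Md conj_mem_ws_of_mem exists_T)

universe u v

variable {G : Type u} [Group G] {T V : Subgroup G} {z : G}

section bil

variable {n : ℕ} {p q : G}

/-- the commutator is multiplicative in the first variable -/
theorem Cr.comm_mul_left [Finite G] (h : Fr T V z) (hc : Cr V (n + 1) p q) {a a' b : G} (ha : a ∈ ws V p)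
    (ha' : a' ∈ ws V p) (hb : b ∈ ws V q) :
    a * a' * b * (a * a')⁻¹ * b⁻¹ = (a * b * a⁻¹ * b⁻¹) * (a' * b * a'⁻¹ * b⁻¹) := by
  have h1 := hc.comm_mem_left h ha' hb
  have hp : Col V p p := hc.path.left
  have e1 : a * a' * b * (a * a')⁻¹ * b⁻¹ = a * (a' * b * a'⁻¹ * b⁻¹) * a⁻¹ * (a * b * a⁻¹ * b⁻¹) := by group
  have e2 : a * (a' * b * a'⁻¹ * b⁻¹) * a⁻¹ = a' * b * a'⁻¹ * b⁻¹ := by
    rw [h.ws_comm hp a ha _ h1, mul_inv_cancel_right]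
  rw [e1, e2]
  exact h.ws_comm hp _ h1 _ (hc.comm_mem_left h ha hb)

/-- the commutator is multiplicative in the second variable -/
theorem Cr.comm_mul_right [Finite G] (h : Fr T V z) (hc : Cr V (n + 1) p q) {a b b' : G} (ha : a ∈ ws V p)
    (hb : b ∈ ws V q) (hb' : b' ∈ ws V q) :
    a * (b * b') * a⁻¹ * (b * b')⁻¹ = (a * b * a⁻¹ * b⁻¹) * (a * b' * a⁻¹ * b'⁻¹) := by
  have h1 := hc.comm_mem_right h ha hb'
  have hq : Col V q q := hc.path.right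
  have e1 : a * (b * b') * a⁻¹ * (b * b')⁻¹ = (a * b * a⁻¹ * b⁻¹) * (b * (a * b' * a⁻¹ * b'⁻¹) * b⁻¹) := by group
  have e2 : b * (a * b' * a⁻¹ * b'⁻¹) * b⁻¹ = a * b' * a⁻¹ * b'⁻¹ := by
    rw [h.ws_comm hq b hb _ h1, mul_inv_cancel_right]
  rw [e1, e2]

/-- a biadditive map with values in `{0, c, c + l}` has values in `{0, c}` or in `{0, c + l}` -/
theorem bil_aux {M : Type*} [AddCommGroup M] (hs : ∀ m : M, m + m = 0) {c l x x' u v : M} (hl : l ≠ 0) (hc : c ≠ 0)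
    (hcl : c ≠ l) (hx0 : x ≠ 0) (hx0' : x' ≠ 0) (hx : x = 0 ∨ x = c ∨ x = c + l) (hx' : x' = 0 ∨ x' = c ∨ x' = c + l)
    (hu : u = 0 ∨ u = c ∨ u = c + l) (hv : v = 0 ∨ v = c ∨ v = c + l)
    (h1 : x + u = 0 ∨ x + u = c ∨ x + u = c + l) (h2 : v + x' = 0 ∨ v + x' = c ∨ v + x' = c + l)
    (h3 : x + v = 0 ∨ x + v = c ∨ x + v = c + l) (h4 : u + x' = 0 ∨ u + x' = c ∨ u + x' = c + l)
    (h5 : x + u + (v + x') = 0 ∨ x + u + (v + x') = c ∨ x + u + (v + x') = c + l) : x' = x := by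
  have hn : ¬ (l = 0 ∨ l = c ∨ l = c + l) := by
    rintro (e | e | e)
    · exact hl e
    · exact hcl e.symm
    · exact hc (right_eq_add.1 e)
  have e1 : c + (c + l) = l := by rw [← add_assoc, hs, zero_add]
  have e2 : c + l + c = l := by rw [add_comm, e1]
  have key : ∀ x x' : M, x + x' = l → (x = c ∧ x' = c + l) ∨ (x = c + l ∧ x' = c) →
      ∀ u : M, (u = 0 ∨ u = c ∨ u = c + l) → (x + u = 0 ∨ x + u = c ∨ x + u = c + l) →
      (u + x' = 0 ∨ u + x' = c ∨ u + x' = c + l) → u = 0 := by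
    rintro x x' - (⟨rfl, rfl⟩ | ⟨rfl, rfl⟩) u (rfl | rfl | rfl) h1 h2
    · rfl
    · rw [e1] at h2; exact absurd h2 hn
    · rw [e1] at h1; exact absurd h1 hn
    · rfl
    · rw [e2] at h1; exact absurd h1 hn
    · rw [e2] at h2; exact absurd h2 hn
  have fin : ∀ x x' : M, x + x' = l → (x = c ∧ x' = c + l) ∨ (x = c + l ∧ x' = c) →
      (x + u = 0 ∨ x + u = c ∨ x + u = c + l) → (v + x' = 0 ∨ v + x' = c ∨ v + x' = c + l) →
      (x + v = 0 ∨ x + v = c ∨ x + v = c + l) → (u + x' = 0 ∨ u + x' = c ∨ u + x' = c + l) →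
      (x + u + (v + x') = 0 ∨ x + u + (v + x') = c ∨ x + u + (v + x') = c + l) → False := by
    intro x x' hxx hc h1 h2 h3 h4 h5
    have k1 := key x x' hxx hc u hu h1 h4
    have k2 := key x x' hxx hc v hv h3 h2
    rw [k1, k2, add_zero, zero_add, hxx] at h5
    exact hn h5
  rcases hx with rfl | rfl | rfl
  · exact absurd rfl hx0
  · rcases hx' with rfl | rfl | rfl
    · exact absurd rfl hx0'
    · rfl
    · exact (fin _ _ e1 (Or.inl ⟨rfl, rfl⟩) h1 h2 h3 h4 h5).elim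
  · rcases hx' with rfl | rfl | rfl
    · exact absurd rfl hx0'
    · exact (fin _ _ e2 (Or.inr ⟨rfl, rfl⟩) h1 h2 h3 h4 h5).elim
    · rfl

end bil

section main

variable {m : ℕ} {y : ℕ → G} {M : Type v} [AddCommGroup M] [DistribMulAction (centralizer ({y 0} : Set G)) M]
  {π : G → M} {g : G} {U : AddSubgroup M} {c : M}

/-- `W_q` acts on `M_p` as `x ↦ x + π [a, b]` -/
theorem GG.smul_add [Finite G] (h : Fr T V z) (md : Md V (y 0) π) (gg : GG V (m + 3) y) {a b : G}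
    (ha : a ∈ ws V (y 0)) (hb : b ∈ ws V (y (m + 3))) :
    (⟨b, gg.cr.symm.cent h hb⟩ : centralizer ({y 0} : Set G)) • π a + π a = π (a * b * a⁻¹ * b⁻¹) := by
  have hp : Col V (y 0) (y 0) := gg.cr.path.left
  have hbc : b ∈ centralizer ({y 0} : Set G) := gg.cr.symm.cent h hb
  have h1 : b * a * b⁻¹ ∈ ws V (y 0) := conj_mem_ws_of_mem hbc ha
  have h2 := gg.cr.comm_mem_left h ha hb
  rw [← md.smul ⟨b, hbc⟩ a ha, ← md.map_mul _ h1 _ ha]
  congr 1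
  have e1 : (a * b * a⁻¹ * b⁻¹)⁻¹ = a * b * a⁻¹ * b⁻¹ := inv_eq_of_mul_eq_one_left (h.ws_sq hp _ h2)
  have e2 : a⁻¹ = a := inv_eq_of_mul_eq_one_left (h.ws_sq hp a ha)
  change b * a * b⁻¹ * a = _
  rw [← e1]
  nth_rewrite 2 [← e2]
  group

/-- `[W_p, W_q] ≤ I_l` -/
theorem GG.comm_mem_ii [Finite G] (h : Fr T V z) (gg : GG V (m + 3) y) (hg : y 0 ∈ cj g V) (hg' : y 1 ∈ cj g V)
    {a b : G} (ha : a ∈ ws V (y 0)) (hb : b ∈ ws V (y (m + 3))) : a * b * a⁻¹ * b⁻¹ ∈ ii (cj g V) :=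
  h.mem_ii_cj hg gg.cr.path.left.ne_one hg' gg.col0.symm.ne_one (gg.ne_succ (i := 0) (by omega)).symm
    (gg.cr.comm_mem_left h ha hb) (gg.le a ha b hb)

/-- **|[W_p, W_q]| = 2** -/
theorem GG.two [Finite G] (h : Fr T V z) (md : Md V (y 0) π) (gg : GG V (m + 3) y) (hg : y 0 ∈ cj g V)
    (hg' : y 1 ∈ cj g V) (hU : ∀ m, m ∈ U ↔ ∃ a ∈ ii (cj g V), π a = m)
    (b : BD (centralizer ({y 0} : Set G)) (π (y 1)) U c)
    (free : ∀ a ∈ ws V (y 0), ∀ b ∈ ws V (y (m + 3)), ¬ Col V (y 0) (a * b * a⁻¹ * b⁻¹)) :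
    ∃ r, Two V (y 0) (y (m + 3)) r := by
  have hp : Col V (y 0) (y 0) := gg.cr.path.left
  have hp1 := hp.ne_one
  have hq1 : y 1 ≠ 1 := gg.col0.symm.ne_one
  have hne : y 1 ≠ y 0 := (gg.ne_succ (i := 0) (by omega)).symm
  have hfin := finite_Md md
  have hs := b.two
  have hcom : NO3S.Pt.Com V (y 1) (y (m + 3)) := gg.com (i := 1) (j := m + 3) (by omega) le_rfl (by omega) (by omega)
  -- the values
  have hval : ∀ a ∈ ws V (y 0), ∀ b' ∈ ws V (y (m + 3)), π (a * b' * a⁻¹ * b'⁻¹) = 0 ∨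
      π (a * b' * a⁻¹ * b'⁻¹) = c ∨ π (a * b' * a⁻¹ * b'⁻¹) = c + π (y 1) := by
    intro a ha b' hb'
    have h1 := b.comm_mem (g := ⟨b', gg.cr.symm.cent h hb'⟩)
      (fun u hu => md.fix_U h hg hg' hq1 hU hcom hb' hp1 hu) (fun w => by
        obtain ⟨a', ha', rfl⟩ := md.surj w
        rw [gg.smul_add h md ha' hb', hU]
        exact ⟨_, gg.comm_mem_ii h hg hg' ha' hb', rfl⟩) (π a)
    rw [gg.smul_add h md ha hb'] at h1
    rcases h1 with h1 | h1 | h1 | h1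
    · exact Or.inl h1
    · exact Or.inr (Or.inl h1)
    · exact Or.inr (Or.inr h1)
    · exfalso
      have hy1 : y 1 ∈ ws V (y 0) := h.mem_ws_of_col gg.col0
      rcases (md.eq_iff h hp (gg.cr.comm_mem_left h ha hb') hy1).1 h1 with e | e
      · exact free a ha b' hb' (by rw [e]; exact gg.col0)
      · refine free a ha b' hb' (Col.of_mem hg ?_ hp1 ?_)
        · rw [e]; exact mul_mem hg hg'
        · rw [e]
          intro e'
          apply hne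
          calc y 1 = y 0 * y 0 * y 1 := by rw [h.pt_sq hp, one_mul]
            _ = y 0 := by rw [mul_assoc, e', mul_one]
  -- `p ∉ R`
  have hp_not : ∀ a ∈ ws V (y 0), ∀ b' ∈ ws V (y (m + 3)), π (a * b' * a⁻¹ * b'⁻¹) = 0 →
      a * b' * a⁻¹ * b'⁻¹ = 1 := by
    intro a ha b' hb' e
    rcases (md.ker _ (gg.cr.comm_mem_left h ha hb')).1 e with e' | e'
    · exact e'
    · exfalso
      apply gg.not_mem
      rw [← e']
      exact gg.cr.comm_mem_right h ha hb'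
  by_cases hall : ∀ a ∈ ws V (y 0), ∀ b' ∈ ws V (y (m + 3)), π (a * b' * a⁻¹ * b'⁻¹) = 0
  · exact ⟨1, fun a ha b' hb' => Or.inl (hp_not a ha b' hb' (hall a ha b' hb'))⟩
  push Not at hall
  obtain ⟨a₁, ha₁, b₁, hb₁, h0⟩ := hall
  refine ⟨a₁ * b₁ * a₁⁻¹ * b₁⁻¹, fun a₂ ha₂ b₂ hb₂ => ?_⟩
  by_cases h0' : π (a₂ * b₂ * a₂⁻¹ * b₂⁻¹) = 0
  · exact Or.inl (hp_not _ ha₂ _ hb₂ h0')
  right
  have hlam : π (y 1) ≠ 0 := md.pt_ne_zero h gg.col0 hne
  -- the values at `(a₁, b₁)` and `(a₂, b₂)` agree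
  have key : π (a₂ * b₂ * a₂⁻¹ * b₂⁻¹) = π (a₁ * b₁ * a₁⁻¹ * b₁⁻¹) := by
    have hl1 := fun {a a' b : G} (ha : a ∈ ws V (y 0)) (ha' : a' ∈ ws V (y 0)) (hb : b ∈ ws V (y (m + 3))) =>
      (congrArg π (Cr.comm_mul_left h gg.cr ha ha' hb)).trans
        (md.map_mul _ (gg.cr.comm_mem_left h ha hb) _ (gg.cr.comm_mem_left h ha' hb))
    have hr1 := fun {a b b' : G} (ha : a ∈ ws V (y 0)) (hb : b ∈ ws V (y (m + 3))) (hb' : b' ∈ ws V (y (m + 3))) =>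
      (congrArg π (Cr.comm_mul_right h gg.cr ha hb hb')).trans
        (md.map_mul _ (gg.cr.comm_mem_left h ha hb) _ (gg.cr.comm_mem_left h ha hb'))
    have v12 := hval _ ha₁ _ hb₂
    have v21 := hval _ ha₂ _ hb₁
    have w1 := hval _ ha₁ _ (mul_mem hb₁ hb₂)
    have w2 := hval _ ha₂ _ (mul_mem hb₁ hb₂)
    have w3 := hval _ (mul_mem ha₁ ha₂) _ hb₁
    have w4 := hval _ (mul_mem ha₁ ha₂) _ hb₂
    have w5 := hval _ (mul_mem ha₁ ha₂) _ (mul_mem hb₁ hb₂)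
    have v11 := hval _ ha₁ _ hb₁
    have v22 := hval _ ha₂ _ hb₂
    rw [hl1 ha₁ ha₂ (mul_mem hb₁ hb₂), hr1 ha₁ hb₁ hb₂, hr1 ha₂ hb₁ hb₂] at w5
    rw [hr1 ha₁ hb₁ hb₂] at w1
    rw [hr1 ha₂ hb₁ hb₂] at w2
    rw [hl1 ha₁ ha₂ hb₁] at w3
    rw [hl1 ha₁ ha₂ hb₂] at w4
    exact bil_aux hs hlam b.c0 (fun e => b.cl 1 (by rw [one_smul, e])) h0 h0' v11 v22 v12 v21 w1 w2 w3 w4 w5
  rcases (md.eq_iff h hp (gg.cr.comm_mem_left h ha₂ hb₂) (gg.cr.comm_mem_left h ha₁ hb₁)).1 key with e | e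
  · exact e
  · exfalso
    apply gg.not_mem
    have e' : y 0 = a₂ * b₂ * a₂⁻¹ * b₂⁻¹ * (a₁ * b₁ * a₁⁻¹ * b₁⁻¹)⁻¹ := by rw [e, mul_inv_cancel_right]
    rw [e']
    exact mul_mem (gg.cr.comm_mem_right h ha₂ hb₂) (inv_mem (gg.cr.comm_mem_right h ha₁ hb₁))

/-- **the blocks** -/
theorem block_of_bd [Finite G] {p p₁ : G} {M : Type v} [AddCommGroup M]
    [DistribMulAction (centralizer ({p} : Set G)) M] {π : G → M} {U : AddSubgroup M} {c : M} (h : Fr T V z)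
    (md : Md V p π) (hp : p ∈ cj g V) (hp1 : p ≠ 1) (hU : ∀ m, m ∈ U ↔ ∃ a ∈ ii (cj g V), π a = m)
    (b : BD (centralizer ({p} : Set G)) (π p₁) U c) {r : M} {t : centralizer ({p} : Set G)}
    (ht : ∃ v : M, t • v ≠ v) (ht' : ∀ v : M, t • v = v ∨ t • v = v + r) :
    ∃ B : AddSubgroup M, (∀ c : centralizer ({p} : Set G), c • r = r → ∀ b ∈ B, c • b ∈ B) ∧
      Nat.card B ≤ (ii V).relIndex (ws V z) ∧
      ∀ v : M, ∃ v₁ ∈ B, ∃ v₂, v = v₁ + v₂ ∧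
        ∀ s : centralizer ({p} : Set G), (∀ v : M, s • v = v ∨ s • v = v + r) → s • v₂ = v₂ := by
  have := finite_Md md
  obtain ⟨-, B, -, -, h1, h2, h3⟩ := b.exists_block ⟨ht', ht⟩
  refine ⟨B, h1, ?_, h3⟩
  rw [← md.index_U h hp hp1 hU]
  have h4 := U.card_mul_index
  rw [← h4, mul_comm] at h2
  exact Nat.le_of_mul_le_mul_left h2 Nat.card_pos

end main

end Cfsg.Agent.Omega.NOThree.LL
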