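import Cfsg.Agent.Omega.NOThree.LL.Bridge
import Cfsg.Agent.Omega.NOThree.LL.CountB

/-!
# TwoFar, THEOREM LL (#18157), section 4 for the pairs of `no_gr`

* `TrAt V y` : some element of `W_q` induces on `M_p` a transvection with centre `c ∈ U_λ`, `c` not a line vector
  (the output of THEOREM ONE);
* `blockAt_of_tr`, `two_of_tr`.
-/

set_option autoImplicit false
set_option linter.unusedSectionVars false

namespace Cfsg.Agent.Omega.NOThree.LL

open Subgroup Cfsg Cfsg.Agent.ZN Cfsg.Agent.MinSimple.Geo Cfsg.Agent.Omega.CaseL Cfsg.Agent.Omega.NO3S.TwoOne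
open Cfsg.Agent.Omega.NO3S.Pt
open Cfsg.Agent.Omega.NOThree.TF (Md conj_mem_ws_of_mem MM pim md_MM)

universe u

variable {G : Type u} [Group G] {T V : Subgroup G} {z : G} {m : ℕ} {y : ℕ → G}

/-- the output of THEOREM ONE at `p = y 0`: a transvection in the image of `W_q`, its centre `c ∈ U_λ` is not a line
vector -/
def TrAt (V : Subgroup G) (m : ℕ) (y : ℕ → G) : Prop :=
  ∃ (g : G) (t : centralizer ({y 0} : Set G)) (c : MM V (y 0)), y 0 ∈ cj g V ∧ y 1 ∈ cj g V ∧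
    (t : G) ∈ ws V (y (m + 3)) ∧ Tr c t ∧ (∃ a ∈ ii (cj g V), pim V (y 0) a = c) ∧
    ∀ k : centralizer ({y 0} : Set G), k • pim V (y 0) (y 1) ≠ c

/-- the data of section 4 -/
theorem exists_bd [Finite G] (h : Fr T V z) (gg : GG V (m + 3) y) (ht : TrAt V m y) :
    ∃ (g : G) (U : AddSubgroup (MM V (y 0))) (c : MM V (y 0)), y 0 ∈ cj g V ∧ y 1 ∈ cj g V ∧
      (∀ m, m ∈ U ↔ ∃ a ∈ ii (cj g V), pim V (y 0) a = m) ∧
      BD (centralizer ({y 0} : Set G)) (pim V (y 0) (y 1)) U c := by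
  obtain ⟨g, t, c, hp, hq, htq, htr, hc, hcl⟩ := ht
  have hpp : Col V (y 0) (y 0) := gg.cr.path.left
  have hp1 := hpp.ne_one
  have hq1 := gg.col0.symm.ne_one
  have hmd := md_MM h hpp
  obtain ⟨U, hU⟩ := TF.Md.exists_U h hmd hp hp1
  have hcom : NO3S.Pt.Com V (y 1) (y (m + 3)) := gg.com (i := 1) (j := m + 3) (by omega) le_rfl (by omega) (by omega)
  refine ⟨g, U, c, hp, hq, hU, bd_of_tr h hmd hp hp1 hq hq1 (gg.ne_succ (i := 0) (by omega)).symm hU ?_ hcl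
    ⟨t, htr, fun u hu => hmd.fix_U h hp hq hq1 hU hcom htq hp1 hu⟩⟩
  rw [hU]
  exact hc

/-- **hB** -/
theorem blockAt_of_tr [Finite G] (h : Fr T V z) (gg : GG V (m + 3) y) (ht : TrAt V m y) :
    BlockAt V z (y 0) (MM V (y 0)) := by
  obtain ⟨g, U, c, hp, -, hU, b⟩ := exists_bd h gg ht
  have hpp : Col V (y 0) (y 0) := gg.cr.path.left
  intro r _ t ht ht'
  exact block_of_bd h (md_MM h hpp) hp hpp.ne_one hU b ht ht'

/-- **hT** -/
theorem two_of_tr [Finite G] (h : Fr T V z) (gg : GG V (m + 3) y) (ht : TrAt V m y)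
    (free : ∀ a ∈ ws V (y 0), ∀ b ∈ ws V (y (m + 3)), ¬ Col V (y 0) (a * b * a⁻¹ * b⁻¹)) :
    ∃ r, Two V (y 0) (y (m + 3)) r := by
  obtain ⟨g, U, c, hp, hq, hU, b⟩ := exists_bd h gg ht
  have hpp : Col V (y 0) (y 0) := gg.cr.path.left
  exact GG.two h (md_MM h hpp) gg hp hq hU b free

end Cfsg.Agent.Omega.NOThree.LL
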