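import Cfsg.Agent.Omega.NO3S.Pt.LemD
import Cfsg.Agent.Omega.NO3S.TwoMid.Base
import Cfsg.Agent.Omega.NOThree.SecOne

/-!
# THEOREM LL (helper975 #18157): the language

`y : ℕ → G` is a geodesic `y 0, y 1, .., y n`, `n ≥ 3`.

* `GG V n y` : GOAL, `(y 0, y n)` critical of type I with `[W_{y 0}, W_{y n}] ≤ W_{y 1}`;
* `ch x y` : the path `x, y 0, y 1, ..`;
* `Mv V n y x f` : mover: `x ∼ y 0`, `f ∈ W_{y n}` moves `x` (mod `y 0`), the elements of `W_x ∩ W_{y 0}` centralised by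
  `f` lie in `W_{y 1}`;
* `Child V n y x f` : `(x, y (n-1))` is GOAL with the path `ch x y`, `(x, f)` is a mover with (D);
* `RedF`, `Term` : terminal pairs.
-/

set_option autoImplicit false
set_option linter.unusedSectionVars false

namespace Cfsg.Agent.Omega.NOThree.LL

open Subgroup Cfsg Cfsg.Agent.ZN Cfsg.Agent.MinSimple.Geo Cfsg.Agent.Omega.CaseL Cfsg.Agent.Omega.NO3S.TwoOne
open Cfsg.Agent.Omega.NO3S.Pt
open Cfsg.Agent.Omega.NO3S.TwoMid (rr comm_mem_rr rr_comm)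

universe u

variable {G : Type u} [Group G] {T V : Subgroup G} {z : G} {n m : ℕ} {y : ℕ → G} {x f : G}

/-- **GOAL** with the geodesic `y 0, .., y n` -/
structure GG (V : Subgroup G) (n : ℕ) (y : ℕ → G) : Prop where
  cr : Cr V n (y 0) (y n)
  path : ∀ i < n, Col V (y i) (y (i + 1))
  not_mem : y 0 ∉ ws V (y n)
  not_mem' : y n ∉ ws V (y 0)
  le : ∀ a ∈ ws V (y 0), ∀ b ∈ ws V (y n), a * b * a⁻¹ * b⁻¹ ∈ ws V (y 1)

/-- the path `x, y 0, y 1, ..` -/
def ch (x : G) (y : ℕ → G) : ℕ → G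
  | 0 => x
  | i + 1 => y i

@[simp] theorem ch_zero (x : G) (y : ℕ → G) : ch x y 0 = x := rfl

@[simp] theorem ch_succ (x : G) (y : ℕ → G) (i : ℕ) : ch x y (i + 1) = y i := rfl

/-- **mover** `(x, f)` of the pair `(y 0, y n)` -/
structure Mv (V : Subgroup G) (n : ℕ) (y : ℕ → G) (x f : G) : Prop where
  mem : f ∈ ws V (y n)
  col : Col V (y 0) x
  ne : x ≠ y 0
  mv : f * x * f⁻¹ ≠ x
  mv' : f * x * f⁻¹ ≠ y 0 * x
  /-- `C_{U_μ}(f) ≤ U_λ` -/
  cen : ∀ u ∈ ws V x, u ∈ ws V (y 0) → f * u = u * f → u ∈ ws V (y 1)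

/-- (D) for `(x, f)` -/
def DD (V : Subgroup G) (p x f : G) : Prop := ws V x ⊓ ws V (f * x * f⁻¹) ≤ ws V p

/-- **child** of the GOAL pair `(y 0, y n; y)`, `n = m + 3` -/
structure Child (V : Subgroup G) (m : ℕ) (y : ℕ → G) (x f : G) : Prop where
  gg : GG V (m + 3) (ch x y)
  mv : Mv V (m + 3) y x f
  low : DD V (y 0) x f

/-- **terminal**: every mover with (D) is of type (β) -/
def Term (V : Subgroup G) (m : ℕ) (y : ℕ → G) : Prop :=
  ∀ x f, Mv V (m + 3) y x f → DD V (y 0) x f → Com V x (y (m + 2))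

/-! ### paths -/

theorem pth_of_path (h : ∀ i < n, Col V (y i) (y (i + 1))) {i j : ℕ} (hij : i ≤ j) (hj : j ≤ n) (hi : i < n) :
    Pth V (j - i) (y i) (y j) := by
  induction j, hij using Nat.le_induction with
  | base => rw [Nat.sub_self]; exact .zero (h i hi).left
  | succ j hij ih =>
    have h1 := ih (by omega)
    have e : j + 1 - i = j - i + 1 := by omega
    rw [e]
    exact h1.step (h j (by omega))

namespace GG

/-- the path from `y i` to `y j` -/
theorem pth (h : GG V n y) {i j : ℕ} (hij : i ≤ j) (hj : j ≤ n) (hi : i < n) : Pth V (j - i) (y i) (y j) :=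
  pth_of_path h.path hij hj hi

theorem com (h : GG V n y) {i j : ℕ} (hij : i ≤ j) (hj : j ≤ n) (hi : i < n) (hn : j - i < n) :
    Com V (y i) (y j) := h.cr.min _ hn _ _ (h.pth hij hj hi)

theorem no_pth (h : GG V n y) {k : ℕ} (hk : k < n) : ¬ Pth V k (y 0) (y n) := fun h1 => h.cr.ne (h.cr.min k hk _ _ h1)

/-- `d(y i, y j) = j - i` -/
theorem dist (h : GG V n y) {i j k : ℕ} (hij : i ≤ j) (hj : j ≤ n) (hi : i < n) (hk : k < j - i) :
    ¬ Pth V k (y i) (y j) := by
  intro h1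
  have h2 : Pth V i (y 0) (y i) := by
    have := h.pth (Nat.zero_le i) hi.le (by omega)
    rwa [Nat.sub_zero] at this
  rcases Nat.lt_or_ge j n with h3 | h3
  · have h4 := h.pth h3.le le_rfl h3
    exact h.no_pth (k := i + k + (n - j)) (by omega) ((h2.trans h1).trans h4)
  · obtain rfl : j = n := le_antisymm hj h3
    exact h.no_pth (k := i + k) (by omega) (h2.trans h1)

theorem col0 (h : GG V (m + 3) y) : Col V (y 0) (y 1) := h.path 0 (by omega)

theorem ne_succ (h : GG V n y) {i : ℕ} (hi : i < n) : y i ≠ y (i + 1) := by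
  intro e
  refine h.dist (Nat.le_succ i) hi hi (k := 0) (by omega) ?_
  rw [← e]
  exact .zero (h.path i hi).left

/-- type I pairs are exact, and `x^b = p x` never happens -/
theorem exact [Finite G] (hf : Fr T V z)
    (hNO : LemmaM.NoOver (NO3S.TwoFar.inc (V := V)) NO3S.TwoFar.RR NO3S.TwoFar.WS NO3S.TwoFar.VL)
    (h : GG V (m + 3) y) : SecOne.Exact V (y 0) (y (m + 3)) :=
  SecOne.exact_of_typeI hf (by omega) hNO h.cr h.not_mem h.not_mem'

end GG

end Cfsg.Agent.Omega.NOThree.LL
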