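import Cfsg.Agent.Omega.NOThree.LL.NoGr
import Cfsg.Agent.Omega.NOThree.LL.Grand

/-!
# TwoFar, THEOREM LL (#18157): (2.2) and section 3

* `Child.rr_le` (2.2) : `R_x ≤ W_x ∩ W_p ∩ W_{q'} ∩ W_{x^f} ∩ W_{y 1}`, `Child.not_mem` : `x p ∉ R_x`;
* `Gr.free` (section 3) : a grandchild is free.
-/

set_option autoImplicit false
set_option linter.unusedSectionVars false

namespace Cfsg.Agent.Omega.NOThree.LL

open Subgroup Cfsg Cfsg.Agent.ZN Cfsg.Agent.MinSimple.Geo Cfsg.Agent.Omega.CaseL Cfsg.Agent.Omega.NO3S.TwoOne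
open Cfsg.Agent.Omega.NO3S.Pt
open Cfsg.Agent.Omega.NO3S.TwoMid (rr comm_mem_rr rr_comm)

universe u

variable {G : Type u} [Group G] {T V : Subgroup G} {z : G} {m : ℕ} {y : ℕ → G} {x f x' f' : G}

/-- `[W_p, W_q] ≤ W_p` for critical pairs -/
theorem rr_le_left [Finite G] {n : ℕ} {p q : G} (h : Fr T V z) (hc : Cr V (n + 1) p q) : rr V p q ≤ ws V p := by
  unfold NO3S.TwoMid.rr
  rw [closure_le]
  rintro _ ⟨a, ha, b, hb, rfl⟩
  exact hc.comm_mem_left h ha hb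

theorem rr_le_right [Finite G] {n : ℕ} {p q : G} (h : Fr T V z) (hc : Cr V (n + 1) p q) : rr V p q ≤ ws V q := by
  unfold NO3S.TwoMid.rr
  rw [closure_le]
  rintro _ ⟨a, ha, b, hb, rfl⟩
  exact hc.comm_mem_right h ha hb

theorem GG.rr_le_one {n : ℕ} (gg : GG V n y) : rr V (y 0) (y n) ≤ ws V (y 1) := by
  unfold NO3S.TwoMid.rr
  rw [closure_le]
  rintro _ ⟨a, ha, b, hb, rfl⟩
  exact gg.le a ha b hb

/-- (2.2), the first part -/
theorem Child.rr_le [Finite G] (h : Fr T V z) (gg : GG V (m + 3) y) (c : Child V m y x f) {e : G}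
    (he : e ∈ rr V x (y (m + 2))) :
    e ∈ ws V x ∧ e ∈ ws V (y 0) ∧ e ∈ ws V (y (m + 2)) ∧ f * e = e * f ∧ e ∈ ws V (y 1) := by
  have h1 : e ∈ ws V x := rr_le_left h c.gg.cr he
  have h2 : e ∈ ws V (y (m + 2)) := rr_le_right h c.gg.cr he
  have h3 : e ∈ ws V (y 0) := c.gg.rr_le_one he
  have h4 : f * e = e * f :=
    (gg.com (i := m + 2) (j := m + 3) (by omega) le_rfl (by omega) (by omega) e h2 f c.mv.mem).symm
  exact ⟨h1, h3, h2, h4, c.mv.cen e h1 h3 h4⟩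

/-- (2.2), the second part -/
theorem Child.not_mem [Finite G] (h : Fr T V z) (gg : GG V (m + 3) y) (c : Child V m y x f) :
    x * y 0 ∉ rr V x (y (m + 2)) := by
  intro he
  obtain ⟨-, -, -, -, h5⟩ := c.rr_le h gg he
  have h6 : y 0 ∈ ws V (y 1) := h.mem_ws_of_col gg.col0.symm
  have h7 : x ∈ ws V (y 1) := by
    have := mul_mem h5 (inv_mem h6)
    rwa [mul_inv_cancel_right] at this
  apply c.mv.mv
  exact NO3S.Dual.conj_eq_of_comm
    (gg.com (i := 1) (j := m + 3) (by omega) le_rfl (by omega) (by omega) x h7 f c.mv.mem).symm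

/-- **section 3** -/
theorem Gr.free [Finite G] (h : Fr T V z) (hg : Gr V m y) : Free V m y := by
  obtain ⟨y₀, x, f, x', f', g0, c1, c2, rfl⟩ := hg
  intro e he hcol
  have he' : e ∈ rr V x' (y₀ (m + 1)) := he
  -- (a)
  obtain ⟨h1, h2, h3, h4, h5⟩ := c2.rr_le h c1.gg he'
  have h2' : e ∈ ws V x := h2
  have h3' : e ∈ ws V (y₀ (m + 1)) := h3
  have h5' : e ∈ ws V (y₀ 0) := h5
  -- (b)
  have h6 : f * e = e * f :=
    (g0.com (i := m + 1) (j := m + 3) (by omega) le_rfl (by omega) (by omega) e h3' f c1.mv.mem).symm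
  have h7 : e ∈ ws V (y₀ 1) := c1.mv.cen e h2' h5' h6
  -- (c)
  have hne1 : e ≠ x := by
    rintro rfl
    exact c1.mv.mv (NO3S.Dual.conj_eq_of_comm h6)
  have hne2 : e ≠ x' := by
    rintro rfl
    exact c2.gg.not_mem h3'
  have hne21 : e ≠ x' * x := by
    rintro rfl
    exact c2.not_mem h c1.gg he'
  -- (d)
  exact grand_path h g0.path g0.cr c1.gg.cr c2.gg.cr c1.mv.col.symm c2.mv.col.symm h1 h2' h5' h7 hne1 hne2 hne21
    hcol.symm

/-- **there is no grandchild** -/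
theorem no_gr' [Finite G] (hf : Fr T V z)
    (hNO : LemmaM.NoOver (NO3S.TwoFar.inc (V := V)) NO3S.TwoFar.RR NO3S.TwoFar.WS NO3S.TwoFar.VL)
    (hno : ∀ p, Col V p p → NoHP V p (TF.pim V p)) (y : ℕ → G) : ¬ Gr V m y :=
  no_gr_of hf hNO hno (fun _ h => h.free hf) y

end Cfsg.Agent.Omega.NOThree.LL
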