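import Cfsg.Agent.Omega.NOThree.LL.Frame
import Cfsg.Agent.Omega.NOThree.LL.Abs
import Cfsg.Agent.Omega.NOThree.TF.ULam
import Cfsg.Agent.Omega.NOThree.TF.Trans

/-!
# THEOREM LL (helper975 #18157), section 1: movers, (D) in goal pairs

`St` : the setting, a goal pair `(y 0, y (m+3))` with its geodesic, (NO), the module `M = W_p/p`, `p = y 0`.

* `St.redM` : `O₂(C(p)/K_p) = 1`; `St.moves`, `St.exists_mover` : every `f ∈ W_q`, `f ∉ C(W_p)`, has a mover;
* `St.one_one` (1.1): a mover without (D): `[x, f] ∈ {y 1, y 0 * y 1}` and `[μ, C_λ] ≤ ⟨λ⟩ + N`.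
-/

set_option autoImplicit false
set_option linter.unusedSectionVars false

namespace Cfsg.Agent.Omega.NOThree.LL

open Subgroup Cfsg Cfsg.Agent.ZN Cfsg.Agent.MinSimple.Geo Cfsg.Agent.Omega.CaseL Cfsg.Agent.Omega.NO3S.TwoOne
open Cfsg.Agent.Omega.NO3S.Pt
open Cfsg.Agent.Omega.NO3S.Dual (nn mem_nn DW)
open Cfsg.Agent.Omega.NO3S.TwoMid (rr comm_mem_rr rr_comm)
open Cfsg.Agent.Omega.NOThree.TF (Md conj_mem_ws_of_mem exists_T exists_flag2)
open Cfsg.Agent.Omega.NOThree.SecOne (Exact ee mem_ee)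
open Cfsg.Agent.ZN.Block (conj_mem_of_normalizer conj_mem_of_normalizer' le_normalizer_of_forall
  mem_normalizer_of)

universe u v

/-! ### more on `Inv` -/

namespace Inv

variable {H : Type u} [Group H] {M : Type v} [AddCommGroup M] [DistribMulAction H M] {f h : H}

/-- a subgroup of `M` invariant under `f` and `h f h⁻¹` is invariant under `h` -/
theorem pres (i : Inv M f h) (hf2 : ∀ m : M, f • f • m = m) {D : AddSubgroup M} (h1 : ∀ m ∈ D, f • m ∈ D)
    (h2 : ∀ m ∈ D, h • f • h⁻¹ • m ∈ D) : (∀ m ∈ D, h • m ∈ D) ∧ ∀ m ∈ D, h⁻¹ • m ∈ D := by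
  have h3 : ∀ m ∈ D, h • h • m ∈ D := by
    intro m hm
    have := h2 _ (h1 m hm)
    rw [i.conj_smul', hf2] at this
    exact this
  obtain ⟨k, ⟨j, rfl⟩, hk⟩ := i.odd
  have h4 : ∀ j : ℕ, ∀ m ∈ D, (h ^ (2 * j)) • m ∈ D := by
    intro j
    induction j with
    | zero => intro m hm; simpa using hm
    | succ j ih =>
      intro m hm
      have e : h ^ (2 * (j + 1)) = h * h * h ^ (2 * j) := by
        rw [Nat.mul_succ, add_comm, pow_add, pow_two]
      rw [e, mul_smul, mul_smul]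
      exact h3 _ (ih m hm)
  refine ⟨fun m hm => ?_, fun m hm => ?_⟩
  · have e : h • m = h • h • (h ^ (2 * j)) • m := by
      conv_lhs => rw [← hk m, pow_succ', mul_smul]
    rw [e]
    exact h3 _ (h4 j m hm)
  · have e : h⁻¹ • m = (h ^ (2 * j)) • m := by
      conv_lhs => rw [← hk m, pow_succ', mul_smul, inv_smul_smul]
    rw [e]
    exact h4 j m hm

/-- `h⁻²` is not a 2-element on `M` -/
theorem not_two (i : Inv M f h) {d : H} (hd : ∀ m : M, d • m = h⁻¹ • h⁻¹ • m) {j : ℕ}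
    (hj : ∀ m : M, (d ^ 2 ^ j) • m = m) : False := by
  set K := kerM H M with hK
  set π := QuotientGroup.mk' K with hπ
  have hπ1 : ∀ y : H, π y = 1 ↔ ∀ m : M, y • m = m := fun y => QuotientGroup.eq_one_iff (N := K) y
  have e1 : π d = (π h)⁻¹ * (π h)⁻¹ := by
    have h1 : π (d * h * h) = 1 := (hπ1 _).2 fun m => by
      rw [mul_smul, mul_smul, hd, inv_smul_smul, inv_smul_smul]
    rw [map_mul, map_mul] at h1
    calc π d = (π d * π h * π h) * ((π h)⁻¹ * (π h)⁻¹) := by group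
      _ = _ := by rw [h1, one_mul]
  have e2 : (π h) ^ (2 ^ (j + 1)) = 1 := by
    have h1 := (hπ1 _).2 hj
    rw [map_pow, e1, ← mul_inv_rev, ← pow_two, inv_pow, inv_eq_one, ← pow_mul] at h1
    rw [pow_succ', h1]
  obtain ⟨k, hko, hk⟩ := i.odd
  have e3 : (π h) ^ k = 1 := by
    rw [← map_pow]
    exact (hπ1 _).2 hk
  have e4 : orderOf (π h) ∣ 1 := by
    have h5 := Nat.dvd_gcd (orderOf_dvd_of_pow_eq_one e2) (orderOf_dvd_of_pow_eq_one e3)
    have h6 : Nat.gcd (2 ^ (j + 1)) k = 1 := Nat.Coprime.pow_left _ (Nat.coprime_two_left.2 hko)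
    rwa [h6] at h5
  have e5 : π h = 1 := orderOf_eq_one_iff.1 (Nat.dvd_one.1 e4)
  obtain ⟨m, hm⟩ := i.ne
  exact hm ((hπ1 h).1 e5 m)

end Inv

variable {G : Type u} [Group G] {M : Type v} [AddCommGroup M]

/-! ### the image of `N_p` -/

theorem nn_conj {V : Subgroup G} {p g a : G} (hg : g ∈ centralizer ({p} : Set G))
    (ha : a ∈ nn (ws V p) (kq V p)) : g * a * g⁻¹ ∈ nn (ws V p) (kq V p) := by
  have h1 : centralizer ({p} : Set G) ≤ normalizer ((nn (ws V p) (kq V p) : Subgroup G) : Set G) := by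
    refine le_trans (le_inf (centralizer_le_normalizer_ws V p)
      ((centralizer_le_normalizer_kq V p).trans (normalizer_le_normalizer_centralizer _))) ?_
    intro x hx
    refine mem_normalizer_iff.mpr fun y => ?_
    unfold nn
    rw [mem_inf, mem_inf, ← mem_normalizer_iff.mp hx.1 y, ← mem_normalizer_iff.mp hx.2 y]
  exact conj_mem_of_normalizer h1 hg ha

/-- the image of `N_p` in `M_p` -/
def NB (V : Subgroup G) (p : G) (π : G → M) : AddSubgroup M :=
  AddSubgroup.closure (π '' (nn (ws V p) (kq V p) : Set G))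

section md

variable {T V : Subgroup G} {z p x g : G} [DistribMulAction (centralizer ({p} : Set G)) M] {π : G → M}

theorem mem_NB (h : Fr T V z) (hp : Col V p p) (md : Md V p π) {m : M} :
    m ∈ NB V p π ↔ ∃ a ∈ nn (ws V p) (kq V p), π a = m := by
  constructor
  · intro hm
    induction hm using AddSubgroup.closure_induction with
    | mem x hx => exact hx
    | zero => exact ⟨1, one_mem _, md.map_one⟩
    | add x y _ _ hx hy =>
      obtain ⟨a, ha, rfl⟩ := hx
      obtain ⟨b, hb, rfl⟩ := hy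
      exact ⟨a * b, mul_mem ha hb, md.map_mul a ha.1 b hb.1⟩
    | neg x _ hx => rw [md.neg_eq h hp]; exact hx
  · rintro ⟨a, ha, rfl⟩
    exact AddSubgroup.subset_closure ⟨a, ha, rfl⟩

theorem smul_mem_NB (h : Fr T V z) (hp : Col V p p) (md : Md V p π) (c : centralizer ({p} : Set G)) {m : M}
    (hm : m ∈ NB V p π) : c • m ∈ NB V p π := by
  obtain ⟨a, ha, rfl⟩ := (mem_NB h hp md).1 hm
  rw [← md.smul c a ha.1]
  exact (mem_NB h hp md).2 ⟨_, nn_conj c.2 ha, rfl⟩

/-- `{a ∈ W_p | π a ∈ D}` -/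
def pre (md : Md V p π) (D : AddSubgroup M) : Subgroup G where
  carrier := {a | a ∈ ws V p ∧ π a ∈ D}
  one_mem' := ⟨one_mem _, by rw [md.map_one]; exact zero_mem _⟩
  mul_mem' := by
    rintro a b ⟨ha, h1⟩ ⟨hb, h2⟩
    exact ⟨mul_mem ha hb, by rw [md.map_mul a ha b hb]; exact add_mem h1 h2⟩
  inv_mem' := by
    rintro a ⟨ha, h1⟩
    refine ⟨inv_mem ha, ?_⟩
    have h2 := md.map_mul a ha a⁻¹ (inv_mem ha)
    rw [mul_inv_cancel, md.map_one] at h2
    rw [eq_neg_of_add_eq_zero_right h2.symm]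
    exact neg_mem h1

theorem mem_pre (md : Md V p π) {D : AddSubgroup M} {a : G} : a ∈ pre md D ↔ a ∈ ws V p ∧ π a ∈ D := Iff.rfl

/-- `U ∩ N = 0` -/
theorem inf_NB [Finite G] (h : Fr T V z) (md : Md V p π) (hp : p ∈ cj g V) (hp1 : p ≠ 1)
    {U : AddSubgroup M} (hU : ∀ m, m ∈ U ↔ ∃ a ∈ ii (cj g V), π a = m) {m : M}
    (hm : m ∈ U) (hn : m ∈ NB V p π) : m = 0 := by
  have hpc : Col V p p := Col.of_mem hp hp hp1 hp1
  obtain ⟨a, ha, rfl⟩ := (mem_NB h hpc md).1 hn
  rw [TF.Md.π_mem_U h md hp hp1 hU ha.1] at hm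
  rw [mem_nn] at ha
  have key : ∀ k ∈ kq V p, k * a * k⁻¹ ≠ p * a := by
    intro k hk e
    rw [NO3S.Dual.conj_eq_of_comm (ha.2 k hk)] at e
    exact hp1 (by simpa using e.symm)
  by_cases haV : a ∈ cj g V
  · obtain ⟨k, hk, -, hkm⟩ := h.mover_cj hp hp1
    rw [md.ker a ha.1]
    by_contra hcon
    push Not at hcon
    exact key k hk (hkm a haV hcon.1 hcon.2)
  · obtain ⟨k, hk, -, hka⟩ := h.fu_cj hm haV hp hp1
    exact absurd hka (key k hk)

/-- `M` is spanned by the line vectors -/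
theorem span_top [Finite G] (h : Fr T V z) (md : Md V p π) (hx : Col V p x) (hne : x ≠ p) (m : M) :
    m ∈ AddSubgroup.closure {v | ∃ c : centralizer ({p} : Set G), v = c • π x} := by
  set D := AddSubgroup.closure {v | ∃ c : centralizer ({p} : Set G), v = c • π x} with hD
  have h1 : ws V p ≤ pre md D := by
    refine ws_le fun L hL a ha => ?_
    obtain ⟨⟨g, rfl⟩, hpL⟩ := hL
    have haw : a ∈ ws V p := h.line_le_ws hpL ha
    refine ⟨haw, ?_⟩
    by_cases h0 : a = 1 ∨ a = p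
    · rw [(md.ker a haw).2 h0]
      exact zero_mem _
    · push Not at h0
      have hap : Col V p a := Col.of_mem hpL ha hx.ne_one h0.1
      obtain ⟨c, hc, hc'⟩ := exists_flag2 h hx hne hap h0.2
      have hcp : c ∈ centralizer ({p} : Set G) := by
        rw [mem_centralizer_singleton_iff]
        exact NO3S.Dual.comm_of_conj_eq hc
      refine AddSubgroup.subset_closure ⟨⟨c, hcp⟩, ?_⟩
      rw [← md.smul ⟨c, hcp⟩ x (h.mem_ws_of_col hx), ← hc']
  obtain ⟨a, ha, rfl⟩ := md.surj m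
  exact (h1 ha).2

/-- `O₂(C(p)/K_p) = 1` -/
theorem redM_md [Finite G] (h : Fr T V z) (md : Md V p π) (hx : Col V p x) (hne : x ≠ p) :
    RedM (centralizer ({p} : Set G)) M := by
  obtain ⟨T', hT', -, hT2, hT3, -, -⟩ := exists_T h hx hne
  refine redM_of (T := T'.subgroupOf (centralizer ({p} : Set G))) hT2 (lam := π x) (fun t ht => ?_)
    (span_top h md hx hne)
  have hxw := h.mem_ws_of_col hx
  rw [← md.smul t x hxw, md.eq_iff h hx.left (conj_mem_ws_of_mem t.2 hxw) hxw]
  exact hT3 t (mem_subgroupOf.1 ht)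

end md

/-- `W_q ≤ O₂(C(l))` for every line `l` on a point of distance `< n` -/
theorem ws_le_o2_line [Finite G] {T V : Subgroup G} {z : G} (h : Fr T V z) {n : ℕ} (hm : Mn V (n + 1))
    {q r g : G} (hp : Pth V n q r) (hr : r ∈ cj g V) :
    ws V q ≤ o2 (centralizer ((cj g V : Subgroup G) : Set G)) := by
  have h1 := h.ws_le_o2_of_pth hm n (by omega) q r hp
  have h2 : ws V q ≤ centralizer ((cj g V : Subgroup G) : Set G) := by
    intro a ha
    rw [mem_centralizer_iff]
    intro b hb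
    exact (hm n (by omega) q r hp a ha b (h.line_le_ws hr hb)).symm
  have h3 : centralizer ((cj g V : Subgroup G) : Set G) ≤ centralizer ({r} : Set G) := by
    intro c hc
    rw [mem_centralizer_singleton_iff]
    exact (mem_centralizer_iff.mp hc r hr).symm
  refine le_trans (le_inf h1 h2) (le_o2 inf_le_right ((isPGroup_o2 _).to_le inf_le_left) ?_)
  refine le_normalizer_of_forall fun c hc a ha => ?_
  exact ⟨conj_mem_of_normalizer (le_normalizer_o2 _) (h3 hc) ha.1, conj_mem_cent hc ha.2⟩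

/-! ### the setting -/

/-- the setting: a goal pair with its geodesic, (NO), the module `M = W_{y 0}/y 0` -/
structure St (T V : Subgroup G) (z : G) (m : ℕ) (y : ℕ → G) [DistribMulAction (centralizer ({y 0} : Set G)) M]
    (π : G → M) : Prop where
  fr : Fr T V z
  no : LemmaM.NoOver (NO3S.TwoFar.inc (V := V)) NO3S.TwoFar.RR NO3S.TwoFar.WS NO3S.TwoFar.VL
  gg : GG V (m + 3) y
  md : Md V (y 0) π

namespace St

variable {T V : Subgroup G} {z : G} {m : ℕ} {y : ℕ → G} [DistribMulAction (centralizer ({y 0} : Set G)) M]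
  {π : G → M} (s : St T V z m y π)
include s

theorem hp : Col V (y 0) (y 0) := s.gg.col0.left

theorem ne1 : y 1 ≠ y 0 := (s.gg.ne_succ (i := 0) (by omega)).symm

theorem wq_le [Finite G] : ws V (y (m + 3)) ≤ centralizer ({y 0} : Set G) := s.gg.cr.symm.cent s.fr

theorem com1 : Com V (y 1) (y (m + 3)) := s.gg.com (by omega) le_rfl (by omega) (by omega)

theorem p1_mem : y 1 ∈ ws V (y 0) := s.fr.mem_ws_of_col s.gg.col0

theorem p1_mem' : y 1 ∈ ws V (y 1) := s.fr.mem_ws_self s.gg.col0.right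

theorem p_mem : y 0 ∈ ws V (y 0) := s.fr.mem_ws_self s.hp

theorem fix_lam {f : centralizer ({y 0} : Set G)} (hf : (f : G) ∈ ws V (y (m + 3))) : f • π (y 1) = π (y 1) := by
  rw [← s.md.smul f _ s.p1_mem]
  congr 1
  exact NO3S.Dual.conj_eq_of_comm (s.com1 _ s.p1_mem' _ hf).symm

theorem two (m : M) : m + m = 0 := s.md.two s.fr s.hp m

theorem sub_eq (m m' : M) : m - m' = m + m' := s.md.sub_eq s.fr s.hp m m'

theorem f_sq {f : centralizer ({y 0} : Set G)} (hf : (f : G) ∈ ws V (y (m + 3))) (v : M) : f • f • v = v := by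
  have e : f * f = 1 := Subtype.ext (s.fr.ws_sq s.gg.cr.path.right _ hf)
  rw [← mul_smul, e, one_smul]

/-- `[W_q, W_p] ≤ ⟨p⟩` for one element -/
theorem moves_of_not_mem [Finite G] {f : centralizer ({y 0} : Set G)} (hf : (f : G) ∈ ws V (y (m + 3)))
    (hfc : (f : G) ∉ centralizer (ws V (y 0) : Set G)) : ∃ v : M, f • v ≠ v := by
  by_contra hcon
  push Not at hcon
  apply hfc
  have h1 := (s.gg.exact s.fr s.no).kq _ hf ((s.md.mem_kq_iff s.fr s.hp f).2 hcon)
  rw [mem_centralizer_iff]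
  exact fun a ha => ((mem_ee.1 h1).2 a ha).symm

/-- **`h` moves `λ`** -/
theorem moves [Finite G] {f h : centralizer ({y 0} : Set G)} (hf : (f : G) ∈ ws V (y (m + 3)))
    (i : Inv M f h) : h • π (y 1) ≠ π (y 1) := by
  intro e
  obtain ⟨k, hk, hkx⟩ := s.md.fix_lift s.fr s.gg.col0 s.ne1 e
  have hk1 : ∀ v : M, k • v = v := (s.md.mem_kq_iff s.fr s.hp k).1 hk
  obtain ⟨g, hp, hx, hp1, hx1⟩ := s.gg.col0
  set c : centralizer ({y 0} : Set G) := k * h with hc
  have hcv : ∀ v : M, c • v = h • v := fun v => by rw [hc, mul_smul, hk1]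
  have hcv' : ∀ v : M, c⁻¹ • v = h⁻¹ • v := fun v => by
    rw [inv_smul_eq_iff, hcv, smul_inv_smul]
  -- `c ∈ C(l)`
  have hcl : (c : G) ∈ centralizer ((cj g V : Subgroup G) : Set G) := by
    rw [mem_centralizer_iff]
    intro a ha
    have e0 : (c : G) * y 0 = y 0 * c := mem_centralizer_singleton_iff.1 c.2
    have e1 : (c : G) * y 1 = y 1 * c := NO3S.Dual.comm_of_conj_eq hkx
    rcases TF.Md.four_cj s.fr hp hp1 hx hx1 s.ne1 ha with e | e | e | e
    · rw [e]; simp
    · rw [e, e0]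
    · rw [e, e1]
    · rw [e]
      calc y 0 * y 1 * c = y 0 * (y 1 * c) := by group
        _ = (y 0 * c) * y 1 := by rw [← e1]; group
        _ = c * (y 0 * y 1) := by rw [← e0]; group
  -- `f ∈ O₂(C(l))`
  have h1 : (f : G) ∈ o2 (centralizer ((cj g V : Subgroup G) : Set G)) := by
    have hpth := (s.gg.pth (i := 1) (j := m + 3) (by omega) le_rfl (by omega)).symm
    exact ws_le_o2_line s.fr s.gg.cr.min (n := m + 2) hpth hx hf
  set d : centralizer ({y 0} : Set G) := f * (c * f⁻¹ * c⁻¹) with hd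
  have h2 : (d : G) ∈ o2 (centralizer ((cj g V : Subgroup G) : Set G)) :=
    mul_mem h1 (conj_mem_of_normalizer (le_normalizer_o2 _) hcl (inv_mem h1))
  obtain ⟨j, hj⟩ := isPGroup_o2 _ ⟨(d : G), h2⟩
  have hj' : d ^ 2 ^ j = 1 := by
    refine Subtype.ext ?_
    have := congrArg Subtype.val hj
    rw [SubgroupClass.coe_pow, OneMemClass.coe_one] at this ⊢
    exact this
  refine i.not_two (d := d) (j := j) (fun v => ?_) (fun v => by rw [hj', one_smul])
  rw [hd, mul_smul, mul_smul, mul_smul, hcv, hcv']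
  have h3 : f⁻¹ • h⁻¹ • v = h • f⁻¹ • v := by
    rw [inv_smul_eq_iff, i.conj_smul, smul_inv_smul]
  rw [h3, i.conj_smul, i.conj_smul, smul_inv_smul]

/-- **movers exist** -/
theorem exists_mover [Finite G] {f : centralizer ({y 0} : Set G)} (hf : (f : G) ∈ ws V (y (m + 3)))
    (hfc : (f : G) ∉ centralizer (ws V (y 0) : Set G)) :
    ∃ h : centralizer ({y 0} : Set G), Inv M f h ∧ Mv V (m + 3) y ((h : G) * y 1 * (h : G)⁻¹) f := by
  obtain ⟨h, i⟩ := exists_inv (redM_md s.fr s.md s.gg.col0 s.ne1) (s.f_sq hf) (s.moves_of_not_mem hf hfc)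
  have hp0 : (h : G) * y 0 * (h : G)⁻¹ = y 0 :=
    NO3S.Dual.conj_eq_of_comm (mem_centralizer_singleton_iff.1 h.2)
  set x := (h : G) * y 1 * (h : G)⁻¹ with hx
  have hcol : Col V (y 0) x := by
    have := s.gg.col0.conj (h : G)
    rwa [hp0] at this
  have hπ : π x = h • π (y 1) := s.md.smul h _ s.p1_mem
  have hxw : x ∈ ws V (y 0) := s.fr.mem_ws_of_col hcol
  have hmv : ¬ (f : G) * x * (f : G)⁻¹ = x ∧ ¬ (f : G) * x * (f : G)⁻¹ = y 0 * x := by
    rw [← not_or, ← s.md.eq_iff s.fr s.hp (conj_mem_ws_of_mem f.2 hxw) hxw, s.md.smul f x hxw, hπ]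
    intro e
    exact s.moves hf i (i.fix' (s.fix_lam hf) e)
  refine ⟨h, i, hf, hcol, ?_, hmv.1, hmv.2, ?_⟩
  · intro e
    apply s.ne1
    calc y 1 = (h : G)⁻¹ * ((h : G) * y 1 * (h : G)⁻¹) * h := by group
      _ = (h : G)⁻¹ * (h * y 0 * (h : G)⁻¹) * h := by rw [e, hp0]
      _ = y 0 := by group
  · intro u hux hup hfu
    -- `h` fixes `π u`
    have h1 : f • π u = π u := by
      rw [← s.md.smul f u hup, NO3S.Dual.conj_eq_of_comm hfu]
    have hu' : (h : G)⁻¹ * u * h ∈ ws V (y 1) := by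
      have := conj_mem_ws (h : G)⁻¹ hux
      have e : (h : G)⁻¹ * x * (h : G)⁻¹⁻¹ = y 1 := by rw [hx]; group
      rwa [e, inv_inv] at this
    have hu'' : (h : G)⁻¹ * u * h ∈ ws V (y 0) := by
      have := conj_mem_ws_of_mem (h⁻¹).2 hup
      simpa using this
    have h2 : h⁻¹ • π u = π ((h : G)⁻¹ * u * h) := by
      rw [← s.md.smul h⁻¹ u hup]
      simp
    have h3 : h • f • h⁻¹ • π u = π u := by
      rw [h2, ← s.md.smul f _ hu'', NO3S.Dual.conj_eq_of_comm (s.com1 _ hu' _ hf).symm, ← s.md.smul h _ hu'']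
      congr 1
      group
    have h4 := i.fix h1 h3
    have h5 : π ((h : G)⁻¹ * u * h) = π u := by
      rw [← h2, inv_smul_eq_iff, h4]
    rcases (s.md.eq_iff s.fr s.hp hu'' hup).1 h5 with e | e
    · rwa [e] at hu'
    · have hp1' : y 0 ∈ ws V (y 1) := s.fr.mem_ws_of_col s.gg.col0.symm
      have e' : u = y 0 * ((h : G)⁻¹ * u * h) := by
        rw [e, ← mul_assoc, s.fr.pt_sq s.hp, one_mul]
      rw [e']
      exact mul_mem hp1' hu'

/-! ### (1.1) -/

omit s [DistribMulAction (centralizer ({y 0} : Set G)) M] in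
theorem mem_sup4 {N : AddSubgroup M} (two : ∀ v : M, v + v = 0) {a b v : M}
    (hv : v ∈ AddSubgroup.closure {a, b} ⊔ N) :
    ∃ w ∈ N, v = w ∨ v = a + w ∨ v = b + w ∨ v = a + b + w := by
  obtain ⟨c, hc, w, hw, rfl⟩ := AddSubgroup.mem_sup.1 hv
  refine ⟨w, hw, ?_⟩
  have key : ∀ (k : ℤ) (a : M), k • a = 0 ∨ k • a = a := by
    intro k a
    rcases Int.even_or_odd' k with ⟨j, rfl | rfl⟩
    · left
      rw [mul_comm, mul_smul, two_smul, two, smul_zero]
    · right
      rw [add_smul, mul_comm, mul_smul, two_smul, two, smul_zero, one_smul, zero_add]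
  obtain ⟨k, l, rfl⟩ := AddSubgroup.mem_closure_pair.1 hc
  rcases key k a with e | e <;> rcases key l b with e' | e' <;> rw [e, e']
  · left; rw [zero_add, zero_add]
  · right; right; left; rw [zero_add]
  · right; left; rw [add_zero]
  · right; right; right; rfl

omit s in
theorem cent_lift {x : G} {h g : centralizer ({y 0} : Set G)} (hx : x = (h : G) * y 1 * (h : G)⁻¹)
    (hg : (g : G) ∈ centralizer (ws V (y 1) : Set G)) :
    ((h * g * h⁻¹ : centralizer ({y 0} : Set G)) : G) ∈ centralizer (ws V x : Set G) := by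
  rw [mem_centralizer_iff] at hg ⊢
  intro a ha
  have h1 : (h : G)⁻¹ * a * h ∈ ws V (y 1) := by
    have := conj_mem_ws (h : G)⁻¹ ha
    have e : (h : G)⁻¹ * x * (h : G)⁻¹⁻¹ = y 1 := by rw [hx]; group
    rwa [e, inv_inv] at this
  have h2 := hg _ h1
  change a * ((h : G) * g * (h : G)⁻¹) = (h : G) * g * (h : G)⁻¹ * a
  calc a * ((h : G) * g * (h : G)⁻¹) = h * ((h : G)⁻¹ * a * h * g) * (h : G)⁻¹ := by group
    _ = (h : G) * g * (h : G)⁻¹ * a := by rw [h2]; group

/-- **(1.1)** -/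
theorem one_one [Finite G] {f h : centralizer ({y 0} : Set G)} {x : G} (hf : (f : G) ∈ ws V (y (m + 3)))
    (i : Inv M f h) (hx : x = (h : G) * y 1 * (h : G)⁻¹) (hmv : Mv V (m + 3) y x f) (hD : ¬ DD V (y 0) x f) :
    f • π x = π x + π (y 1) ∧ ∀ g : centralizer ({y 0} : Set G), (g : G) ∈ centralizer (ws V (y 1) : Set G) →
      g • π x - π x ∈ AddSubgroup.closure {π (y 1)} ⊔ NB V (y 0) π := by
  have two := s.two
  obtain ⟨l, hp, hq, hp1, hq1⟩ := s.gg.col0
  obtain ⟨U, hU⟩ := TF.Md.exists_U s.fr s.md hp hp1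
  have hlU : π (y 1) ∈ U := TF.Md.lam_mem_U s.fr s.md hp hp1 hq hU
  have hUN : ∀ v ∈ U, v ∈ NB V (y 0) π → v = 0 := fun v hv hn => inf_NB s.fr s.md hp hp1 hU hv hn
  have hNs : ∀ (c : centralizer ({y 0} : Set G)), ∀ v ∈ NB V (y 0) π, c • v ∈ NB V (y 0) π :=
    fun c v hv => smul_mem_NB s.fr s.hp s.md c hv
  have hl0 : π (y 1) ≠ 0 := s.md.pt_ne_zero s.fr s.gg.col0 s.ne1
  have hlN : π (y 1) ∉ NB V (y 0) π := fun h1 => hl0 (hUN _ hlU h1)
  have hxw : x ∈ ws V (y 0) := s.fr.mem_ws_of_col hmv.col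
  have hmu : π x = h • π (y 1) := by rw [hx]; exact s.md.smul h _ s.p1_mem
  set x' := (f : G) * x * (f : G)⁻¹ with hx'
  have hxw' : x' ∈ ws V (y 0) := conj_mem_ws_of_mem f.2 hxw
  have hnu : π x' = f • π x := s.md.smul f x hxw
  have hff : f • π x' = π x := by rw [hnu, s.f_sq hf]
  set mu := π x with hmudef
  set nu := π x' with hnudef
  set lam := π (y 1) with hlam
  have hne : nu ≠ mu := by
    intro e
    rcases (s.md.eq_iff s.fr s.hp hxw' hxw).1 e with e | e
    · exact hmv.mv e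
    · exact hmv.mv' e
  have hfl : f • lam = lam := s.fix_lam hf
  -- `c = mu + nu ∈ U`
  have hcU : mu + nu ∈ U := by
    have h1 : x' * x⁻¹ ∈ ws V (y 1) := by
      have h2 := s.gg.le x hxw f hf
      have e : x' * x⁻¹ = (x * f * x⁻¹ * (f : G)⁻¹)⁻¹ := by rw [hx']; group
      rw [e]
      exact inv_mem h2
    have hxi : x⁻¹ = x := inv_eq_of_mul_eq_one_right (s.fr.pt_sq hmv.col.right)
    rw [hxi] at h1
    have h2 : x' * x ∈ ws V (y 0) := mul_mem hxw' hxw
    rw [hU]
    refine ⟨x' * x, s.fr.mem_ii_cj hp hp1 hq hq1 s.ne1 h2 h1, ?_⟩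
    rw [s.md.map_mul _ hxw' _ hxw, add_comm]
  have hcN : mu + nu ∉ NB V (y 0) π := by
    intro h1
    have h2 := hUN _ hcU h1
    apply hne
    rw [← s.sub_eq, sub_eq_zero] at h2
    exact h2.symm
  have hnuN : nu ∉ NB V (y 0) π := by
    intro h1
    apply hlN
    have h2 := hNs h⁻¹ _ (hNs f _ h1)
    rwa [hff, hmu, inv_smul_smul] at h2
  -- (S)
  have hcolx' : Col V (y 0) x' := by
    have := hmv.col.conj (f : G)
    rwa [NO3S.Dual.conj_eq_of_comm (mem_centralizer_singleton_iff.1 f.2)] at this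
  have hx'p : x' ≠ y 0 := by
    intro e
    apply hmv.ne
    have e0 : (f : G)⁻¹ * y 0 * f = y 0 := by
      have := mem_centralizer_singleton_iff.1 f.2
      rw [mul_assoc, ← this, inv_mul_cancel_left]
    calc x = (f : G)⁻¹ * x' * f := by rw [hx']; group
      _ = y 0 := by rw [e, e0]
  have hS := (s.fr.lemD hmv.col hcolx' hmv.ne hx'p).resolve_left hD
  set P := AddSubgroup.closure {mu, nu} ⊔ NB V (y 0) π with hP
  have hmuP : mu ∈ P := (le_sup_left : _ ≤ P) (AddSubgroup.subset_closure (Or.inl rfl))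
  have hnuP : nu ∈ P := (le_sup_left : _ ≤ P) (AddSubgroup.subset_closure (Or.inr rfl))
  have hNP : NB V (y 0) π ≤ P := le_sup_right
  have hpre : closure {x, x'} ⊔ nn (ws V (y 0)) (kq V (y 0)) ≤ pre s.md P := by
    refine sup_le ?_ fun a ha => ⟨ha.1, hNP ((mem_NB s.fr s.hp s.md).2 ⟨a, ha, rfl⟩)⟩
    rw [closure_le]
    rintro a (rfl | rfl)
    · exact ⟨hxw, hmuP⟩
    · exact ⟨hxw', hnuP⟩
  have hgen : ∀ g : centralizer ({y 0} : Set G), (g • mu ∈ P) → (g • nu ∈ P) → ∀ v ∈ P, g • v ∈ P := by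
    intro g h1 h2
    have h3 : P ≤ P.comap (DistribSMul.toAddMonoidHom M g) := by
      rw [hP, sup_le_iff, AddSubgroup.closure_le]
      refine ⟨?_, fun v hv => hNP (hNs g v hv)⟩
      rintro v (rfl | rfl)
      · exact h1
      · exact h2
    exact fun v hv => h3 hv
  have hcx : ∀ g : centralizer ({y 0} : Set G), (g : G) ∈ centralizer (ws V x : Set G) →
      g • mu = mu ∧ g • nu ∈ P := by
    intro g hg
    have h1 := hS g ((le_sup_left : centralizer (ws V x : Set G) ≤ _) hg)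
    constructor
    · rw [hmudef, ← s.md.smul g x hxw]
      congr 1
      exact NO3S.Dual.conj_eq_of_comm (mem_centralizer_iff.1 hg x (s.fr.mem_ws_self hmv.col.right)).symm
    · have h2 := (hpre h1.2).2
      rw [s.md.smul g x' hxw'] at h2
      exact h2
  have h1 : ∀ v ∈ P, f • v ∈ P := hgen f (by rw [← hnu]; exact hnuP) (by rw [hff]; exact hmuP)
  have h2 : ∀ v ∈ P, h • f • h⁻¹ • v ∈ P := by
    intro v hv
    have hfc : (f : G) ∈ centralizer (ws V (y 1) : Set G) := by
      rw [mem_centralizer_iff]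
      exact fun a ha => s.com1 a ha _ hf
    obtain ⟨h3, h4⟩ := hcx _ (cent_lift hx hfc)
    have h5 := hgen (h * f * h⁻¹) (by rw [h3]; exact hmuP) h4 v hv
    rwa [mul_smul, mul_smul] at h5
  obtain ⟨h3, h4⟩ := i.pres (s.f_sq hf) h1 h2
  have hlP : lam ∈ P := by
    have := h4 _ hmuP
    rwa [hmu, inv_smul_smul] at this
  have hlam' : nu = mu + lam := by
    obtain ⟨w, hw, e | e | e | e⟩ := mem_sup4 two hlP
    · exact absurd (e ▸ hw) hlN
    · exfalso
      apply hcN
      have e1 : f • lam = f • mu + f • w := by rw [e, smul_add]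
      rw [hfl, ← hnu] at e1
      have e2 : mu + nu = w + f • w := by
        have e3 : mu = lam + w := by rw [e, add_assoc, two, add_zero]
        have e4 : nu = lam + f • w := by rw [e1, add_assoc, two, add_zero]
        rw [e3, e4]
        calc lam + w + (lam + f • w) = (lam + lam) + (w + f • w) := by abel
          _ = w + f • w := by rw [two, zero_add]
      rw [e2]
      exact add_mem hw (hNs f w hw)
    · exfalso
      apply hcN
      have e1 : f • lam = f • nu + f • w := by rw [e, smul_add]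
      rw [hfl, hff] at e1
      have e2 : mu + nu = f • w + w := by
        have e3 : nu = lam + w := by rw [e, add_assoc, two, add_zero]
        have e4 : mu = lam + f • w := by rw [e1, add_assoc, two, add_zero]
        rw [e3, e4]
        calc lam + f • w + (lam + w) = (lam + lam) + (f • w + w) := by abel
          _ = f • w + w := by rw [two, zero_add]
      rw [e2]
      exact add_mem (hNs f w hw) hw
    · have e1 : w = lam + (mu + nu) := by
        rw [e]
        calc w = (mu + mu) + (nu + nu) + w := by rw [two, two, zero_add, zero_add]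
          _ = mu + nu + w + (mu + nu) := by abel
      have e2 : w = 0 := hUN w (by rw [e1]; exact add_mem hlU hcU) hw
      rw [e2, add_zero] at e
      rw [e]
      calc nu = (mu + mu) + nu := by rw [two, zero_add]
        _ = mu + (mu + nu) := by abel
  refine ⟨by rw [← hnu]; exact hlam', ?_⟩
  -- `[nu, C(W_x)] ≤ ⟨mu⟩ + N`
  have h5 : ∀ g : centralizer ({y 0} : Set G), (g : G) ∈ centralizer (ws V x : Set G) →
      ∃ w ∈ NB V (y 0) π, g • nu - nu = w ∨ g • nu - nu = mu + w := by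
    intro g hg
    obtain ⟨h6, h7⟩ := hcx g hg
    obtain ⟨w, hw, e | e | e | e⟩ := mem_sup4 two h7
    · exfalso
      apply hnuN
      have := hNs g⁻¹ w hw
      rwa [← e, inv_smul_smul] at this
    · exfalso
      apply hcN
      have e1 : g • (mu + nu) = w := by
        rw [smul_add, h6, e, ← add_assoc, two, zero_add]
      have := hNs g⁻¹ w hw
      rwa [← e1, inv_smul_smul] at this
    · exact ⟨w, hw, Or.inl (by rw [e, add_sub_cancel_left])⟩
    · refine ⟨w, hw, Or.inr ?_⟩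
      rw [e]
      abel
  intro g hg
  set Q := AddSubgroup.closure {lam} ⊔ NB V (y 0) π with hQ
  have hlQ : lam ∈ Q := (le_sup_left : _ ≤ Q) (AddSubgroup.subset_closure rfl)
  have hNQ : NB V (y 0) π ≤ Q := le_sup_right
  have hgl : g • lam = lam := by
    rw [hlam, ← s.md.smul g _ s.p1_mem]
    congr 1
    exact NO3S.Dual.conj_eq_of_comm (mem_centralizer_iff.1 hg _ s.p1_mem').symm
  -- for `κ = h⁻¹ • nu`
  have h8 : g • h⁻¹ • nu - h⁻¹ • nu ∈ Q := by
    obtain ⟨w, hw, e⟩ := h5 _ (cent_lift hx hg)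
    have e1 : g • h⁻¹ • nu - h⁻¹ • nu = h⁻¹ • ((h * g * h⁻¹) • nu - nu) := by
      rw [smul_sub, mul_smul, mul_smul, inv_smul_smul]
    rw [e1]
    rcases e with e | e
    · rw [e]
      exact hNQ (hNs _ w hw)
    · rw [e, smul_add, hmu, inv_smul_smul]
      exact add_mem hlQ (hNQ (hNs _ w hw))
  have hgN : ∀ w ∈ NB V (y 0) π, g • w - w ∈ Q := fun w hw => sub_mem (hNQ (hNs g w hw)) (hNQ hw)
  obtain ⟨w, hw, e | e | e | e⟩ := mem_sup4 two (h4 _ hnuP)
  · exfalso
    apply hnuN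
    have := hNs h w hw
    rwa [← e, smul_inv_smul] at this
  · rw [e] at h8
    have e1 : g • mu - mu = (g • (mu + w) - (mu + w)) - (g • w - w) := by rw [smul_add]; abel
    rw [e1]
    exact sub_mem h8 (hgN w hw)
  · rw [e, hlam'] at h8
    have e1 : g • mu - mu = (g • (mu + lam + w) - (mu + lam + w)) - (g • w - w) := by
      rw [smul_add, smul_add, hgl]; abel
    rw [e1]
    exact sub_mem h8 (hgN w hw)
  · exfalso
    apply hcN
    have e1 : h⁻¹ • nu = lam + w := by
      rw [e, hlam']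
      calc mu + (mu + lam) + w = (mu + mu) + (lam + w) := by abel
        _ = lam + w := by rw [two, zero_add]
    have e2 : nu = mu + h • w := by
      rw [hmu, ← smul_add, ← e1, smul_inv_smul]
    have e3 : mu + nu = h • w := by rw [e2, ← add_assoc, two, zero_add]
    rw [e3]
    exact hNs h w hw

end St

end Cfsg.Agent.Omega.NOThree.LL
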