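import Cfsg.Agent.Omega.NOThree.LL.NoH
import Cfsg.Agent.Omega.NOThree.LL.Term

/-!
# `NoB V` (THEOREM LL, #18157) from (ML)
-/

set_option autoImplicit false
set_option linter.unusedSectionVars false

namespace Cfsg.Agent.Omega.NOThree.LL

open Subgroup Cfsg Cfsg.Agent.ZN Cfsg.Agent.MinSimple.Geo Cfsg.Agent.Omega.CaseL Cfsg.Agent.Omega.NO3S.TwoOne
open Cfsg.Agent.Omega.NO3S.Pt Cfsg.Agent.Omega.NOThree.TF

universe u

variable {G : Type u} [Group G] {T V : Subgroup G} {z : G}

/-- the index of the preimage of a subgroup of `M_p` -/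
theorem relIndex_mul_card [Finite G] {M : Type u} [AddCommGroup M] {p : G}
    [DistribMulAction (centralizer ({p} : Set G)) M] {π : G → M} (md : Md V p π) {C : Subgroup G} {N : AddSubgroup M}
    (hC : ∀ u ∈ ws V p, u ∈ C ↔ π u ∈ N) : C.relIndex (ws V p) * Nat.card N = Nat.card M := by
  let f : ws V p →* Multiplicative M := MonoidHom.mk' (fun a => Multiplicative.ofAdd (π a)) fun a b =>
    md.map_mul a a.2 b b.2
  have hf : Function.Surjective f := fun m => by
    obtain ⟨a, ha, e⟩ := md.surj (Multiplicative.toAdd m)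
    exact ⟨⟨a, ha⟩, e⟩
  have h1 : C.subgroupOf (ws V p) = (AddSubgroup.toSubgroup N).comap f := by
    ext a
    exact hC a a.2
  rw [Subgroup.relIndex, h1, Subgroup.index_comap_of_surjective _ hf]
  exact (mul_comm _ _).trans (Subgroup.card_mul_index (AddSubgroup.toSubgroup N))

/-- **`NoB`** -/
theorem noB_of [Finite G] (hML : ML.Final.MLK.{u, u}) (h : Fr T V z)
    (hK : ∀ g p : G, p ∈ cj g V → p ≠ 1 → IsKGroup (centralizer ({p} : Set G))) : NoB V := by
  intro g p hp hp1 B hBp hBi hBw N C hN hC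
  have hpc : Col V p p := Col.of_mem hp hp hp1 hp1
  have md := md_MM h hpc
  obtain ⟨x, hx, hx1, hne⟩ : ∃ x ∈ cj g V, x ≠ 1 ∧ x ≠ p := by
    by_contra hcon
    push Not at hcon
    have h2 : ((cj g V : Subgroup G) : Set G) ⊆ {1, p} := by
      intro a ha
      by_cases ha1 : a = 1
      · exact Or.inl ha1
      · exact Or.inr (hcon a ha ha1)
    have h3 := Set.ncard_le_ncard h2 (Set.toFinite _)
    rw [Set.ncard_pair (Ne.symm hp1)] at h3
    have h4 : Nat.card (cj g V) = 4 := by rw [card_cj]; exact h.ln.card_V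
    change Set.ncard ((cj g V : Subgroup G) : Set G) = 4 at h4
    omega
  obtain ⟨U, hU⟩ := Md.exists_U h md hp hp1
  have hBC : B ≤ centralizer ({p} : Set G) := fun b hb => mem_centralizer_singleton_iff.2 (hBp b hb)
  have hfix : ∀ b : centralizer ({p} : Set G), ∀ a ∈ ws V p,
      b • pim V p a = pim V p a ↔ (b : G) * a * (b : G)⁻¹ * a⁻¹ ∈ zpowers p := by
    intro b a ha
    have hb' := conj_mem_ws_of_mem b.2 ha
    have hpp : p * p = 1 := h.ws_sq hpc p (h.mem_ws_self hpc)
    rw [← md.smul b a ha, md.eq_iff h hpc hb' ha, mem_zpowers_iff_of_mul_self hpp]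
    refine or_congr ?_ ?_
    · rw [mul_inv_eq_one]
    · rw [mul_inv_eq_iff_eq_mul (b := a)]
  have key := noH_of hML h (hK g p hp hp1) md hp hp1 hx hx1 hne hU (B.subgroupOf _) (by
    intro b hb
    have hb' : (b : G) ∈ B := mem_subgroupOf.1 hb
    refine ⟨fun u hu => ?_, fun m => ?_⟩
    · obtain ⟨a, ha, rfl⟩ := (hU u).1 hu
      exact (hfix b a (h.ii_cj_le hp hp1 ha)).2 (hBi _ hb' a ha)
    · obtain ⟨a, ha, rfl⟩ := md.surj m
      refine (hU _).2 ⟨_, hBw _ hb' a ha, ?_⟩
      have h3 : pim V p a⁻¹ = -pim V p a := by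
        have h4 := md.map_mul a ha a⁻¹ (inv_mem ha)
        rw [mul_inv_cancel, md.map_one] at h4
        exact (neg_eq_of_add_eq_zero_right h4.symm).symm
      rw [md.map_mul _ (conj_mem_ws_of_mem b.2 ha) _ (inv_mem ha), md.smul b a ha, sub_eq_add_neg, h3])
  have h1 : (kerM (centralizer ({p} : Set G)) (MM V p)).relIndex (B.subgroupOf (centralizer ({p} : Set G))) =
      N.relIndex B := by
    have h2 : N.comap (centralizer ({p} : Set G)).subtype =
        kerM (centralizer ({p} : Set G)) (MM V p) ⊓ B.subgroupOf _ := by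
      ext b
      rw [mem_comap, Subgroup.mem_inf, mem_subgroupOf, hN]
      constructor
      · rintro ⟨hb, hb'⟩
        refine ⟨fun m => ?_, hb⟩
        obtain ⟨a, ha, rfl⟩ := md.surj m
        exact (hfix b a ha).2 (hb' a ha)
      · rintro ⟨hb, hb'⟩
        exact ⟨hb', fun u hu => (hfix b u hu).1 (hb _)⟩
    rw [← Subgroup.inf_relIndex_right, ← h2, Subgroup.relIndex_comap, Subgroup.subgroupOf_map_subtype,
      inf_eq_left.2 hBC]
  have h2 : C.relIndex (ws V p) * Nat.card (One.cv (MM V p) (B.subgroupOf (centralizer ({p} : Set G)))) =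
      Nat.card (MM V p) := by
    refine relIndex_mul_card md fun u hu => ?_
    rw [hC]
    constructor
    · rintro ⟨-, h3⟩ b hb
      exact (hfix b u hu).2 (h3 _ (mem_subgroupOf.1 hb))
    · intro h3
      exact ⟨hu, fun b hb => (hfix ⟨b, hBC hb⟩ u hu).1 (h3 ⟨b, hBC hb⟩ (mem_subgroupOf.2 hb))⟩
  rw [h1, ← h2] at key
  have hpos : 0 < Nat.card (One.cv (MM V p) (B.subgroupOf (centralizer ({p} : Set G)))) := by
    have hfin : Finite (MM V p) := by
      refine Finite.of_surjective (fun a : ws V p => pim V p a) fun m => ?_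
      obtain ⟨a, ha, e⟩ := md.surj m
      exact ⟨⟨a, ha⟩, e⟩
    exact Nat.card_pos
  exact Nat.le_of_mul_le_mul_right key hpos

end Cfsg.Agent.Omega.NOThree.LL
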