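import Cfsg.Agent.Omega.NOThree.LL.BridgeGr
import Cfsg.Agent.Omega.NOThree.LL.HasD
import Cfsg.Agent.Omega.NOThree.LL.InstOne

/-!
# TwoFar, THEOREM LL (#18157): there is no grandchild

* `Free V m y` : no element of `R = [W_p, W_q]` is a point collinear with `p` (section 3 for the grandchildren);
* `no_gr_of` : sections 4, 5.
-/

set_option autoImplicit false
set_option linter.unusedSectionVars false

namespace Cfsg.Agent.Omega.NOThree.LL

open Subgroup Cfsg Cfsg.Agent.ZN Cfsg.Agent.MinSimple.Geo Cfsg.Agent.Omega.CaseL Cfsg.Agent.Omega.NO3S.TwoOne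
open Cfsg.Agent.Omega.NO3S.Pt
open Cfsg.Agent.Omega.NO3S.TwoMid (rr comm_mem_rr rr_comm)
open Cfsg.Agent.Omega.NOThree.SecOne (Exact ee mem_ee)
open Cfsg.Agent.Omega.NOThree.TF (Md conj_mem_ws_of_mem MM pim md_MM)
open Cfsg.Agent.Omega.NOThree.LemmaM (NoOver)

universe u

variable {G : Type u} [Group G] {T V : Subgroup G} {z : G} {m : ℕ} {y : ℕ → G}

/-- no element of `R = [W_p, W_q]` is a point collinear with `p` -/
def Free (V : Subgroup G) (m : ℕ) (y : ℕ → G) : Prop := ∀ e ∈ rr V (y 0) (y (m + 3)), ¬ Col V (y 0) e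

/-- the output of THEOREM ONE -/
theorem trAt_of [Finite G] (s : St T V z m y (pim V (y 0))) (hno : NoHP V (y 0) (pim V (y 0))) (free : Free V m y) :
    TrAt V m y := by
  obtain ⟨g, hp, hx, hp1, hx1⟩ := s.gg.col0
  obtain ⟨U, hU⟩ := TF.Md.exists_U s.fr s.md hp hp1
  obtain ⟨t, c, h1, h2, h3, h4⟩ := s.exists_tr hno free hp hx hU
  exact ⟨g, t, c, hp, hx, h1, h2, (hU c).1 h3, h4⟩

/-- (1.1) for the free pairs: every `f` has a mover with (D) -/
theorem mover_of_free [Finite G] (s : St T V z m y (pim V (y 0))) (free : Free V m y) {f : G}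
    (hf : f ∈ ws V (y (m + 3))) (hfE : f ∉ ee V (y (m + 3)) (y 0)) : ∃ x, Mv V (m + 3) y x f ∧ DD V (y 0) x f := by
  rcases s.mover_or hf (fun hc => hfE (mem_ee.2 ⟨hf, fun b hb => mem_centralizer_iff.1 hc b hb |>.symm⟩)) with h1 | h1
  · exact h1
  · exfalso
    obtain ⟨g, hp, hx, hp1, hx1⟩ := s.gg.col0
    rcases h1 with h1 | h1
    · exact free _ h1 s.gg.col0
    · refine free _ h1 (Col.of_mem hp (mul_mem hp hx) hp1 fun e => ?_)
      apply s.ne1
      calc y 1 = y 0 * y 0 * y 1 := by rw [s.fr.pt_sq s.hp, one_mul]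
        _ = y 0 := by rw [mul_assoc, e, mul_one]

/-- **there is no grandchild** -/
theorem no_gr_of [Finite G] (hf : Fr T V z)
    (hNO : NoOver (NO3S.TwoFar.inc (V := V)) NO3S.TwoFar.RR NO3S.TwoFar.WS NO3S.TwoFar.VL)
    (hno : ∀ p, Col V p p → NoHP V p (pim V p)) (hfree : ∀ y, Gr V m y → Free V m y) (y : ℕ → G) : ¬ Gr V m y := by
  have key : ∀ y, Gr V m y → St T V z m y (pim V (y 0)) := fun y h =>
    ⟨hf, hNO, h.gg, md_MM hf h.gg.cr.path.left⟩
  have key' : ∀ y, Gr V m y → TrAt V m y := fun y h =>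
    trAt_of (key y h) (hno _ h.gg.cr.path.left) (hfree y h)
  refine no_gr hf hNO (fun y h => blockAt_of_tr hf h.gg (key' y h)) (fun y h => ?_) (fun y h f hfq hfE => ?_) y
  · exact two_of_tr hf h.gg (key' y h) fun a ha b hb => hfree y h _ (comm_mem_rr ha hb)
  · exact mover_of_free (key y h) (hfree y h) hfq hfE

end Cfsg.Agent.Omega.NOThree.LL
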