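import Mathlib

/-!
# NO-3S TwoFar: THEOREM ONE (helper430, bb #17614)

A finite group `H` acts faithfully on a finite `F₂`-space `M`; `Λ` is an `H`-invariant set of nonzero vectors (the
line vectors), `U ν ∋ ν` (`ν ∈ Λ`) subspaces permuted by `H`, `B_ν = bb (U ν) = C_H(U_ν) ∩ C_H(M/U_ν)`.
`Sys`: (F2') every functional of `U_ν` killing `ν` is induced by an element fixing `ν`; (NO) no over-offender in
`B_ν`; (BS) every `1 ≠ f ∈ B_ν` inverts some `h ≠ 1` of odd order.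

`one`: a minimal exact `A ≤ B_λ` with `[M, A] ∩ Λ = ∅` has order 2.
-/

set_option autoImplicit false
set_option linter.unusedSectionVars false

namespace Cfsg.Agent.Omega.NOThree.LL.One

variable {H : Type*} {M : Type*} [Group H] [AddCommGroup M] [DistribMulAction H M]

variable (M) in
/-- `C_M(A)` -/
def cv (A : Subgroup H) : AddSubgroup M where
  carrier := {m | ∀ a ∈ A, a • m = m}
  add_mem' ha hb a h := by rw [smul_add, ha a h, hb a h]
  zero_mem' a _ := smul_zero a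
  neg_mem' ha a h := by rw [smul_neg, ha a h]

theorem mem_cv {A : Subgroup H} {m : M} : m ∈ cv M A ↔ ∀ a ∈ A, a • m = m := Iff.rfl

theorem cv_anti {A B : Subgroup H} (h : A ≤ B) : cv M B ≤ cv M A := fun _ hm a ha => hm a (h ha)

variable (M) in
/-- `[M, A]` -/
def cm (A : Subgroup H) : AddSubgroup M := AddSubgroup.closure {v | ∃ a ∈ A, ∃ m : M, a • m - m = v}

theorem sub_mem_cm {A : Subgroup H} {a : H} (ha : a ∈ A) (m : M) : a • m - m ∈ cm M A :=
  AddSubgroup.subset_closure ⟨a, ha, m, rfl⟩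

theorem cm_le {A : Subgroup H} {X : AddSubgroup M} (h : ∀ a ∈ A, ∀ m : M, a • m - m ∈ X) : cm M A ≤ X := by
  unfold cm
  rw [AddSubgroup.closure_le]
  rintro v ⟨a, ha, m, rfl⟩
  exact h a ha m

theorem cm_mono {A B : Subgroup H} (h : A ≤ B) : cm M A ≤ cm M B := cm_le fun _ ha m => sub_mem_cm (h ha) m

/-- `C_H(U) ∩ C_H(M/U)` -/
def bb (U : AddSubgroup M) : Subgroup H where
  carrier := {h | (∀ u ∈ U, h • u = u) ∧ ∀ m : M, h • m - m ∈ U}
  mul_mem' {a b} ha hb := by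
    refine ⟨fun u hu => by rw [mul_smul, hb.1 u hu, ha.1 u hu], fun m => ?_⟩
    have h1 : (a * b) • m - m = a • (b • m - m) + (a • m - m) := by rw [mul_smul, smul_sub]; abel
    rw [h1, ha.1 _ (hb.2 m)]
    exact U.add_mem (hb.2 m) (ha.2 m)
  one_mem' := ⟨fun u _ => one_smul _ u, fun m => by rw [one_smul, sub_self]; exact U.zero_mem⟩
  inv_mem' {a} ha := by
    have h0 : ∀ u ∈ U, a⁻¹ • u = u := fun u hu => by
      conv_lhs => rw [← ha.1 u hu]
      rw [inv_smul_smul]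
    refine ⟨h0, fun m => ?_⟩
    have h1 : a⁻¹ • m - m = -(a⁻¹ • (a • m - m)) := by rw [smul_sub, inv_smul_smul]; abel
    rw [h1, h0 _ (ha.2 m)]
    exact U.neg_mem (ha.2 m)

theorem mem_bb {U : AddSubgroup M} {h : H} : h ∈ (bb U : Subgroup H) ↔ (∀ u ∈ U, h • u = u) ∧ ∀ m : M, h • m - m ∈ U :=
  Iff.rfl

theorem bb_fix {U : AddSubgroup M} {h : H} (hh : h ∈ (bb U : Subgroup H)) {u : M} (hu : u ∈ U) : h • u = u := hh.1 u hu

theorem bb_sub {U : AddSubgroup M} {h : H} (hh : h ∈ (bb U : Subgroup H)) (m : M) : h • m - m ∈ U := hh.2 m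

/-- additivity of `a ↦ a m - m` on `bb U` -/
theorem sub_mul {U : AddSubgroup M} {a b : H} (ha : a ∈ (bb U : Subgroup H)) (hb : b ∈ (bb U : Subgroup H)) (m : M) :
    (a * b) • m - m = (a • m - m) + (b • m - m) := by
  have h1 : (a * b) • m - m = a • (b • m - m) + (a • m - m) := by rw [mul_smul, smul_sub]; abel
  rw [h1, ha.1 _ (hb.2 m), add_comm]

theorem le_cv_of_le_bb {U : AddSubgroup M} {A : Subgroup H} (h : A ≤ bb U) : U ≤ cv M A := fun _ hu _ ha =>
  bb_fix (h ha) hu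

theorem cm_le_of_le_bb {U : AddSubgroup M} {A : Subgroup H} (h : A ≤ bb U) : cm M A ≤ U := cm_le fun _ ha m =>
  bb_sub (h ha) m

/-- `[m, A]` for `A ≤ bb U` -/
def cs (U : AddSubgroup M) (m : M) (A : Subgroup H) (h : A ≤ bb U) : AddSubgroup M where
  carrier := {v | ∃ a ∈ A, a • m - m = v}
  add_mem' := by
    rintro _ _ ⟨a, ha, rfl⟩ ⟨b, hb, rfl⟩
    exact ⟨a * b, A.mul_mem ha hb, sub_mul (h ha) (h hb) m⟩
  zero_mem' := ⟨1, A.one_mem, by rw [one_smul, sub_self]⟩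
  neg_mem' := by
    rintro _ ⟨a, ha, rfl⟩
    refine ⟨a⁻¹, A.inv_mem ha, ?_⟩
    have h1 := sub_mul (h (A.inv_mem ha)) (h ha) m
    rw [inv_mul_cancel, one_smul, sub_self] at h1
    exact eq_neg_of_add_eq_zero_left h1.symm

theorem mem_cs {U : AddSubgroup M} {m : M} {A : Subgroup H} {h : A ≤ bb U} {v : M} :
    v ∈ cs U m A h ↔ ∃ a ∈ A, a • m - m = v := Iff.rfl

theorem cs_le_cm {U : AddSubgroup M} {m : M} {A : Subgroup H} {h : A ≤ bb U} : cs U m A h ≤ cm M A := by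
  rintro _ ⟨a, ha, rfl⟩
  exact sub_mem_cm ha m

theorem cs_le {U : AddSubgroup M} {m : M} {A : Subgroup H} {h : A ≤ bb U} : cs U m A h ≤ U := by
  rintro _ ⟨a, ha, rfl⟩
  exact bb_sub (h ha) m

/-- `C_A(m)` -/
def ca (m : M) (A : Subgroup H) : Subgroup H := A ⊓ MulAction.stabilizer H m

theorem mem_ca {m : M} {A : Subgroup H} {a : H} : a ∈ ca m A ↔ a ∈ A ∧ a • m = m := Iff.rfl

theorem card_cs {U : AddSubgroup M} {m : M} {A : Subgroup H} (h : A ≤ bb U) :
    Nat.card A = Nat.card (ca m A) * Nat.card (cs U m A h) := by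
  let f : A →* Multiplicative M :=
    { toFun := fun a => Multiplicative.ofAdd ((a : H) • m - m)
      map_one' := by simp
      map_mul' := fun a b => by
        rw [← ofAdd_add, ← sub_mul (h a.2) (h b.2) m]
        rfl }
  have h1 : Nat.card A = Nat.card f.ker * Nat.card f.range := by
    rw [← Subgroup.index_ker, Subgroup.card_mul_index]
  have h2 : Nat.card f.ker = Nat.card (ca m A) := by
    refine Nat.card_congr
      { toFun := fun x => ⟨(x : A), ⟨(x : A).2, ?_⟩⟩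
        invFun := fun x => ⟨⟨x, x.2.1⟩, ?_⟩
        left_inv := fun x => rfl
        right_inv := fun x => rfl }
    · have := x.2
      rw [MonoidHom.mem_ker] at this
      have h3 : (((x : A) : H) • m - m : M) = 0 := this
      exact sub_eq_zero.1 h3
    · rw [MonoidHom.mem_ker]
      have h3 : (x : H) • m - m = 0 := sub_eq_zero.2 x.2.2
      exact h3
  have h3 : Nat.card f.range = Nat.card (cs U m A h) := by
    refine Nat.card_congr
      { toFun := fun x => ⟨Multiplicative.toAdd (x : Multiplicative M), ?_⟩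
        invFun := fun x => ⟨Multiplicative.ofAdd (x : M), ?_⟩
        left_inv := fun x => rfl
        right_inv := fun x => rfl }
    · obtain ⟨a, ha⟩ := x.2
      exact ⟨a, a.2, by rw [← ha]; rfl⟩
    · obtain ⟨a, ha, h4⟩ := x.2
      exact ⟨⟨a, ha⟩, by rw [← h4]; rfl⟩
  rw [h1, h2, h3]

theorem card_mul_relIndex {X Y : AddSubgroup M} (h : X ≤ Y) : Nat.card X * X.relIndex Y = Nat.card Y := by
  have h1 := AddSubgroup.relIndex_mul_relIndex ⊥ X Y bot_le h
  rwa [AddSubgroup.relIndex_bot_left, AddSubgroup.relIndex_bot_left] at h1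

theorem card_sup_inf (X Y : AddSubgroup M) :
    Nat.card (X ⊔ Y : AddSubgroup M) * Nat.card (X ⊓ Y : AddSubgroup M) = Nat.card X * Nat.card Y := by
  have h1 : Nat.card Y * Y.relIndex X = Nat.card (X ⊔ Y : AddSubgroup M) := by
    rw [← AddSubgroup.relIndex_sup_right]
    exact card_mul_relIndex le_sup_right
  have h2 : Nat.card (X ⊓ Y : AddSubgroup M) * Y.relIndex X = Nat.card X := by
    rw [← AddSubgroup.inf_relIndex_left]
    exact card_mul_relIndex inf_le_left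
  rw [← h1, ← h2]
  ring

theorem card_sup_of_disj {X Y : AddSubgroup M} (h : X ⊓ Y = ⊥) :
    Nat.card (X ⊔ Y : AddSubgroup M) = Nat.card X * Nat.card Y := by
  have h1 := card_sup_inf X Y
  rwa [h, AddSubgroup.card_bot, mul_one] at h1

theorem card_le [Finite M] {X Y : AddSubgroup M} (h : X ≤ Y) : Nat.card X ≤ Nat.card Y :=
  Nat.card_le_card_of_injective (AddSubgroup.inclusion h) (AddSubgroup.inclusion_injective h)

theorem eq_of_card_le [Finite M] {X Y : AddSubgroup M} (h : X ≤ Y) (h2 : Nat.card Y ≤ Nat.card X) : X = Y :=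
  AddSubgroup.eq_of_le_of_card_ge h h2

/-! ### Functionals -/

/-- the linear functionals separate points from subgroups -/
theorem exists_fun [Finite M] (two : ∀ m : M, m + m = 0) {X : AddSubgroup M} {r : M} (hr : r ∉ X) :
    ∃ φ : M →+ ZMod 2, (∀ x ∈ X, φ x = 0) ∧ φ r = 1 := by
  let _ : Module (ZMod 2) M := AddCommGroup.zmodModule (n := 2) (fun m => by rw [two_nsmul]; exact two m)
  have hr' : r ∉ AddSubgroup.toZModSubmodule 2 X := hr
  obtain ⟨f, h1, h2⟩ := Submodule.exists_le_ker_of_notMem hr'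
  refine ⟨f.toAddMonoidHom, fun x hx => h2 (show x ∈ AddSubgroup.toZModSubmodule 2 X from hx), ?_⟩
  change f r = 1
  generalize f r = z at h1
  revert z
  decide

/-! ### The system -/

variable (H) in
/-- The setting of THEOREM ONE. -/
structure Sys [Finite H] [Finite M] (Lam : Set M) (U : M → AddSubgroup M) : Prop where
  two : ∀ m : M, m + m = 0
  faith : ∀ h : H, (∀ m : M, h • m = m) → h = 1
  ne : (0 : M) ∉ Lam
  smul : ∀ (h : H) {ν : M}, ν ∈ Lam → h • ν ∈ Lam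
  mem : ∀ {ν : M}, ν ∈ Lam → ν ∈ U ν
  conj : ∀ (h : H) {ν u : M}, ν ∈ Lam → u ∈ U ν → h • u ∈ U (h • ν)
  /-- (F2') -/
  f2 : ∀ {ν : M}, ν ∈ Lam → ∀ φ : M →+ ZMod 2, φ ν = 0 →
    ∃ k : H, k • ν = ν ∧ ∀ u ∈ U ν, (φ u = 0 → k • u = u) ∧ (φ u ≠ 0 → k • u = u + ν)
  /-- (NO) -/
  no : ∀ {ν : M}, ν ∈ Lam → ∀ A : Subgroup H, A ≤ bb (U ν) → Nat.card A * Nat.card (cv M A) ≤ Nat.card M
  /-- Baer-Suzuki -/
  bs : ∀ {ν : M}, ν ∈ Lam → ∀ f : H, f ∈ (bb (U ν) : Subgroup H) → f ≠ 1 →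
    ∃ h : H, h ≠ 1 ∧ Odd (orderOf h) ∧ f * h * f⁻¹ = h⁻¹

theorem pow_of_sq {h : H} (ho : Odd (orderOf h)) : ∃ k : ℕ, (h * h) ^ k = h := by
  obtain ⟨k, hk⟩ := ho
  refine ⟨k + 1, ?_⟩
  rw [← pow_two, ← pow_mul, show 2 * (k + 1) = (2 * k + 1) + 1 by ring, pow_succ, ← hk, pow_orderOf_eq_one, one_mul]

theorem mem_of_sq {h : H} (ho : Odd (orderOf h)) {T : Subgroup H} (hT : h * h ∈ T) : h ∈ T := by
  obtain ⟨k, hk⟩ := pow_of_sq ho
  rw [← hk]
  exact T.pow_mem hT k

theorem fix_of_sq {h : H} (ho : Odd (orderOf h)) {m : M} (hm : (h * h) • m = m) : h • m = m :=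
  mem_of_sq (T := MulAction.stabilizer H m) ho hm

theorem inv_smul_fix {h : H} {m : M} (hm : h • m = m) : h⁻¹ • m = m := by
  rw [inv_smul_eq_iff, hm]

namespace Sys

variable [Finite H] [Finite M] {Lam : Set M} {U : M → AddSubgroup M} {lam mu : M} {A : Subgroup H} {f h : H}

include H in
theorem conj_iff (s : Sys H Lam U) (h : H) {ν u : M} (hν : ν ∈ Lam) : h • u ∈ U (h • ν) ↔ u ∈ U ν := by
  refine ⟨fun hu => ?_, fun hu => s.conj h hν hu⟩
  have h1 := s.conj h⁻¹ (s.smul h hν) hu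
  rwa [inv_smul_smul, inv_smul_smul] at h1

include H in
theorem mem_smul (s : Sys H Lam U) (h : H) {ν u : M} (hν : ν ∈ Lam) (hu : u ∈ U (h • ν)) : h⁻¹ • u ∈ U ν := by
  have h1 := s.conj h⁻¹ (s.smul h hν) hu
  rwa [inv_smul_smul] at h1

theorem sq (s : Sys H Lam U) {X : AddSubgroup M} {b : H} (hb : b ∈ (bb X : Subgroup H)) : b * b = 1 := by
  refine s.faith _ fun m => ?_
  have h1 := sub_mul hb hb m
  rw [s.two] at h1
  exact sub_eq_zero.1 h1

theorem inv_eq (s : Sys H Lam U) {X : AddSubgroup M} {b : H} (hb : b ∈ (bb X : Subgroup H)) : b⁻¹ = b :=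
  inv_eq_of_mul_eq_one_left (s.sq hb)

theorem comm (s : Sys H Lam U) {X : AddSubgroup M} {a b : H} (ha : a ∈ (bb X : Subgroup H))
    (hb : b ∈ (bb X : Subgroup H)) : a * b = b * a := by
  have h1 := s.sq ((bb X).mul_mem ha hb)
  have h2 : a * b = (a * b)⁻¹ := (inv_eq_of_mul_eq_one_left h1).symm
  rw [mul_inv_rev, s.inv_eq ha, s.inv_eq hb] at h2
  exact h2

theorem sub_eq (s : Sys H Lam U) (a b : M) : a - b = a + b := by
  rw [sub_eq_iff_eq_add, add_assoc, s.two, add_zero]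

theorem neg_eq (s : Sys H Lam U) (a : M) : -a = a := neg_eq_of_add_eq_zero_left (s.two a)

theorem bb_conj (s : Sys H Lam U) (g : H) {ν : M} (hν : ν ∈ Lam) {b : H} (hb : b ∈ (bb (U ν) : Subgroup H)) :
    g * b * g⁻¹ ∈ (bb (U (g • ν)) : Subgroup H) := by
  refine ⟨fun u hu => ?_, fun m => ?_⟩
  · rw [mul_smul, mul_smul, bb_fix hb (s.mem_smul g hν hu), smul_inv_smul]
  · have h1 := s.conj g hν (bb_sub hb (g⁻¹ • m))
    rwa [smul_sub, smul_inv_smul, ← mul_smul, ← mul_smul] at h1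

theorem bb_conj' (s : Sys H Lam U) (g : H) {ν : M} (hν : ν ∈ Lam) {b : H}
    (hb : b ∈ (bb (U (g • ν)) : Subgroup H)) : g⁻¹ * b * g ∈ (bb (U ν) : Subgroup H) := by
  have h1 := s.bb_conj g⁻¹ (s.smul g hν) hb
  rwa [inv_smul_smul, inv_inv] at h1

/-- (COLL) -/
theorem coll (s : Sys H Lam U) {ν : M} (hμ : mu ∈ Lam) (hν : ν ∈ Lam) (h1 : ν ∈ U mu) (h2 : ν ≠ mu) :
    ν + mu ∈ Lam := by
  have h3 : ν ∉ AddSubgroup.zmultiples mu := by
    intro h4
    rw [AddSubgroup.mem_zmultiples_iff] at h4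
    obtain ⟨k, hk⟩ := h4
    rcases Int.even_or_odd' k with ⟨c, hc | hc⟩
    · rw [hc, mul_comm, mul_smul, two_smul, s.two, smul_zero] at hk
      exact s.ne (hk ▸ hν)
    · rw [hc, add_smul, mul_comm, mul_smul, two_smul, s.two, smul_zero, zero_add, one_smul] at hk
      exact h2 hk.symm
  obtain ⟨φ, h4, h5⟩ := exists_fun s.two h3
  obtain ⟨k, -, h6⟩ := s.f2 hμ φ (h4 _ (AddSubgroup.mem_zmultiples mu))
  rw [← (h6 ν h1).2 (by rw [h5]; decide)]
  exact s.smul k hν

end Sys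

/-- `f ∈ B_λ#` inverts `h ≠ 1` of odd order. -/
structure Mv [Finite H] [Finite M] (Lam : Set M) (U : M → AddSubgroup M) (lam : M) (f h : H) : Prop where
  hl : lam ∈ Lam
  hf : f ∈ (bb (U lam) : Subgroup H)
  hf1 : f ≠ 1
  hh : h ≠ 1
  odd : Odd (orderOf h)
  inv : f * h * f⁻¹ = h⁻¹

namespace Mv

variable [Finite H] [Finite M] {Lam : Set M} {U : M → AddSubgroup M} {lam : M} {A : Subgroup H} {f h : H}

theorem fh (v : Mv Lam U lam f h) : f * h = h⁻¹ * f := by rw [← v.inv, inv_mul_cancel_right]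

theorem fh' (v : Mv Lam U lam f h) : f * h⁻¹ = h * f := by
  have h1 := congrArg (·⁻¹) v.inv
  simp only [mul_inv_rev, inv_inv] at h1
  calc f * h⁻¹ = f * (h⁻¹ * f⁻¹) * f := by group
    _ = h * f := by rw [h1]

/-- `h f h⁻¹ = h² f` -/
theorem g_eq (v : Mv Lam U lam f h) : h * f * h⁻¹ = h * h * f := by
  rw [mul_assoc, v.fh', mul_assoc]

theorem mu (s : Sys H Lam U) (v : Mv Lam U lam f h) : h • lam ∈ Lam := s.smul h v.hl

theorem g_mem (s : Sys H Lam U) (v : Mv Lam U lam f h) : h * h * f ∈ (bb (U (h • lam)) : Subgroup H) := by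
  rw [← v.g_eq]
  exact s.bb_conj h v.hl v.hf

theorem hmov (s : Sys H Lam U) (v : Mv Lam U lam f h) : h • lam ≠ lam := by
  intro h1
  have h2 := v.g_mem s
  rw [h1] at h2
  have h3 : h * h ∈ (bb (U lam) : Subgroup H) := by
    have := (bb (U lam)).mul_mem h2 ((bb (U lam)).inv_mem v.hf)
    rwa [mul_inv_cancel_right] at this
  have h4 : h * h = 1 := s.sq (mem_of_sq v.odd h3)
  exact v.hh (Subgroup.mem_bot.1 (mem_of_sq v.odd (T := ⊥) (Subgroup.mem_bot.2 h4)))

theorem fmov (s : Sys H Lam U) (v : Mv Lam U lam f h) : f • h • lam ≠ h • lam := by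
  intro h1
  rw [← mul_smul, v.fh, mul_smul, bb_fix v.hf (s.mem v.hl), inv_smul_eq_iff, ← mul_smul] at h1
  exact v.hmov s (fix_of_sq v.odd h1.symm)

theorem fix (s : Sys H Lam U) (v : Mv Lam U lam f h) {u : M} (hu : u ∈ U (h • lam)) (hf : f • u = u) :
    h • u = u ∧ u ∈ U lam := by
  have h1 := bb_fix (v.g_mem s) hu
  rw [mul_smul, hf] at h1
  have h2 := fix_of_sq v.odd h1
  refine ⟨h2, ?_⟩
  have h3 := s.mem_smul h v.hl hu
  rwa [inv_smul_fix h2] at h3

theorem hD (s : Sys H Lam U) (v : Mv Lam U lam f h) {u : M} (hu : u ∈ U lam ⊓ U (h • lam)) : h • u = u :=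
  (v.fix s hu.2 (bb_fix v.hf hu.1)).1

theorem lam_notMem (s : Sys H Lam U) (v : Mv Lam U lam f h) : lam ∉ U lam ⊓ U (h • lam) := fun h1 =>
  v.hmov s (v.hD s h1)

theorem f'_lam (s : Sys H Lam U) (v : Mv Lam U lam f h) : (h * f) • lam = h • lam := by
  rw [mul_smul, bb_fix v.hf (s.mem v.hl)]

theorem f'_mu (s : Sys H Lam U) (v : Mv Lam U lam f h) : (h * f) • h • lam = lam := by
  rw [← mul_smul, mul_assoc, v.fh, mul_smul, mul_smul, smul_inv_smul, bb_fix v.hf (s.mem v.hl)]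

theorem f'_D (s : Sys H Lam U) (v : Mv Lam U lam f h) {u : M} (hu : u ∈ U lam ⊓ U (h • lam)) : (h * f) • u = u := by
  rw [mul_smul, bb_fix v.hf hu.1, v.hD s hu]

/-- `f'` is trivial on `M / (U_λ + U_μ)` -/
theorem f'_sub (s : Sys H Lam U) (v : Mv Lam U lam f h) {W : AddSubgroup M} (h1 : U lam ≤ W) (h2 : U (h • lam) ≤ W)
    (m : M) : (h * f) • m - m ∈ W := by
  let T : Submonoid H :=
    { carrier := {t | ∀ m : M, t • m - m ∈ W}
      mul_mem' := by
        intro a b ha hb m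
        have h3 : (a * b) • m - m = (a • (b • m - m) - (b • m - m)) + (b • m - m) + (a • m - m) := by
          rw [mul_smul, smul_sub]
          abel
        rw [h3]
        exact W.add_mem (W.add_mem (ha _) (hb _)) (ha _)
      one_mem' := fun m => by rw [one_smul, sub_self]; exact W.zero_mem }
  have h3 : f ∈ T := fun m => h1 (bb_sub v.hf m)
  have h4 : h * h * f ∈ T := fun m => h2 (bb_sub (v.g_mem s) m)
  have h5 : h * h ∈ T := by
    have := T.mul_mem h4 h3
    rwa [mul_assoc, s.sq v.hf, mul_one] at this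
  have h6 : h ∈ T := by
    obtain ⟨k, hk⟩ := pow_of_sq v.odd
    rw [← hk]
    exact T.pow_mem h5 k
  exact T.mul_mem h6 h3 m

/-- (2)(i) -/
theorem two_i (s : Sys H Lam U) (v : Mv Lam U lam f h) {T : AddSubgroup M}
    (hT : ∀ r ∈ T, r ∈ U lam ⊓ U (h • lam) → r ∉ Lam) {e : H} (he : ∀ m : M, e • m - m ∈ T)
    (h1 : e • h • lam - h • lam ∈ U lam ⊓ U (h • lam)) : e • h • lam = h • lam := by
  by_contra h2
  have h3 : e • h • lam ∈ U (h • lam) := by
    have := (U (h • lam)).add_mem h1.2 (s.mem (v.mu s))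
    rwa [sub_add_cancel] at this
  have h4 := s.coll (v.mu s) (s.smul e (v.mu s)) h3 h2
  rw [← s.sub_eq] at h4
  exact hT _ (he _) h1 h4

/-- (2)(ii) -/
theorem two_ii (s : Sys H Lam U) (v : Mv Lam U lam f h) {T : AddSubgroup M}
    (hT : ∀ r ∈ T, r ∈ U lam ⊓ U (h • lam) → r ∉ Lam) {b : H} (hb : b ∈ (bb (U lam) : Subgroup H))
    (hb' : ∀ m : M, b • m - m ∈ T) (hm : b • h • lam = h • lam) {g : H} (hg : g ∈ (bb (U (h • lam)) : Subgroup H)) :
    b • (g • lam - lam) = g • lam - lam := by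
  have h0 := v.mu s
  have hl : b • lam = lam := bb_fix hb (s.mem v.hl)
  have h1 : g • lam - lam ∈ U (h • lam) := bb_sub hg lam
  have h2 : b • (g • lam - lam) ∈ U (h • lam) := by
    have := s.conj b h0 h1
    rwa [hm] at this
  have h3 : b • (g • lam - lam) - (g • lam - lam) ∈ U lam ⊓ U (h • lam) :=
    ⟨bb_sub hb _, (U (h • lam)).sub_mem h2 h1⟩
  have h4 : b • g • lam = g • lam + (b • (g • lam - lam) - (g • lam - lam)) := by
    rw [smul_sub, hl]
    abel
  by_contra h5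
  have h6 : b • (g • lam - lam) - (g • lam - lam) ∈ U (g • lam) := by
    have := s.conj g v.hl h3.1
    rwa [bb_fix hg h3.2] at this
  have h7 : b • g • lam ∈ U (g • lam) := by
    rw [h4]
    exact (U (g • lam)).add_mem (s.mem (s.smul g v.hl)) h6
  have h8 : b • g • lam ≠ g • lam := by
    intro h9
    rw [h9] at h4
    exact h5 (sub_eq_zero.1 (left_eq_add.1 h4))
  have h9 := s.coll (s.smul g v.hl) (s.smul b (s.smul g v.hl)) h7 h8
  have h10 : b • g • lam + g • lam = b • (g • lam - lam) - (g • lam - lam) := by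
    rw [h4, add_comm, ← add_assoc, s.two, zero_add]
  rw [h10] at h9
  exact hT _ (hb' _) h3 h9

end Mv

/-- minimal exact subgroups of `B_λ` -/
structure ME [Finite H] [Finite M] (U : M → AddSubgroup M) (lam : M) (A : Subgroup H) : Prop where
  le : A ≤ bb (U lam)
  ne : A ≠ ⊥
  ex : Nat.card A * Nat.card (cv M A) = Nat.card M
  min : ∀ B : Subgroup H, B ≤ A → B ≠ ⊥ → B ≠ A → Nat.card B * Nat.card (cv M B) < Nat.card M

/-- The setting: `A` minimal exact, no line vector in `[M, A]`, `f ∈ A#`. -/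
structure Fx [Finite H] [Finite M] (Lam : Set M) (U : M → AddSubgroup M) (lam : M) (A : Subgroup H) (f h : H) :
    Prop where
  s : Sys H Lam U
  me : ME U lam A
  v : Mv Lam U lam f h
  fA : f ∈ A
  free : ∀ r ∈ cm M A, r ∉ Lam

namespace Fx

variable [Finite H] [Finite M] {Lam : Set M} {U : M → AddSubgroup M} {lam : M} {A : Subgroup H} {f h : H}

theorem cvD (x : Fx Lam U lam A f h) : U (h • lam) ⊓ cv M A = U lam ⊓ U (h • lam) := by
  refine le_antisymm ?_ ?_
  · rintro u ⟨h1, h2⟩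
    exact ⟨(x.v.fix x.s h1 (h2 f x.fA)).2, h1⟩
  · rintro u ⟨h1, h2⟩
    exact ⟨h2, le_cv_of_le_bb x.me.le h1⟩

theorem card_U (x : Fx Lam U lam A f h) : Nat.card (U (h • lam)) = Nat.card (U lam) := by
  refine Nat.card_congr
    { toFun := fun u => ⟨h⁻¹ • (u : M), x.s.mem_smul h x.v.hl u.2⟩
      invFun := fun u => ⟨h • (u : M), x.s.conj h x.v.hl u.2⟩
      left_inv := fun u => Subtype.ext (smul_inv_smul h (u : M))
      right_inv := fun u => Subtype.ext (inv_smul_smul h (u : M)) }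

/-- (2)(i): `[μ, A] ∩ D = 0` -/
theorem disj (x : Fx Lam U lam A f h) : cs (U lam) (h • lam) A x.me.le ⊓ (U lam ⊓ U (h • lam)) = ⊥ := by
  rw [eq_bot_iff]
  rintro u ⟨⟨a, ha, rfl⟩, h2⟩
  rw [AddSubgroup.mem_bot, sub_eq_zero]
  exact x.v.two_i x.s (T := cm M A) (fun r hr _ => x.free r hr) (fun m => sub_mem_cm ha m) h2

theorem f_notMem (x : Fx Lam U lam A f h) : f ∉ ca (h • lam) A := fun h1 => x.v.fmov x.s h1.2

theorem card_eq_of_smul (g : H) {X Y : AddSubgroup M} (h1 : ∀ u ∈ X, g • u ∈ Y) (h2 : ∀ u ∈ Y, g⁻¹ • u ∈ X) :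
    Nat.card X = Nat.card Y :=
  Nat.card_congr
    { toFun := fun u => ⟨g • (u : M), h1 u u.2⟩
      invFun := fun u => ⟨g⁻¹ • (u : M), h2 u u.2⟩
      left_inv := fun u => Subtype.ext (inv_smul_smul g (u : M))
      right_inv := fun u => Subtype.ext (smul_inv_smul g (u : M)) }

theorem smul_sub_conj (g a : H) (m : M) : g • (a • m - m) = (g * a * g⁻¹) • g • m - g • m := by
  rw [smul_sub, ← mul_smul, ← mul_smul, inv_mul_cancel_right, mul_smul]

theorem f'_sq (s : Sys H Lam U) (v : Mv Lam U lam f h) : (h * f)⁻¹ = h * f := by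
  rw [mul_inv_rev, s.inv_eq v.hf, v.fh']

theorem card_Z (s : Sys H Lam U) (v : Mv Lam U lam f h) :
    Nat.card (cs (U lam) (h • lam) (bb (U lam) : Subgroup H) le_rfl ⊔ (U lam ⊓ U (h • lam)) : AddSubgroup M) =
      Nat.card (cs (U (h • lam)) lam (bb (U (h • lam)) : Subgroup H) le_rfl ⊔ (U lam ⊓ U (h • lam)) :
        AddSubgroup M) := by
  refine card_eq_of_smul (h * f) (fun u hu => ?_) (fun u hu => ?_)
  · rw [AddSubgroup.mem_sup] at hu ⊢
    obtain ⟨_, ⟨b, hb, rfl⟩, d, hd, rfl⟩ := hu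
    refine ⟨_, ⟨(h * f) * b * (h * f)⁻¹, ?_, rfl⟩, d, hd, ?_⟩
    · have := s.bb_conj (h * f) v.hl hb
      rwa [v.f'_lam s] at this
    · rw [smul_add, smul_sub_conj, v.f'_mu s, v.f'_D s hd]
  · rw [f'_sq s v]
    rw [AddSubgroup.mem_sup] at hu ⊢
    obtain ⟨_, ⟨b, hb, rfl⟩, d, hd, rfl⟩ := hu
    refine ⟨_, ⟨(h * f) * b * (h * f)⁻¹, ?_, rfl⟩, d, hd, ?_⟩
    · have := s.bb_conj (h * f) (v.mu s) hb
      rwa [v.f'_mu s] at this
    · rw [smul_add, smul_sub_conj, v.f'_lam s, v.f'_D s hd]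

/-- (2): REG -/
theorem ca_eq_bot (x : Fx Lam U lam A f h) : ca (h • lam) A = ⊥ := by
  by_contra hP
  have s := x.s
  have hP' : ca (h • lam) A ≠ A := fun h1 => x.f_notMem (by rw [h1]; exact x.fA)
  have h1 := x.me.min (ca (h • lam) A) inf_le_left hP hP'
  have h2 := card_cs (m := h • lam) x.me.le
  have h3 := card_Z s x.v
  have h4 : Nat.card (cs (U lam) (h • lam) A x.me.le) * Nat.card (U lam ⊓ U (h • lam) : AddSubgroup M) ≤
      Nat.card (cs (U (h • lam)) lam (bb (U (h • lam)) : Subgroup H) le_rfl ⊔ (U lam ⊓ U (h • lam)) :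
        AddSubgroup M) := by
    rw [← h3, ← card_sup_of_disj x.disj]
    exact card_le (sup_le_sup_right (fun u hu => by
      obtain ⟨a, ha, h5⟩ := hu
      exact ⟨a, x.me.le ha, h5⟩) _)
  have h5 : cs (U (h • lam)) lam (bb (U (h • lam)) : Subgroup H) le_rfl ⊔ (U lam ⊓ U (h • lam)) ≤
      cv M (ca (h • lam) A) := by
    refine sup_le ?_ fun u hu a ha => bb_fix (x.me.le ha.1) hu.1
    rintro _ ⟨g, hg, rfl⟩ b hb
    exact x.v.two_ii s (T := cm M A) (fun r hr _ => x.free r hr) (x.me.le hb.1) (fun m => sub_mem_cm hb.1 m) hb.2 hg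
  have h6 : (cs (U (h • lam)) lam (bb (U (h • lam)) : Subgroup H) le_rfl ⊔ (U lam ⊓ U (h • lam))) ⊓ cv M A =
      U lam ⊓ U (h • lam) := by
    refine le_antisymm ?_ (le_inf le_sup_right (le_trans inf_le_left (le_cv_of_le_bb x.me.le)))
    conv_rhs => rw [← x.cvD]
    exact inf_le_inf_right _ (sup_le cs_le inf_le_right)
  have h7 := card_sup_inf (cs (U (h • lam)) lam (bb (U (h • lam)) : Subgroup H) le_rfl ⊔ (U lam ⊓ U (h • lam)))
    (cv M A)
  rw [h6] at h7
  have h8 := card_le (sup_le h5 (cv_anti (M := M) (inf_le_left : ca (h • lam) A ≤ A)))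
  have h9 := x.me.ex
  have hd : 0 < Nat.card (U lam ⊓ U (h • lam) : AddSubgroup M) := Nat.card_pos
  rw [h2] at h9
  rw [← h9] at h1
  clear h2 h3 h5 h6 h9 hP hP'
  generalize Nat.card (U lam ⊓ U (h • lam) : AddSubgroup M) = d at *
  generalize Nat.card (ca (h • lam) A) = p at *
  generalize Nat.card (cv M (ca (h • lam) A)) = t at *
  generalize Nat.card (cs (U lam) (h • lam) A x.me.le) = a at *
  generalize Nat.card ((cs (U (h • lam)) lam (bb (U (h • lam)) : Subgroup H) le_rfl ⊔ (U lam ⊓ U (h • lam))) ⊔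
    cv M A : AddSubgroup M) = w at *
  generalize Nat.card (cs (U (h • lam)) lam (bb (U (h • lam)) : Subgroup H) le_rfl ⊔ (U lam ⊓ U (h • lam)) :
    AddSubgroup M) = z at *
  generalize Nat.card (cv M A) = c at *
  -- p * t < p * a * c, a * d ≤ z, w * d = z * c, w ≤ t
  have k1 : p * (a * d) * c ≤ p * z * c := Nat.mul_le_mul_right _ (Nat.mul_le_mul_left _ h4)
  have k2 : p * z * c ≤ p * (t * d) := by
    rw [mul_assoc, ← h7]
    exact Nat.mul_le_mul_left _ (Nat.mul_le_mul_right _ h8)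
  have k3 : p * t * d < p * a * c * d := Nat.mul_lt_mul_of_pos_right h1 hd
  have k4 : p * (a * d) * c = p * a * c * d := by ring
  have k5 : p * (t * d) = p * t * d := by ring
  omega

/-- the three cardinalities of (2) -/
theorem card_A (x : Fx Lam U lam A f h) :
    Nat.card A * Nat.card (U lam ⊓ U (h • lam) : AddSubgroup M) = Nat.card (U lam) ∧
      cs (U lam) (h • lam) A x.me.le ⊔ (U lam ⊓ U (h • lam)) = U lam ∧ U (h • lam) ⊔ cv M A = ⊤ ∧
      Nat.card (cs (U lam) (h • lam) A x.me.le) = Nat.card A := by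
  have h1 := card_cs (m := h • lam) x.me.le
  rw [x.ca_eq_bot, Subgroup.card_bot, one_mul] at h1
  have h2 := card_sup_of_disj x.disj
  have h3 := card_sup_inf (U (h • lam)) (cv M A)
  rw [x.cvD, x.card_U] at h3
  have h4 : cs (U lam) (h • lam) A x.me.le ⊔ (U lam ⊓ U (h • lam)) ≤ U lam := sup_le cs_le inf_le_left
  have h5 := card_le h4
  have h6 : Nat.card (U (h • lam) ⊔ cv M A : AddSubgroup M) ≤ Nat.card M :=
    Nat.card_le_card_of_injective _ Subtype.val_injective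
  have h7 := x.me.ex
  have hd : 0 < Nat.card (U lam ⊓ U (h • lam) : AddSubgroup M) := Nat.card_pos
  have hc : 0 < Nat.card (cv M A) := Nat.card_pos
  rw [h2, ← h1] at h5
  rw [← h1] at h2
  have h8 : Nat.card (U lam) * Nat.card (cv M A) ≤
      Nat.card A * Nat.card (U lam ⊓ U (h • lam) : AddSubgroup M) * Nat.card (cv M A) := by
    rw [← h3, mul_right_comm, h7]
    exact Nat.mul_le_mul_right _ h6
  have h9 := le_antisymm h5 (Nat.le_of_mul_le_mul_right h8 hc)
  refine ⟨h9, eq_of_card_le h4 (by rw [h2, h9]), ?_, h1.symm⟩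
  refine AddSubgroup.eq_top_of_le_card _ ?_
  have h10 : Nat.card M * Nat.card (U lam ⊓ U (h • lam) : AddSubgroup M) ≤
      Nat.card (U (h • lam) ⊔ cv M A : AddSubgroup M) * Nat.card (U lam ⊓ U (h • lam) : AddSubgroup M) := by
    rw [h3, ← h9, ← h7]
    exact le_of_eq (by ring)
  exact Nat.le_of_mul_le_mul_right h10 hd

end Fx

/-! ### (1), (3) -/

section

variable [Finite H] [Finite M] {Lam : Set M} {U : M → AddSubgroup M} {lam : M} {A : Subgroup H}

theorem mem_zm (s : Sys H Lam U) {m x : M} (hx : x ∈ AddSubgroup.zmultiples m) : x = 0 ∨ x = m := by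
  rw [AddSubgroup.mem_zmultiples_iff] at hx
  obtain ⟨k, hk⟩ := hx
  rcases Int.even_or_odd' k with ⟨c, hc | hc⟩
  · left
    rw [← hk, hc, mul_comm, mul_smul, two_smul, s.two, smul_zero]
  · right
    rw [← hk, hc, add_smul, mul_comm, mul_smul, two_smul, s.two, smul_zero, zero_add, one_smul]

/-- (1) -/
theorem add_notMem (s : Sys H Lam U) (hl : lam ∈ Lam) {r : M} (hU : r ∈ U lam) (h0 : r ≠ 0) (hr : r ∉ Lam) :
    r + lam ∉ Lam := by
  intro h1
  have h2 : r ∉ AddSubgroup.zmultiples lam := by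
    intro h3
    rcases mem_zm s h3 with h4 | h4
    · exact h0 h4
    · exact hr (h4 ▸ hl)
  obtain ⟨φ, h4, h5⟩ := exists_fun s.two h2
  obtain ⟨k, -, h6⟩ := s.f2 hl φ (h4 _ (AddSubgroup.mem_zmultiples lam))
  rw [← (h6 r hU).2 (by rw [h5]; decide)] at h1
  have h7 := s.smul k⁻¹ h1
  rw [inv_smul_smul] at h7
  exact hr h7

/-- (1): `(R₁ + ⟨λ⟩) ∩ Λ = {λ}` -/
theorem eq_lam (s : Sys H Lam U) (hl : lam ∈ Lam) (hA : A ≤ bb (U lam)) (free : ∀ r ∈ cm M A, r ∉ Lam) {r : M}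
    (hr : r ∈ cm M A ⊔ AddSubgroup.zmultiples lam) (h1 : r ∈ Lam) : r = lam := by
  rw [AddSubgroup.mem_sup] at hr
  obtain ⟨x, hx, y, hy, rfl⟩ := hr
  rcases mem_zm s hy with rfl | rfl
  · rw [add_zero] at h1
    exact absurd h1 (free x hx)
  · by_cases hx0 : x = 0
    · rw [hx0, zero_add]
    · exact absurd h1 (add_notMem s hl (cm_le_of_le_bb hA hx) hx0 (free x hx))

/-- (3) -/
theorem cv_eq (s : Sys H Lam U) (hl : lam ∈ Lam) (me : ME U lam A) (free : ∀ r ∈ cm M A, r ∉ Lam) {a : H}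
    (ha : a ∈ A) (ha1 : a ≠ 1) {m : M} (hm : a • m = m) : m ∈ cv M A := by
  obtain ⟨h, h1, h2, h3⟩ := s.bs hl a (me.le ha) ha1
  have x : Fx Lam U lam A a h := ⟨s, me, ⟨hl, me.le ha, ha1, h1, h2, h3⟩, ha, free⟩
  have h4 : m ∈ U (h • lam) ⊔ cv M A := by
    rw [x.card_A.2.2.1]
    exact AddSubgroup.mem_top m
  rw [AddSubgroup.mem_sup] at h4
  obtain ⟨u, hu, c, hc, rfl⟩ := h4
  rw [smul_add, hc a ha, add_left_inj] at hm
  exact (cv M A).add_mem (le_cv_of_le_bb me.le (x.v.fix s hu hm).2) hc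

open Pointwise in
/-- `g A g⁻¹` -/
def cj (g : H) (A : Subgroup H) : Subgroup H := MulAut.conj g • A

theorem mem_cj {g : H} {A : Subgroup H} {x : H} : x ∈ cj g A ↔ g⁻¹ * x * g ∈ A := by
  unfold cj
  rw [Subgroup.mem_pointwise_smul_iff_inv_smul_mem, ← map_inv, MulAut.smul_def, MulAut.conj_apply, inv_inv]

theorem conj_mem_cj {g : H} {A : Subgroup H} {a : H} (ha : a ∈ A) : g * a * g⁻¹ ∈ cj g A := by
  rw [mem_cj, ← mul_assoc, ← mul_assoc, inv_mul_cancel, one_mul, inv_mul_cancel_right]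
  exact ha

theorem cj_mono {g : H} {A B : Subgroup H} (h : A ≤ B) : cj g A ≤ cj g B := fun _ hx => mem_cj.2 (h (mem_cj.1 hx))

open Pointwise in
theorem cj_inv (g : H) (A : Subgroup H) : cj g (cj g⁻¹ A) = A := by
  unfold cj
  rw [map_inv, smul_inv_smul]

theorem cj_bot (g : H) : cj g (⊥ : Subgroup H) = ⊥ := by
  ext x
  rw [mem_cj, Subgroup.mem_bot, Subgroup.mem_bot]
  constructor
  · intro h
    have h1 : x = g * (g⁻¹ * x * g) * g⁻¹ := by group
    rw [h1, h]
    group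
  · rintro rfl
    group

theorem card_cj (g : H) (A : Subgroup H) : Nat.card (cj g A) = Nat.card A :=
  (Nat.card_congr
    { toFun := fun a : A => (⟨g * a * g⁻¹, conj_mem_cj a.2⟩ : cj g A)
      invFun := fun x => ⟨g⁻¹ * x * g, mem_cj.1 x.2⟩
      left_inv := fun a => Subtype.ext (by simp [mul_assoc])
      right_inv := fun x => Subtype.ext (by simp [mul_assoc]) }).symm

theorem card_cv_cj (g : H) (A : Subgroup H) : Nat.card (cv M (cj g A)) = Nat.card (cv M A) := by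
  refine (Fx.card_eq_of_smul g (fun u hu => ?_) (fun u hu => ?_)).symm
  · intro x hx
    have h1 := hu _ (mem_cj.1 hx)
    rw [mul_smul, mul_smul, inv_smul_eq_iff] at h1
    exact h1
  · intro a ha
    have h1 := hu _ (conj_mem_cj (g := g) ha)
    rwa [mul_smul, mul_smul, ← eq_inv_smul_iff] at h1

theorem ME.conj (s : Sys H Lam U) (hl : lam ∈ Lam) (me : ME U lam A) {k : H} (hk : k • lam = lam) :
    ME U lam (cj k A) := by
  have hi : ∀ B : Subgroup H, cj k⁻¹ (cj k B) = B := fun B => by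
    have := cj_inv k⁻¹ B
    rwa [inv_inv] at this
  refine ⟨fun x hx => ?_, fun h => me.ne ?_, by rw [card_cj, card_cv_cj, me.ex], fun B hB h1 h2 => ?_⟩
  · have h1 := s.bb_conj k hl (me.le (mem_cj.1 hx))
    rw [hk] at h1
    have h2 : k * (k⁻¹ * x * k) * k⁻¹ = x := by group
    rwa [h2] at h1
  · rw [← hi A, h, cj_bot]
  · have h3 := me.min (cj k⁻¹ B) (by rw [← hi A]; exact cj_mono hB)
      (fun h => h1 (by rw [← cj_inv k B, h, cj_bot])) (fun h => h2 (by rw [← cj_inv k B, h]))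
    rwa [card_cj, card_cv_cj] at h3

end

namespace Fx

variable [Finite H] [Finite M] {Lam : Set M} {U : M → AddSubgroup M} {lam : M} {A : Subgroup H} {f h : H}

theorem f'_f' (s : Sys H Lam U) (v : Mv Lam U lam f h) (m : M) : (h * f) • (h * f) • m = m := by
  have h1 : (h * f) * (h * f) = 1 := by
    calc (h * f) * (h * f) = (h * f) * (h * f)⁻¹ := by rw [f'_sq s v]
      _ = 1 := mul_inv_cancel _
  rw [← mul_smul, h1, one_smul]

/-- `U_μ = [λ, B] + D`, `B = f' A f'⁻¹` -/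
theorem u_mu (x : Fx Lam U lam A f h) {u : M} (hu : u ∈ U (h • lam)) :
    ∃ a ∈ A, ∃ d ∈ U lam ⊓ U (h • lam), u = (((h * f) * a * (h * f)⁻¹) • lam - lam) + d := by
  have h1 : (h * f) • u ∈ U lam := by
    have := x.s.conj (h * f) (x.v.mu x.s) hu
    rwa [x.v.f'_mu x.s] at this
  rw [← x.card_A.2.1, AddSubgroup.mem_sup] at h1
  obtain ⟨_, ⟨a, ha, rfl⟩, d, hd, h2⟩ := h1
  refine ⟨a, ha, d, hd, ?_⟩
  have h3 : u = (h * f) • (h * f) • u := (f'_f' x.s x.v u).symm
  have h4 : (h * f) • (a • h • lam - h • lam + d) = u := by rw [h2, ← h3]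
  rw [← h4, smul_add, smul_sub_conj, x.v.f'_mu x.s, x.v.f'_D x.s hd]

/-- `M = C_M(B) + U_λ` -/
theorem m_eq (x : Fx Lam U lam A f h) (m : M) : ∃ u ∈ U lam, ∃ c : M,
    (∀ a ∈ A, ((h * f) * a * (h * f)⁻¹) • c = c) ∧ m = u + c := by
  have h1 : (h * f) • m ∈ U (h • lam) ⊔ cv M A := by
    rw [x.card_A.2.2.1]
    exact AddSubgroup.mem_top _
  rw [AddSubgroup.mem_sup] at h1
  obtain ⟨u, hu, c, hc, h2⟩ := h1
  have h3 : m = (h * f) • (h * f) • m := (f'_f' x.s x.v m).symm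
  refine ⟨(h * f) • u, ?_, (h * f) • c, fun a ha => ?_, by rw [← smul_add, h2, ← h3]⟩
  · have := x.s.conj (h * f) (x.v.mu x.s) hu
    rwa [x.v.f'_mu x.s] at this
  · rw [mul_smul, inv_smul_smul, mul_smul, hc a ha]

/-- the subgroup of `bb (U λ)` of the elements with `[M, e] ≤ T` -/
def tb (s : Sys H Lam U) (lam : M) (T : AddSubgroup M) : Subgroup H where
  carrier := {e | e ∈ (bb (U lam) : Subgroup H) ∧ ∀ m : M, e • m - m ∈ T}
  mul_mem' := by
    rintro a b ⟨ha, ha'⟩ ⟨hb, hb'⟩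
    refine ⟨(bb (U lam)).mul_mem ha hb, fun m => ?_⟩
    rw [sub_mul ha hb]
    exact T.add_mem (ha' m) (hb' m)
  one_mem' := ⟨(bb (U lam)).one_mem, fun m => by rw [one_smul, sub_self]; exact T.zero_mem⟩
  inv_mem' := by
    rintro a ⟨ha, ha'⟩
    rw [s.inv_eq ha]
    exact ⟨ha, ha'⟩

/-- (4), first half: every `b ∈ A_φ` acts on `U_μ` as an element of `A`. -/
theorem four_a (x : Fx Lam U lam A f h) {φ : M →+ ZMod 2} {k : H} (hk : k • lam = lam)
    (hφ : ∀ u ∈ U lam, (φ u = 0 → k • u = u) ∧ (φ u ≠ 0 → k • u = u + lam)) {b : H} (hb : b ∈ cj k A) :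
    ∃ a ∈ A, ∀ u ∈ U (h • lam), b • u = a • u := by
  have s := x.s
  have hl := x.v.hl
  have me := x.me
  have mek := me.conj s hl hk
  let T : AddSubgroup M := cm M A ⊔ AddSubgroup.zmultiples lam
  have hT : ∀ r ∈ T, r ∈ U lam ⊓ U (h • lam) → r ∉ Lam := by
    intro r hr hD h1
    rw [eq_lam s hl me.le x.free hr h1] at hD
    exact x.v.lam_notMem s hD
  have hP : A ⊔ cj k A ≤ tb s lam T := by
    refine sup_le (fun a ha => ⟨me.le ha, fun m => le_sup_left (a := cm M A) (sub_mem_cm ha m)⟩) fun c hc =>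
      ⟨mek.le hc, fun m => ?_⟩
    have hc' := mem_cj.1 hc
    have h1 : c • m - m = k • ((k⁻¹ * c * k) • (k⁻¹ • m) - k⁻¹ • m) := by
      rw [smul_sub_conj, smul_inv_smul]
      congr 2
      group
    have h2 := sub_mem_cm hc' (k⁻¹ • m)
    rw [h1]
    have h3 := hφ _ (cm_le_of_le_bb me.le h2)
    by_cases h4 : φ ((k⁻¹ * c * k) • (k⁻¹ • m) - k⁻¹ • m) = 0
    · rw [h3.1 h4]
      exact AddSubgroup.mem_sup_left h2
    · rw [h3.2 h4]
      exact AddSubgroup.add_mem_sup h2 (AddSubgroup.mem_zmultiples lam)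
  have hPb : A ⊔ cj k A ≤ bb (U lam) := fun e he => (hP he).1
  have h1 : cs (U lam) (h • lam) (A ⊔ cj k A) hPb ⊓ (U lam ⊓ U (h • lam)) = ⊥ := by
    rw [eq_bot_iff]
    rintro u ⟨⟨a, ha, rfl⟩, h2⟩
    rw [AddSubgroup.mem_bot, sub_eq_zero]
    exact x.v.two_i s hT (hP ha).2 h2
  have h2 := card_sup_of_disj h1
  have h3 := card_le (sup_le cs_le inf_le_left : cs (U lam) (h • lam) (A ⊔ cj k A) hPb ⊔ (U lam ⊓ U (h • lam)) ≤ U lam)
  rw [h2, ← x.card_A.1] at h3
  have h4 : cs (U lam) (h • lam) A me.le ≤ cs (U lam) (h • lam) (A ⊔ cj k A) hPb := by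
    rintro _ ⟨a, ha, rfl⟩
    exact ⟨a, Subgroup.mem_sup_left ha, rfl⟩
  have h5 := eq_of_card_le h4 (by rw [x.card_A.2.2.2]; exact Nat.le_of_mul_le_mul_right h3 Nat.card_pos)
  have hb' : b ∈ A ⊔ cj k A := Subgroup.mem_sup_right hb
  have h6 : b • h • lam - h • lam ∈ cs (U lam) (h • lam) A me.le := by
    rw [h5]
    exact ⟨b, hb', rfl⟩
  obtain ⟨a, ha, h7⟩ := h6
  refine ⟨a, ha, fun u hu => ?_⟩
  have h8 : a • h • lam = b • h • lam := sub_left_inj.1 h7
  have he : a⁻¹ * b ∈ A ⊔ cj k A := Subgroup.mul_mem _ (Subgroup.inv_mem _ (Subgroup.mem_sup_left ha)) hb'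
  have h9 : (a⁻¹ * b) • h • lam = h • lam := by rw [mul_smul, ← h8, inv_smul_smul]
  have h10 : (a⁻¹ * b) • u = u := by
    obtain ⟨a', ha', d, hd, rfl⟩ := x.u_mu hu
    have h11 : (h * f) * a' * (h * f)⁻¹ ∈ (bb (U (h • lam)) : Subgroup H) := by
      have := s.bb_conj (h * f) hl (me.le ha')
      rwa [x.v.f'_lam s] at this
    rw [smul_add, bb_fix (hPb he) hd.1, x.v.two_ii s hT (hPb he) (hP he).2 h9 h11]
  rw [mul_smul, inv_smul_eq_iff] at h10
  exact h10

/-- (4) -/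
theorem four (x : Fx Lam U lam A f h) {φ : M →+ ZMod 2} {k : H} (hk : k • lam = lam)
    (hφ : ∀ u ∈ U lam, (φ u = 0 → k • u = u) ∧ (φ u ≠ 0 → k • u = u + lam)) {a₀ : H} (h0 : a₀ ∈ A)
    (h0' : φ (a₀ • h • lam - h • lam) ≠ 0) {b : H} (hb : b ∈ cj k A) {u : M} (hu : u ∈ U (h • lam)) : b • u = u := by
  have s := x.s
  have hl := x.v.hl
  have me := x.me
  have mek := me.conj s hl hk
  let A0 : Subgroup H := cj k A ⊓ fixingSubgroup H (U (h • lam) : Set M)
  suffices h1 : A0 = cj k A by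
    have h2 : b ∈ A0 := by rw [h1]; exact hb
    exact (mem_fixingSubgroup_iff H).1 h2.2 u hu
  by_contra h1
  by_cases h2 : A0 = ⊥
  · have h3 : ∀ b : cj k A, ∃ a : A, ∀ u ∈ U (h • lam), (b : H) • u = (a : H) • u := fun b => by
      obtain ⟨a, ha, h4⟩ := x.four_a hk hφ b.2
      exact ⟨⟨a, ha⟩, h4⟩
    choose F hF using h3
    have h4 : Function.Injective F := by
      intro b c hbc
      have h5 : (b : H)⁻¹ * c ∈ A0 := by
        refine ⟨(cj k A).mul_mem ((cj k A).inv_mem b.2) c.2, (mem_fixingSubgroup_iff H).2 fun u hu => ?_⟩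
        rw [mul_smul, hF c u hu, ← hbc, ← hF b u hu, inv_smul_smul]
      rw [h2, Subgroup.mem_bot, inv_mul_eq_one] at h5
      exact Subtype.ext h5
    have h5 : Function.Surjective F := by
      refine (Function.Injective.bijective_of_nat_card_le h4 ?_).2
      rw [card_cj]
    obtain ⟨b0, hb0⟩ := h5 ⟨a₀, h0⟩
    have h6 : (b0 : H) • h • lam = a₀ • h • lam := by
      rw [hF b0 _ (s.mem (x.v.mu s)), hb0]
    have h7 := mem_cj.1 b0.2
    have h8 : (b0 : H) • (h • lam) - h • lam =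
        k • ((k⁻¹ * b0 * k) • (k⁻¹ • h • lam) - k⁻¹ • h • lam) := by
      rw [smul_sub_conj, smul_inv_smul]
      congr 2
      group
    have h9 := sub_mem_cm h7 (k⁻¹ • h • lam)
    have h10 := hφ _ (cm_le_of_le_bb me.le h9)
    rw [h6] at h8
    by_cases h11 : φ ((k⁻¹ * b0 * k) • (k⁻¹ • h • lam) - k⁻¹ • h • lam) = 0
    · rw [h10.1 h11] at h8
      rw [h8] at h0'
      exact h0' h11
    · rw [h10.2 h11] at h8
      have h12 : lam ∈ cm M A := by
        have h13 := (cm M A).sub_mem (sub_mem_cm h0 (h • lam)) h9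
        rwa [h8, add_sub_cancel_left] at h13
      exact x.free lam h12 hl
  · have h3 := mek.min A0 inf_le_left h2 h1
    have h4 : U (h • lam) ⊓ cv M (cj k A) = U lam ⊓ U (h • lam) := by
      refine le_antisymm ?_ fun u hu => ⟨hu.2, le_cv_of_le_bb mek.le hu.1⟩
      rintro u ⟨h5, h6⟩
      obtain ⟨c, hc, hc'⟩ : ∃ c ∈ cj k A, c ∉ A0 := by
        by_contra h7
        push Not at h7
        exact h1 (le_antisymm inf_le_left h7)
      obtain ⟨a, ha, h7⟩ := x.four_a hk hφ hc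
      have h8 : a ≠ 1 := by
        rintro rfl
        exact hc' ⟨hc, (mem_fixingSubgroup_iff H).2 fun u hu => by rw [h7 u hu, one_smul]⟩
      have h9 : a • u = u := by rw [← h7 u h5, h6 c hc]
      rw [← x.cvD]
      exact ⟨h5, cv_eq s hl me x.free ha h8 h9⟩
    have h5 := card_sup_inf (U (h • lam)) (cv M (cj k A))
    rw [h4, x.card_U, ← x.card_A.1] at h5
    have h6 : Nat.card (U (h • lam) ⊔ cv M (cj k A) : AddSubgroup M) ≤ Nat.card (cv M A0) := by
      refine card_le (sup_le (fun u hu a ha => (mem_fixingSubgroup_iff H).1 ha.2 u hu) (cv_anti inf_le_left))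
    have h7 := mek.ex
    rw [card_cj] at h7
    have hd : 0 < Nat.card (U lam ⊓ U (h • lam) : AddSubgroup M) := Nat.card_pos
    have hA0 : 0 < Nat.card A0 := Nat.card_pos
    have k1 : Nat.card (cv M A0) * Nat.card (U lam ⊓ U (h • lam) : AddSubgroup M) <
        Nat.card M * Nat.card (U lam ⊓ U (h • lam) : AddSubgroup M) := by
      refine Nat.mul_lt_mul_of_pos_right (lt_of_le_of_lt ?_ h3) hd
      exact Nat.le_mul_of_pos_left _ hA0
    have k2 : Nat.card M * Nat.card (U lam ⊓ U (h • lam) : AddSubgroup M) =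
        Nat.card (U (h • lam) ⊔ cv M (cj k A) : AddSubgroup M) * Nat.card (U lam ⊓ U (h • lam) : AddSubgroup M) := by
      rw [h5, ← h7]
      ring
    have k3 := Nat.mul_le_mul_right (Nat.card (U lam ⊓ U (h • lam) : AddSubgroup M)) h6
    omega

/-- (5) -/
theorem five (x : Fx Lam U lam A f h) {φ : M →+ ZMod 2} {k : H} (hk : k • lam = lam)
    (hφ : ∀ u ∈ U lam, (φ u = 0 → k • u = u) ∧ (φ u ≠ 0 → k • u = u + lam)) {a₀ : H} (h0 : a₀ ∈ A)
    (h0' : φ (a₀ • h • lam - h • lam) ≠ 0)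
    (hU : ∀ u ∈ U lam, ∃ r ∈ cm M A, ∃ d ∈ U lam ⊓ U (h • lam), u = k • r + d) : False := by
  have s := x.s
  have hl := x.v.hl
  have me := x.me
  have mek := me.conj s hl hk
  have c1 : U lam ≤ cv M (cj k A) := le_cv_of_le_bb mek.le
  have c2 : U (h • lam) ≤ cv M (cj k A) := fun u hu b hb => x.four hk hφ h0 h0' hb hu
  -- `C_{B_λ}(C_φ) = A_φ`
  have hX : ∀ e : H, e ∈ (bb (U lam) : Subgroup H) → (∀ c ∈ cv M (cj k A), e • c = c) → e ∈ cj k A := by
    let X : Subgroup H := bb (U lam) ⊓ fixingSubgroup H (cv M (cj k A) : Set M)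
    have h1 : cj k A ≤ X := fun e he => ⟨mek.le he, (mem_fixingSubgroup_iff H).2 fun c hc => hc e he⟩
    have h2 := s.no hl X inf_le_left
    have h3 : cv M (cj k A) ≤ cv M X := fun c hc e he => (mem_fixingSubgroup_iff H).1 he.2 c hc
    have h4 : Nat.card X ≤ Nat.card (cj k A) := by
      have h5 := card_le h3
      have h6 := mek.ex
      have h7 : 0 < Nat.card (cv M (cj k A)) := Nat.card_pos
      refine Nat.le_of_mul_le_mul_right ?_ h7
      rw [h6]
      exact le_trans (Nat.mul_le_mul_left _ h5) h2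
    have h5 : cj k A = X := Subgroup.eq_of_le_of_card_ge h1 h4
    intro e he he'
    rw [h5]
    exact ⟨he, (mem_fixingSubgroup_iff H).2 he'⟩
  have hf' : ∀ c ∈ cv M (cj k A), (h * f) • c ∈ cv M (cj k A) := by
    intro c hc
    have h1 := (cv M (cj k A)).add_mem (x.v.f'_sub s c1 c2 c) hc
    rwa [sub_add_cancel] at h1
  let S : AddSubgroup M := (cm M A).comap (DistribSMul.toAddMonoidHom M (k⁻¹ * (h * f)⁻¹))
  have hS : ∀ v : M, v ∈ S ↔ k⁻¹ • (h * f)⁻¹ • v ∈ cm M A := fun v => by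
    rw [← mul_smul]
    exact Iff.rfl
  -- the commutator
  have key : ∀ y ∈ A, ∀ b ∈ cj k A, ∀ m : M,
      ((h * f) * y * (h * f)⁻¹) • (b • m - m) - (b • m - m) ∈ S := by
    intro y hy b hb m
    have hy' : (h * f) * y * (h * f)⁻¹ ∈ (bb (U (h • lam)) : Subgroup H) := by
      have := s.bb_conj (h * f) hl (me.le hy)
      rwa [x.v.f'_lam s] at this
    generalize (h * f) * y * (h * f)⁻¹ = z at hy'
    have hbm : b • h • lam = h • lam := c2 (s.mem (x.v.mu s)) b hb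
    have he1 : b * z * b⁻¹ * z⁻¹ ∈ (bb (U (h • lam)) : Subgroup H) := by
      refine (bb _).mul_mem ?_ ((bb _).inv_mem hy')
      have := s.bb_conj b (x.v.mu s) hy'
      rwa [hbm] at this
    have he2 : ∀ c ∈ cv M (cj k A), (b * z * b⁻¹ * z⁻¹) • c = c := by
      intro c hc
      have h1 : z⁻¹ • c ∈ cv M (cj k A) := by
        have := (cv M (cj k A)).add_mem (c2 (bb_sub ((bb _).inv_mem hy') c)) hc
        rwa [sub_add_cancel] at this
      rw [mul_smul, mul_smul, mul_smul, h1 _ ((cj k A).inv_mem hb), smul_inv_smul, hc b hb]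
    have he3 : (h * f)⁻¹ * (b * z * b⁻¹ * z⁻¹) * (h * f) ∈ cj k A := by
      refine hX _ ?_ fun c hc => ?_
      · have := s.bb_conj (h * f)⁻¹ (x.v.mu s) he1
        rw [inv_inv, f'_sq s x.v, x.v.f'_mu s] at this
        rw [f'_sq s x.v]
        exact this
      · rw [mul_smul, mul_smul, he2 _ (hf' c hc), inv_smul_smul]
    have he4 : ∀ w : M, (b * z * b⁻¹ * z⁻¹) • w - w ∈ S := by
      intro w
      rw [hS, smul_sub_conj, smul_sub_conj, inv_inv, inv_inv]
      exact sub_mem_cm (mem_cj.1 he3) _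
    have h1 := S.neg_mem (he4 (z • b • m))
    have h2 : b • (z • m - m) = z • m - m := c2 (bb_sub hy' m) b hb
    have h3 : -((b * z * b⁻¹ * z⁻¹) • z • b • m - z • b • m) = z • (b • m - m) - (b • m - m) := by
      rw [mul_smul, mul_smul, mul_smul, inv_smul_smul, inv_smul_smul]
      have h4 : b • z • m = b • m + (z • m - m) := by
        rw [← h2, smul_sub]
        abel
      rw [h4, smul_sub]
      abel
    rwa [h3] at h1
  -- `[M, B] ≤ f' R_φ`
  have h5 : ∀ y ∈ A, ∀ r ∈ cm M A, ((h * f) * y * (h * f)⁻¹) • k • r - k • r ∈ S := by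
    intro y hy r hr
    let Q : AddSubgroup M := S.comap ((DistribSMul.toAddMonoidHom M ((h * f) * y * (h * f)⁻¹) -
      AddMonoidHom.id M).comp (DistribSMul.toAddMonoidHom M k))
    have h6 : cm M A ≤ Q := by
      refine cm_le fun a ha m => ?_
      change ((h * f) * y * (h * f)⁻¹) • k • (a • m - m) - k • (a • m - m) ∈ S
      rw [smul_sub_conj]
      exact key y hy _ (conj_mem_cj ha) _
    exact h6 hr
  have h6 : ∀ y ∈ A, ∀ m : M, ((h * f) * y * (h * f)⁻¹) • m - m ∈ S := by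
    intro y hy m
    obtain ⟨u, hu, c, hc, rfl⟩ := x.m_eq m
    obtain ⟨r, hr, d, hd, rfl⟩ := hU u hu
    have hy' : (h * f) * y * (h * f)⁻¹ ∈ (bb (U (h • lam)) : Subgroup H) := by
      have := s.bb_conj (h * f) hl (me.le hy)
      rwa [x.v.f'_lam s] at this
    have h7 := h5 y hy r hr
    have h8 : ((h * f) * y * (h * f)⁻¹) • (k • r + d + c) - (k • r + d + c) =
        ((h * f) * y * (h * f)⁻¹) • k • r - k • r := by
      rw [smul_add, smul_add, hc y hy, bb_fix hy' hd.2]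
      abel
    rw [h8]
    exact h7
  have h7 : ∀ a ∈ A, ∀ m : M, k⁻¹ • (a • m - m) ∈ cm M A := by
    intro a ha m
    have h8 := h6 a ha ((h * f) • m)
    rw [hS, ← smul_sub_conj, inv_smul_smul] at h8
    exact h8
  have h8 := h7 a₀ h0 (h • lam)
  have h9 := hφ _ (cm_le_of_le_bb me.le h8)
  rw [smul_inv_smul] at h9
  have h10 := sub_mem_cm h0 (h • lam)
  by_cases h11 : φ (k⁻¹ • (a₀ • h • lam - h • lam)) = 0
  · rw [← h9.1 h11] at h11
    exact h0' h11
  · have h12 := h9.2 h11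
    have h13 := (cm M A).sub_mem h10 h8
    rw [sub_eq_of_eq_add' h12] at h13
    exact x.free lam h13 hl

/-- (6) -/
theorem six (x : Fx Lam U lam A f h) : Nat.card A ≤ 2 := by
  by_contra hc
  have s := x.s
  have hl := x.v.hl
  have me := x.me
  obtain ⟨-, h1, -, h2⟩ := x.card_A
  have h3 : lam ∈ cs (U lam) (h • lam) A me.le ⊔ (U lam ⊓ U (h • lam)) := by
    rw [h1]
    exact s.mem hl
  rw [AddSubgroup.mem_sup] at h3
  obtain ⟨c1, hc1, d1, hd1, h3⟩ := h3
  -- an element of `[μ, A]` outside `D + ⟨c₁⟩`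
  obtain ⟨w, hw, hw'⟩ : ∃ w ∈ cs (U lam) (h • lam) A me.le, w ∉ (U lam ⊓ U (h • lam)) ⊔ AddSubgroup.zmultiples c1 := by
    by_contra h4
    push Not at h4
    have h5 : cs (U lam) (h • lam) A me.le ≤ AddSubgroup.zmultiples c1 := by
      intro w hw
      have h6 := h4 w hw
      rw [AddSubgroup.mem_sup] at h6
      obtain ⟨d, hd, e, he, h7⟩ := h6
      have h8 : e ∈ cs (U lam) (h • lam) A me.le := by
        rcases mem_zm s he with rfl | rfl
        · exact AddSubgroup.zero_mem _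
        · exact hc1
      have h9 : d ∈ cs (U lam) (h • lam) A me.le ⊓ (U lam ⊓ U (h • lam)) := by
        refine ⟨?_, hd⟩
        have : d = w - e := by rw [← h7, add_sub_cancel_right]
        rw [this]
        exact AddSubgroup.sub_mem _ hw h8
      rw [x.disj, AddSubgroup.mem_bot] at h9
      rw [← h7, h9, zero_add]
      exact he
    have h6 := card_le h5
    rw [h2, Nat.card_zmultiples] at h6
    have h7 : addOrderOf c1 ≤ 2 := by
      refine Nat.le_of_dvd (by norm_num) ?_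
      rw [addOrderOf_dvd_iff_nsmul_eq_zero, two_nsmul]
      exact s.two c1
    omega
  obtain ⟨φ, h4, h5⟩ := exists_fun s.two hw'
  have hd : ∀ d ∈ U lam ⊓ U (h • lam), φ d = 0 := fun d hd => h4 d (AddSubgroup.mem_sup_left hd)
  have hc1' : φ c1 = 0 := h4 c1 (AddSubgroup.mem_sup_right (AddSubgroup.mem_zmultiples c1))
  have hlam : φ lam = 0 := by rw [← h3, map_add, hc1', hd d1 hd1, add_zero]
  obtain ⟨k, hk, hφ⟩ := s.f2 hl φ hlam
  obtain ⟨a₀, h0, rfl⟩ := hw
  refine x.five hk hφ h0 (by rw [h5]; decide) fun u hu => ?_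
  rw [← h1, AddSubgroup.mem_sup] at hu
  obtain ⟨c, hc, d, hd', rfl⟩ := hu
  by_cases h6 : φ c = 0
  · exact ⟨c, cs_le_cm hc, d, hd', by rw [(hφ c (cs_le hc)).1 h6]⟩
  · refine ⟨c + c1, (cm M A).add_mem (cs_le_cm hc) (cs_le_cm hc1), d + d1, AddSubgroup.add_mem _ hd' hd1, ?_⟩
    have h7 : φ (c + c1) ≠ 0 := by rw [map_add, hc1', add_zero]; exact h6
    rw [(hφ _ ((U lam).add_mem (cs_le hc) (cs_le hc1))).2 h7]
    have h8 : c + c1 + lam + (d + d1) = c + d + (c1 + c1) + (d1 + d1) := by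
      rw [← h3]
      abel
    rw [h8, s.two, s.two, add_zero, add_zero]

end Fx

/-- **THEOREM ONE** (helper430, bb #17614): a minimal exact `A ≤ B_λ` with `[M, A] ∩ Λ = ∅` has order 2. -/
theorem one [Finite H] [Finite M] {Lam : Set M} {U : M → AddSubgroup M} {lam : M} {A : Subgroup H}
    (s : Sys H Lam U) (hl : lam ∈ Lam) (me : ME U lam A) (free : ∀ r ∈ cm M A, r ∉ Lam) : Nat.card A = 2 := by
  obtain ⟨f, fA, hf1⟩ : ∃ f ∈ A, f ≠ 1 := by
    by_contra h1
    push Not at h1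
    exact me.ne (eq_bot_iff.2 fun a ha => Subgroup.mem_bot.2 (h1 a ha))
  obtain ⟨h, h1, h2, h3⟩ := s.bs hl f (me.le fA) hf1
  have x : Fx Lam U lam A f h := ⟨s, me, ⟨hl, me.le fA, hf1, h1, h2, h3⟩, fA, free⟩
  refine le_antisymm x.six ?_
  have h4 : Nat.card A ≠ 1 := fun h => me.ne (Subgroup.card_eq_one.1 h)
  have h5 : 0 < Nat.card A := Nat.card_pos
  omega

/-- THEOREM ONE as a transvection: `A = {1, f}`, `[M, A] = {0, c}`, `c ∈ U_λ ∖ Λ`. -/
theorem one' [Finite H] [Finite M] {Lam : Set M} {U : M → AddSubgroup M} {lam : M} {A : Subgroup H}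
    (s : Sys H Lam U) (hl : lam ∈ Lam) (me : ME U lam A) (free : ∀ r ∈ cm M A, r ∉ Lam) :
    ∃ f ∈ A, f ≠ 1 ∧ (∀ a ∈ A, a = 1 ∨ a = f) ∧ ∃ c ∈ cm M A, c ≠ 0 ∧ c ∈ U lam ∧ c ∉ Lam ∧
      ∀ m : M, f • m = m ∨ f • m = m + c := by
  have h1 := one s hl me free
  obtain ⟨f, fA, hf1⟩ : ∃ f ∈ A, f ≠ 1 := by
    by_contra h1
    push Not at h1
    exact me.ne (eq_bot_iff.2 fun a ha => Subgroup.mem_bot.2 (h1 a ha))
  have h2 : ∀ a ∈ A, a = 1 ∨ a = f := by
    intro a ha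
    by_cases h3 : a = 1
    · exact Or.inl h3
    · right
      have h4 := ((Nat.card_eq_two_iff' (1 : A)).1 h1).unique (y₁ := ⟨a, ha⟩) (y₂ := ⟨f, fA⟩)
        (fun h => h3 (congrArg Subtype.val h)) (fun h => hf1 (congrArg Subtype.val h))
      exact congrArg Subtype.val h4
  have h3 : (cv M A).index = 2 := by
    have h4 := me.ex
    rw [h1] at h4
    have h5 : 0 < Nat.card (cv M A) := Nat.card_pos
    refine Nat.eq_of_mul_eq_mul_left h5 ?_
    rw [AddSubgroup.card_mul_index, mul_comm, h4]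
  obtain ⟨m0, hm0⟩ : ∃ m0 : M, f • m0 ≠ m0 := by
    by_contra h4
    push Not at h4
    exact hf1 (s.faith f h4)
  have h4 : ∀ m : M, m ∈ cv M A ↔ f • m = m := fun m =>
    ⟨fun h => h f fA, fun h a ha => by
      rcases h2 a ha with rfl | rfl
      · exact one_smul _ m
      · exact h⟩
  have h5 : f • m0 - m0 ∈ cm M A := sub_mem_cm fA m0
  refine ⟨f, fA, hf1, h2, f • m0 - m0, h5, sub_ne_zero.2 hm0, cm_le_of_le_bb me.le h5, free _ h5, fun m => ?_⟩
  by_cases h6 : f • m = m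
  · exact Or.inl h6
  · right
    have h7 : m + m0 ∈ cv M A := by
      rw [AddSubgroup.add_mem_iff_of_index_two h3, h4, h4]
      exact ⟨fun h => absurd h h6, fun h => absurd h hm0⟩
    rw [h4, smul_add] at h7
    rw [s.sub_eq, ← add_assoc, ← sub_eq_iff_eq_add, s.sub_eq, ← sub_eq_iff_eq_add, s.sub_eq, add_right_comm, h7,
      add_assoc, s.two, add_zero]

end Cfsg.Agent.Omega.NOThree.LL.One
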