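import Cfsg.Agent.Omega.ML.Final
import Cfsg.Agent.Omega.NOThree.LL.Mover
import Cfsg.Agent.Omega.NOThree.LL.One
import Cfsg.Agent.Omega.NOThree.TF.ULam

/-!
# (NO) for subgroups of `H_p` (THEOREM LL, #18157)

* `NoH H M U` : `|B : C_B(M)| |C_M(B)| ≤ |M|` for every subgroup `B` of `H` which centralises `U` and `M/U` (modulo the
  kernel `B` is elementary abelian);
* `noH_of` : it holds for `H = C(p)`, `M = M_p`, `U = I_l/p`, by (ML) (`ML.Final.MLK`).
-/

set_option autoImplicit false
set_option linter.unusedSectionVars false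

namespace Cfsg.Agent.Omega.NOThree.LL

open Subgroup Cfsg Cfsg.Agent.ZN Cfsg.Agent.MinSimple.Geo Cfsg.Agent.Omega.CaseL Cfsg.Agent.Omega.NO3S.TwoOne
open Cfsg.Agent.Omega.NO3S.Pt Cfsg.Agent.Omega.NOThree.TF
open Cfsg.Agent.Omega.ML.MinFrame (orb fxr orb_le smul_mem_orb_self)

universe u v

/-- **(NO) for subgroups of `H`** -/
def NoH (H : Type u) [Group H] (M : Type v) [AddCommGroup M] [DistribMulAction H M] (U : AddSubgroup M) : Prop :=
  ∀ B : Subgroup H, (∀ b ∈ B, (∀ u ∈ U, b • u = u) ∧ ∀ m : M, b • m - m ∈ U) →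
    (kerM H M).relIndex B * Nat.card (One.cv M B) ≤ Nat.card M

section

variable {H : Type u} [Group H] {M : Type v} [AddCommGroup M] [DistribMulAction H M]

/-- the action on `Multiplicative M` -/
abbrev mulAct : MulDistribMulAction H (Multiplicative M) where
  smul h m := Multiplicative.ofAdd (h • Multiplicative.toAdd m)
  one_smul m := by
    change Multiplicative.ofAdd ((1 : H) • Multiplicative.toAdd m) = m
    rw [one_smul]
    rfl
  mul_smul a b m := by
    change Multiplicative.ofAdd ((a * b) • Multiplicative.toAdd m) =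
      Multiplicative.ofAdd (a • b • Multiplicative.toAdd m)
    rw [mul_smul]
  smul_mul h a b := by
    change Multiplicative.ofAdd (h • (Multiplicative.toAdd a + Multiplicative.toAdd b)) =
      Multiplicative.ofAdd (h • Multiplicative.toAdd a + h • Multiplicative.toAdd b)
    rw [smul_add]
  smul_one h := by
    change Multiplicative.ofAdd (h • (0 : M)) = 1
    rw [smul_zero]
    rfl

/-- **(ML) ⟹ (NO)** for a module `M = ⟨λ^H⟩`, `λ` fixed by a Sylow 2-subgroup, `U` normalised by `Stab(λ)`. -/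
theorem noH_of_module [Finite H] [Finite M] (hML : ML.Final.MLK.{u, v}) (hK : IsKGroup H)
    (two : ∀ m : M, m + m = 0) {T : Subgroup H} (hT : IsPGroup 2 T) (hT2 : ¬ 2 ∣ T.index) {lam : M}
    (hlam : ∀ t ∈ T, t • lam = lam) (hspan : ∀ m : M, m ∈ AddSubgroup.closure {v | ∃ g : H, v = g • lam})
    {U : AddSubgroup M} (lamU : lam ∈ U) (hst : ∀ g : H, g • lam = lam → ∀ u ∈ U, g • u ∈ U) : NoH H M U := by
  intro B hB
  let _ : MulDistribMulAction H (Multiplicative M) := mulAct
  have he : ∀ (g : H) (m : Multiplicative M), g • m = Multiplicative.ofAdd (g • Multiplicative.toAdd m) :=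
    fun _ _ => rfl
  have he' : ∀ (g : H) (m : M), g • (Multiplicative.ofAdd m) = Multiplicative.ofAdd (g • m) := fun _ _ => rfl
  let Q : Subgroup H := (One.bb U : Subgroup H)
  have hQ2 : ∀ q ∈ Q, ∀ m : M, q • q • m = m := by
    intro q hq m
    have h1 := One.sub_mul (U := U) hq hq m
    rw [two, sub_eq_zero, mul_smul] at h1
    exact h1
  have hD : ML.Final.Dat (C := H) (V := Multiplicative M) T Q B (Multiplicative.ofAdd lam) := by
    refine ⟨fun v => two _, hT, hT2, fun t ht => ?_, fun q hq => ⟨1, fun v => ?_⟩, fun q hq => ?_, fun g hg q hq => ?_,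
      fun a ha => ⟨a, hB a ha, fun _ => rfl⟩, fun a ha v => ?_⟩
    · rw [he', hlam t ht]
    · rw [pow_one, pow_two, mul_smul]
      exact congrArg Multiplicative.ofAdd (hQ2 q hq _)
    · rw [he', One.bb_fix hq lamU]
    · rw [he'] at hg
      have hg' : g • lam = lam := hg
      have hg'' : g⁻¹ • lam = lam := by rw [inv_smul_eq_iff, hg']
      refine ⟨g * q * g⁻¹, ⟨fun u hu => ?_, fun m => ?_⟩, fun _ => rfl⟩
      · rw [mul_smul, mul_smul, One.bb_fix hq (hst g⁻¹ hg'' u hu), smul_inv_smul]
      · have h1 := hst g hg' _ (One.bb_sub hq (g⁻¹ • m))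
        rwa [smul_sub, smul_inv_smul, ← mul_smul, ← mul_smul] at h1
    · exact congrArg Multiplicative.ofAdd (hQ2 a (hB a ha) _)
  have key := hML.act hK hD
  have horb : orb (⊤ : Subgroup H) (Multiplicative.ofAdd lam) = ⊤ := by
    rw [eq_top_iff]
    intro m _
    have h1 := hspan (Multiplicative.toAdd m)
    have h2 : AddSubgroup.closure {v | ∃ g : H, v = g • lam} ≤
        AddSubgroup.toSubgroup.symm (orb (⊤ : Subgroup H) (Multiplicative.ofAdd lam)) := by
      rw [AddSubgroup.closure_le]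
      rintro _ ⟨g, rfl⟩
      exact smul_mem_orb_self (z := Multiplicative.ofAdd lam) (mem_top g)
    exact h2 h1
  rw [horb, relIndex_top_right] at key
  have h1 : (fxr H (⊤ : Subgroup (Multiplicative M))) = kerM H M := by
    ext g
    constructor
    · exact fun hg m => hg (Multiplicative.ofAdd m) (mem_top _)
    · exact fun hg m _ => hg (Multiplicative.toAdd m)
  rw [h1] at key
  have h2 : Nat.card (One.cv M B) = Nat.card (Cfsg.Agent.ClassTwoFusion.Quad.cv (Multiplicative M) (B : Set H)) :=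
    Nat.card_congr (Equiv.refl _)
  rw [h2]
  calc _ ≤ _ := Nat.mul_le_mul_right _ key
    _ = Nat.card (Multiplicative M) := by rw [mul_comm, Subgroup.card_mul_index]
    _ = Nat.card M := rfl

end

section

variable {G : Type u} [Group G] {M : Type v} [AddCommGroup M]
variable {T V : Subgroup G} {z p x g : G} [DistribMulAction (centralizer ({p} : Set G)) M] {π : G → M}

/-- **(NO) for subgroups of `H_p`** -/
theorem noH_of [Finite G] (hML : ML.Final.MLK.{u, v}) (h : Fr T V z) (hK : IsKGroup (centralizer ({p} : Set G)))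
    (md : Md V p π) (hp : p ∈ cj g V) (hp1 : p ≠ 1) (hx : x ∈ cj g V) (hx1 : x ≠ 1) (hne : x ≠ p)
    {U : AddSubgroup M} (hU : ∀ m, m ∈ U ↔ ∃ a ∈ ii (cj g V), π a = m) : NoH (centralizer ({p} : Set G)) M U := by
  have hc : Col V p x := Col.of_mem hp hx hp1 hx1
  have hfin : Finite M := by
    refine Finite.of_surjective (fun a : ws V p => π a) fun m => ?_
    obtain ⟨a, ha, e⟩ := md.surj m
    exact ⟨⟨a, ha⟩, e⟩
  obtain ⟨T', hT', hTp, hT2, hT3, -, -⟩ := exists_T h hc hne
  have hxw := h.mem_ws_of_col hc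
  refine noH_of_module hML hK (md.two h hc.left) (T := T'.subgroupOf (centralizer ({p} : Set G)))
    (hTp.of_equiv (subgroupOfEquivOfLe hT').symm) hT2 (lam := π x) (fun t ht => ?_) (span_top h md hc hne)
    (Md.lam_mem_U h md hp hp1 hx hU) fun c hcc u hu => Md.stab_U h md hp hp1 hx hx1 hne hU hcc hu
  rw [← md.smul t x hxw, md.eq_iff h hc.left (conj_mem_ws_of_mem t.2 hxw) hxw]
  exact hT3 t (mem_subgroupOf.1 ht)

end

end Cfsg.Agent.Omega.NOThree.LL
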